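import Groth.Agent.GrMod.Quot

/-!
# Graded local cohomology is graded

Helper library (no milestone statements here).
-/

universe u

open DirectSum GrLC

namespace GrothGr

variable {ι : Type} [AddCommGroup ι] [DecidableEq ι]
variable {R : Type u} [CommRing R] (𝒜 : ι → AddSubgroup R) [GradedRing 𝒜]
variable {M : Type u} [AddCommGroup M] [Module R M] (ℳ : ι → AddSubgroup M) [Decomposition ℳ]
  [SetLike.GradedSMul 𝒜 ℳ]

include 𝒜 in
/-- The torsion of a homogeneous ideal is homogeneous. -/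
theorem isHomogeneous_gam {a : Ideal R} (ha : a.IsHomogeneous 𝒜) :
    (gam a M).IsHomogeneous ℳ := by
  classical
  have hpow : ∀ n : ℕ, (a ^ n).IsHomogeneous 𝒜 := by
    intro n
    induction n with
    | zero => rw [pow_zero, Ideal.one_eq_top]; exact Ideal.IsHomogeneous.top 𝒜
    | succ n ih => rw [pow_succ]; exact ih.mul ha
  rintro g x ⟨n, hn⟩
  refine ⟨n, fun r hr => ?_⟩
  rw [← sum_support_decompose 𝒜 r, Finset.sum_smul]
  refine Finset.sum_eq_zero fun c _ => ?_
  rw [← pr_apply ℳ g x, ← pr_smul_add ℳ 𝒜 (decompose 𝒜 r c).2, hn _ (hpow n c hr), map_zero]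

variable (E : StarInjRes 𝒜 ℳ) (a : HomogeneousIdeal 𝒜)

theorem isHomogeneous_cocyc (i : ℕ) : (E.cocyc a i).IsHomogeneous (E.X i).gr :=
  isHomogeneous_inf (isHomogeneous_gam 𝒜 (E.X i).gr a.isHomogeneous)
    (isHomogeneous_ker (E.d_grHom i))

theorem isHomogeneous_cobdy : ∀ i : ℕ, (E.cobdy a i).IsHomogeneous (E.X i).gr
  | 0 => isHomogeneous_bot
  | n + 1 => isHomogeneous_map (E.d_grHom n) (isHomogeneous_gam 𝒜 (E.X n).gr a.isHomogeneous)

theorem Hgr_isInternal (i : ℕ) : DirectSum.IsInternal (E.Hgr a i) := by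
  letI := (subPc_isInternal (E.X i).gr (isHomogeneous_cocyc 𝒜 ℳ E a i)).chooseDecomposition
  have hP : ((E.cobdy a i).comap (E.cocyc a i).subtype).IsHomogeneous
      (subPc (E.X i).gr (E.cocyc a i)) :=
    isHomogeneous_comap (subtype_isGrHom (E.X i).gr (E.cocyc a i)) (isHomogeneous_cobdy 𝒜 ℳ E a i)
  have heq : E.Hgr a i = quotPc (subPc (E.X i).gr (E.cocyc a i))
      ((E.cobdy a i).comap (E.cocyc a i).subtype) := funext fun g => AddSubgroup.ext fun x => Iff.rfl
  rw [heq]
  exact quotPc_isInternal _ hP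

end GrothGr
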