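import Groth.Prelude.Def_GrLC
import Groth.Agent.Gorenstein.InjDim
import Groth.Agent.LocCohBase.Torsion

/-!
# Local cohomology from a resolution by `Γ_I`-acyclic modules

Helper library (no milestone statements here).
-/

universe u

open CategoryTheory

namespace GrothGr

open Groth.LocCohBase

variable {R : Type u} [CommRing R] (I : Ideal R)
variable (X : ℕ → Type u) [∀ n, AddCommGroup (X n)] [∀ n, Module R (X n)]
  (d : ∀ n, X n →ₗ[R] X (n + 1))

/-- Cocycles of `Γ_I X`. -/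
def cyc (n : ℕ) : Submodule R (X n) := GrLC.gam I (X n) ⊓ LinearMap.ker (d n)

/-- The map to the next module of cocycles of `X`. -/
def kerMap (hd : ∀ n, LinearMap.ker (d (n + 1)) = LinearMap.range (d n)) (n : ℕ) :
    X n →ₗ[R] LinearMap.ker (d (n + 1)) :=
  (d n).codRestrict _ fun x => hd n ▸ LinearMap.mem_range_self (d n) x

variable {X d} (hd : ∀ n, LinearMap.ker (d (n + 1)) = LinearMap.range (d n))

theorem kerMap_surjective (n : ℕ) : Function.Surjective (kerMap X d hd n) := by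
  rintro ⟨y, hy⟩
  rw [hd n] at hy
  obtain ⟨x, rfl⟩ := hy
  exact ⟨x, rfl⟩

theorem kerMap_exact (n : ℕ) :
    Function.Exact (LinearMap.ker (d n)).subtype (kerMap X d hd n) := by
  intro x
  refine ⟨fun h => ⟨⟨x, congrArg Subtype.val h⟩, rfl⟩, ?_⟩
  rintro ⟨y, rfl⟩
  exact Subtype.ext y.2

variable (X d) in
/-- Cocycles are the torsion of the kernel. -/
def cycEquiv (n : ℕ) : cyc I X d n ≃ₗ[R] DRing.torsionSub I (LinearMap.ker (d n)) where
  toFun z := ⟨⟨z, z.2.2⟩, by
    obtain ⟨k, hk⟩ := z.2.1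
    exact ⟨k, fun a ha => Subtype.ext (hk a ha)⟩⟩
  map_add' _ _ := rfl
  map_smul' _ _ := rfl
  invFun t := ⟨(t : LinearMap.ker (d n)), by
    obtain ⟨k, hk⟩ := t.2
    exact ⟨⟨k, fun a ha => congrArg Subtype.val (hk a ha)⟩, (t : LinearMap.ker (d n)).2⟩⟩
  left_inv _ := rfl
  right_inv _ := rfl

variable (hX : ∀ n j : ℕ, Subsingleton (LocCoh.H I (j + 1) (X n)))

include hd hX in
theorem shift_iso (n j : ℕ) :
    Nonempty (LocCoh.H I (j + 1) (LinearMap.ker (d (n + 1))) ≃ₗ[R]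
      LocCoh.H I (j + 2) (LinearMap.ker (d n))) := by
  have hS := GrothGoren.seqCx_shortExact _ _ (kerMap_exact hd n) Subtype.val_injective
    (kerMap_surjective hd n)
  refine ⟨LinearEquiv.ofBijective (δ (I := I) hS (j + 1)) ⟨?_, ?_⟩⟩
  · rw [injective_iff_map_eq_zero]
    intro x hx
    obtain ⟨y, rfl⟩ := (exact₃ hS (j + 1) x).1 hx
    exact (congrArg _ (@Subsingleton.elim _ (hX n j) y 0)).trans (map_zero _)
  · intro x
    exact (exact₁ hS (j + 1) x).1 (@Subsingleton.elim _ (hX n (j + 1)) _ _)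

include hd hX in
theorem iso_one : ∀ (i n m : ℕ), m = n + i →
    Nonempty (LocCoh.H I (i + 1) (LinearMap.ker (d n)) ≃ₗ[R]
      LocCoh.H I 1 (LinearMap.ker (d m))) := by
  intro i
  induction i with
  | zero => rintro n m rfl; exact ⟨LinearEquiv.refl R _⟩
  | succ i ih =>
    intro n m hm
    obtain ⟨e₁⟩ := shift_iso I hd hX n i
    obtain ⟨e₂⟩ := ih (n + 1) m (by omega)
    exact ⟨e₁.symm.trans e₂⟩

include hd hX in
theorem cyc_quotient (n : ℕ) :
    Nonempty ((cyc I X d (n + 1) ⧸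
        ((GrLC.gam I (X n)).map (d n)).comap (cyc I X d (n + 1)).subtype) ≃ₗ[R]
      LocCoh.H I 1 (LinearMap.ker (d n))) := by
  have hS := GrothGoren.seqCx_shortExact _ _ (kerMap_exact hd n) Subtype.val_injective
    (kerMap_surjective hd n)
  let Z := LinearMap.ker (d (n + 1))
  let ψ₀ := cycEquiv I X d (n + 1)
  let ψ := ψ₀.trans (h0Equiv I Z).symm
  have hψ : ∀ z, h0Map I (ModuleCat.of R Z) (ψ z) = (ψ₀ z : Z) := fun z =>
    congrArg Subtype.val ((h0Equiv I Z).apply_symm_apply (ψ₀ z))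
  let χ : cyc I X d (n + 1) →ₗ[R] LocCoh.H I 1 (LinearMap.ker (d n)) :=
    (δ (I := I) hS 0) ∘ₗ ψ.toLinearMap
  have hsurj : Function.Surjective χ := by
    intro x
    obtain ⟨y, hy⟩ := (exact₁ hS 0 x).1 (@Subsingleton.elim _ (hX n 0) _ _)
    exact ⟨ψ.symm y, by
      show δ (I := I) hS 0 (ψ (ψ.symm y)) = x
      rw [LinearEquiv.apply_symm_apply, hy]⟩
  have hker : LinearMap.ker χ =
      ((GrLC.gam I (X n)).map (d n)).comap (cyc I X d (n + 1)).subtype := by
    ext z
    rw [LinearMap.mem_ker, Submodule.mem_comap]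
    constructor
    · intro hz
      obtain ⟨y, hy⟩ := (exact₃ hS 0 (ψ z)).1 hz
      refine ⟨h0Map I (ModuleCat.of R (X n)) y, ?_, ?_⟩
      · have : h0Map I (ModuleCat.of R (X n)) y ∈ DRing.torsionSub I (X n) :=
          range_h0Map I (ModuleCat.of R (X n)) ▸ ⟨y, rfl⟩
        exact this
      · have h1 := h0Map_natural I (GrothGoren.seqCx _ _ (kerMap_exact hd n)).g y
        rw [hy] at h1
        exact (congrArg Subtype.val (h1.symm.trans (hψ z)) :)
    · rintro ⟨x, hx, hxz⟩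
      refine (exact₃ hS 0 (ψ z)).2 ⟨(h0Equiv I (X n)).symm ⟨x, hx⟩, ?_⟩
      apply h0Map_injective I (ModuleCat.of R Z)
      refine (h0Map_natural I (GrothGoren.seqCx _ _ (kerMap_exact hd n)).g _).trans ?_
      rw [hψ]
      refine Subtype.ext ?_
      show d n (h0Map I (ModuleCat.of R (X n)) ((h0Equiv I (X n)).symm ⟨x, hx⟩)) = (z : X (n + 1))
      rw [show h0Map I (ModuleCat.of R (X n)) ((h0Equiv I (X n)).symm ⟨x, hx⟩) = x from
        congrArg Subtype.val ((h0Equiv I (X n)).apply_symm_apply ⟨x, hx⟩)]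
      exact hxz
  exact ⟨(Submodule.quotEquivOfEq _ _ hker.symm).trans (χ.quotKerEquivOfSurjective hsurj)⟩

end GrothGr
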