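import Groth.Agent.GrMod.Ext
import Groth.Agent.GrMod.Acyclic

/-!
# Graded local cohomology computes local cohomology

Helper library (no milestone statements here).
-/

universe u

open DirectSum GrLC CategoryTheory

namespace GrothGr

variable {ι : Type} [AddCommGroup ι] [DecidableEq ι]
variable {R : Type u} [CommRing R] [IsNoetherianRing R] (𝒜 : ι → AddSubgroup R) [GradedRing 𝒜]
variable {M : Type u} [AddCommGroup M] [Module R M] (ℳ : ι → AddSubgroup M) [Decomposition ℳ]
  [SetLike.GradedSMul 𝒜 ℳ]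

theorem nonempty_H_equiv (a : HomogeneousIdeal 𝒜) (E : StarInjRes 𝒜 ℳ) (i : ℕ) :
    Nonempty (E.H a i ≃ₗ[R] LocCoh.H a.toIdeal i M) := by
  let X : ℕ → Type u := fun n => (E.X n).carrier
  let e : M ≃ₗ[R] LinearMap.ker (E.d 0) :=
    (LinearEquiv.ofInjective E.ε E.ε_injective).trans (LinearEquiv.ofEq _ _ E.exact_zero.symm)
  let eH : ∀ j, LocCoh.H a.toIdeal j M ≃ₗ[R] LocCoh.H a.toIdeal j (LinearMap.ker (E.d 0)) :=
    fun j => ((localCohomology a.toIdeal j).mapIso e.toModuleIso).toLinearEquiv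
  have hX : ∀ n j : ℕ, Subsingleton (LocCoh.H a.toIdeal (j + 1) (X n)) := fun n j =>
    subsingleton_H_of_isStarInj 𝒜 (E.X n).gr (E.starInj n) a j
  cases i with
  | zero =>
    refine ⟨(Submodule.quotEquivOfEqBot _ ?_).trans ((cycEquiv a.toIdeal X E.d 0).trans
      ((Groth.LocCohBase.h0Equiv a.toIdeal _).symm.trans (eH 0).symm))⟩
    exact (Submodule.comap_bot _).trans (Submodule.ker_subtype _)
  | succ n =>
    obtain ⟨e₁⟩ := cyc_quotient a.toIdeal (X := X) (d := E.d) E.exact_succ hX n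
    obtain ⟨e₂⟩ := iso_one a.toIdeal (X := X) (d := E.d) E.exact_succ hX n 0 n (by omega)
    exact ⟨e₁.trans (e₂.symm.trans (eH (n + 1)).symm)⟩

end GrothGr
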