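import Groth.Agent.GrMod.Summands
import Groth.Agent.GrMod.LocCoh
import Groth.Agent.GrMod.Hgr
import Groth.Agent.LocDual.Top
import Groth.Agent.LocCohTransform.BaseChange
import Groth.Agent.LocCohBase.Cd
import Mathlib.RingTheory.Noetherian.Basic

/-!
# *Local rings, and the top local cohomology of a Gorenstein one

Helper library (no milestone statements here).
-/

universe u

open DirectSum GrLC TensorProduct

namespace GrothGr

variable {ι : Type} [AddCommGroup ι] [DecidableEq ι]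
variable {R : Type u} [CommRing R] [IsNoetherianRing R] (𝒜 : ι → AddSubgroup R) [GradedRing 𝒜]
variable {m : HomogeneousIdeal 𝒜}

/-- Every proper homogeneous ideal of a *local ring lies in `m`. -/
theorem le_of_isStarLocal (hm : IsStarLocal 𝒜 m) {I : Ideal R} (hI : I.IsHomogeneous 𝒜)
    (hne : I ≠ ⊤) : I ≤ m.toIdeal := by
  obtain ⟨M, hM, hmax⟩ := set_has_maximal_iff_noetherian.2 ‹IsNoetherianRing R›
    {J : Ideal R | J.IsHomogeneous 𝒜 ∧ J ≠ ⊤ ∧ I ≤ J} ⟨I, hI, hne, le_rfl⟩
  have hco : IsCoatom (⟨M, hM.1⟩ : HomogeneousIdeal 𝒜) := by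
    refine ⟨fun h => hM.2.1 (congrArg HomogeneousIdeal.toIdeal h :), fun N hN => ?_⟩
    by_contra hNtop
    refine hmax (HomogeneousIdeal.toIdeal N) ⟨HomogeneousIdeal.isHomogeneous N, fun h => hNtop (HomogeneousIdeal.toIdeal_injective h),
      hM.2.2.trans hN.le⟩ ?_
    exact lt_of_le_of_ne hN.le fun h => hN.ne (HomogeneousIdeal.toIdeal_injective h)
  rw [← hm.2 _ hco]
  exact hM.2.2

theorem ne_top_of_isStarLocal (hm : IsStarLocal 𝒜 m) : m.toIdeal ≠ ⊤ := fun h =>
  hm.1.1 (HomogeneousIdeal.toIdeal_injective h)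

/-- A homogeneous element outside `m` is invertible modulo every power of `m`. -/
theorem exists_mul_add_eq_one (hm : IsStarLocal 𝒜 m) {a : ι} {s : R} (hs : s ∈ 𝒜 a)
    (hsm : s ∉ m.toIdeal) (k : ℕ) : ∃ c, ∃ b ∈ m.toIdeal ^ k, c * s + b = 1 := by
  have hpow : (m.toIdeal ^ k).IsHomogeneous 𝒜 := by
    induction k with
    | zero => rw [pow_zero, Ideal.one_eq_top]; exact Ideal.IsHomogeneous.top 𝒜
    | succ n ih => rw [pow_succ]; exact ih.mul m.isHomogeneous
  have htop : Ideal.span {s} ⊔ m.toIdeal ^ k = ⊤ := by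
    by_contra hne
    refine hsm (le_of_isStarLocal 𝒜 hm (Ideal.IsHomogeneous.sup (Ideal.homogeneous_span 𝒜 _
      fun x hx => ⟨a, Set.mem_singleton_iff.1 hx ▸ hs⟩) hpow) hne ?_)
    exact Submodule.mem_sup_left (Ideal.mem_span_singleton_self s)
  obtain ⟨x, hx, b, hb, hxb⟩ := Submodule.mem_sup.1 ((Ideal.eq_top_iff_one _).1 htop)
  obtain ⟨c, rfl⟩ := Ideal.mem_span_singleton'.1 hx
  exact ⟨c, b, hb, hxb⟩

/-- The maximal homogeneous ideal is prime. -/
theorem isPrime_of_isStarLocal [Module.Free ℤ ι] [Module.Finite ℤ ι] (hm : IsStarLocal 𝒜 m) :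
    m.toIdeal.IsPrime := by
  refine isPrime_of_homogeneous 𝒜 m.isHomogeneous (ne_top_of_isStarLocal 𝒜 hm) fun a b x y hx hy hxy => ?_
  by_contra h
  push Not at h
  obtain ⟨c, z, hz, hcz⟩ := exists_mul_add_eq_one 𝒜 hm hx h.1 1
  rw [pow_one] at hz
  refine h.2 ?_
  rw [← one_mul y, ← hcz, add_mul, mul_assoc]
  exact add_mem (Ideal.mul_mem_left _ _ hxy) (Ideal.mul_mem_right _ _ hz)

/-- In a graded `m`-torsion module a submodule containing `s • x` up to `m` contains `x`. -/
theorem mem_of_smul_mem {N : Type u} [AddCommGroup N] [Module R N] (𝒩 : ι → AddSubgroup N)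
    [Decomposition 𝒩] [SetLike.GradedSMul 𝒜 𝒩] (hm : IsStarLocal 𝒜 m)
    (htor : LocCoh.IsPowerTorsion m.toIdeal N) {W : Submodule R N} (hW : W.IsHomogeneous 𝒩)
    {g : ι} {x : N} (hx : x ∈ 𝒩 g) {s : R} (hs : s ∉ m.toIdeal) (hsx : s • x ∈ W) : x ∈ W := by
  obtain ⟨c, hc⟩ : ∃ c, (decompose 𝒜 s c : R) ∉ m.toIdeal := by
    by_contra hcon
    push Not at hcon
    exact hs ((Ideal.IsHomogeneous.mem_iff 𝒜 m.isHomogeneous).2 hcon)
  have h1 := pr_mem_of_isHomogeneous hW hsx (c + g)
  rw [pr_smul_of_mem 𝒜 𝒩 hx, add_sub_cancel_right] at h1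
  obtain ⟨k, hk⟩ := htor x
  obtain ⟨d, b, hb, hdb⟩ := exists_mul_add_eq_one 𝒜 hm (decompose 𝒜 s c).2 hc k
  rw [← one_smul R x, ← hdb, add_smul, hk b hb, add_zero, mul_smul]
  exact W.smul_mem d h1

omit [IsNoetherianRing R] in
/-- A nonzero element killed by a power of `P` has a nonzero multiple killed by `P`. -/
theorem exists_socle {N : Type u} [AddCommGroup N] [Module R N] (P : Ideal R) :
    ∀ (k : ℕ) (x : N), x ≠ 0 → (∀ r ∈ P ^ k, r • x = 0) →
      ∃ r : R, r • x ≠ 0 ∧ ∀ a ∈ P, a • r • x = 0 := by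
  intro k
  induction k with
  | zero =>
    intro x hx h
    exact absurd (by simpa using h 1 (by simp)) hx
  | succ k ih =>
    intro x hx h
    by_cases hk : ∀ r ∈ P ^ k, r • x = 0
    · exact ih x hx hk
    · push Not at hk
      obtain ⟨r, hr, hrx⟩ := hk
      refine ⟨r, hrx, fun a ha => ?_⟩
      rw [← mul_smul]
      exact h _ (by rw [pow_succ']; exact Ideal.mul_mem_mul ha hr)

omit [IsNoetherianRing R] in
theorem Hgr_gradedSMul {M : Type u} [AddCommGroup M] [Module R M] {ℳ : ι → AddSubgroup M}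
    [Decomposition ℳ] [SetLike.GradedSMul 𝒜 ℳ] (E : StarInjRes 𝒜 ℳ) (a : HomogeneousIdeal 𝒜)
    (i : ℕ) : SetLike.GradedSMul 𝒜 (E.Hgr a i) := by
  refine ⟨fun {b g r x} hr hx => ?_⟩
  obtain ⟨z, hz, rfl⟩ := hx
  exact ⟨r • z, smul_mem (E.X i).gr 𝒜 hr hz, map_smul _ _ _⟩

/-- Local cohomology at a prime is local cohomology of the localization. -/
theorem nonempty_localized_H_equiv (P : Ideal R) [P.IsPrime] (M : Type u) [AddCommGroup M]
    [Module R M] (i : ℕ) :
    Nonempty (LocalizedModule P.primeCompl (LocCoh.H P i M) ≃ₗ[Localization.AtPrime P]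
      LocCoh.H (IsLocalRing.maximalIdeal (Localization.AtPrime P)) i
        (LocalizedModule P.primeCompl M)) := by
  set A := Localization.AtPrime P
  obtain ⟨e₁⟩ := Groth.LocCohTransform.nonempty_baseChange_equiv A P M i
  let eH := (IsLocalizedModule.isBaseChange P.primeCompl A
    (LocalizedModule.mkLinearMap P.primeCompl (LocCoh.H P i M))).equiv
  let eM : A ⊗[R] M ≃ₗ[A] LocalizedModule P.primeCompl M :=
    (IsLocalizedModule.isBaseChange P.primeCompl A
      (LocalizedModule.mkLinearMap P.primeCompl M)).equiv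
  have key : ∀ J : Ideal A, J = IsLocalRing.maximalIdeal A →
      Nonempty (LocCoh.H J i (A ⊗[R] M) ≃ₗ[A]
        LocCoh.H (IsLocalRing.maximalIdeal A) i (LocalizedModule P.primeCompl M)) := by
    rintro J rfl
    exact ⟨((localCohomology _ i).mapIso eM.toModuleIso).toLinearEquiv⟩
  obtain ⟨e₂⟩ := key _ (IsLocalization.AtPrime.map_eq_maximalIdeal P A)
  exact ⟨eH.symm ≪≫ₗ e₁ ≪≫ₗ e₂⟩

/-- The top local cohomology of a Gorenstein *local ring is the *injective envelope of `R ⧸ m`. -/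
theorem exists_top_H_equiv (hm : IsStarLocal 𝒜 m) [hP : m.toIdeal.IsPrime]
    (hG : LocCoh.IsGorensteinLocalRing (Localization.AtPrime m.toIdeal))
    (n : ℕ) (hn : m.toIdeal.height = n) (I : StarInjRes 𝒜 𝒜) {E' : Type u} [AddCommGroup E']
    [Module R E'] {𝓔 : ι → AddSubgroup E'} [Decomposition 𝓔] [SetLike.GradedSMul 𝒜 𝓔]
    {e : (R ⧸ m.toIdeal) →ₗ[R] E'} (he : IsStarInjHull 𝒜 (quotGr 𝒜 m) 𝓔 e) :
    ∃ (g : ι) (φ : I.H m n ≃ₗ[R] E'), IsGrHomDeg (I.Hgr m n) 𝓔 φ.toLinearMap g := by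
  classical
  set A := Localization.AtPrime m.toIdeal
  set JA := m.toIdeal.map (algebraMap R A)
  let H := I.H m n
  letI := (Hgr_isInternal 𝒜 𝒜 I m n).chooseDecomposition
  haveI := Hgr_gradedSMul 𝒜 I m n
  have htor : LocCoh.IsPowerTorsion m.toIdeal H := by
    intro x
    obtain ⟨⟨z, hz⟩, rfl⟩ := Submodule.Quotient.mk_surjective _ x
    obtain ⟨k, hk⟩ := hz.1
    refine ⟨k, fun r hr => ?_⟩
    rw [← Submodule.Quotient.mk_smul, show r • (⟨z, hz⟩ : I.cocyc m n) = 0 from Subtype.ext (hk r hr),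
      Submodule.Quotient.mk_zero]
  -- at `m` it is the injective hull of the residue field
  have hdim : ringKrullDim A = n := by
    rw [IsLocalization.AtPrime.ringKrullDim_eq_height m.toIdeal A, hn]
    rfl
  obtain ⟨-, f₀, hf₀⟩ := Groth.LocDual.exists_hull_H_top n A
    ((GrothGoren.isGorenstein_iff A).1 hG) hdim
  obtain ⟨eH⟩ := nonempty_H_equiv 𝒜 𝒜 m I n
  let eH' : LocalizedModule m.toIdeal.primeCompl H ≃ₗ[A] LocalizedModule m.toIdeal.primeCompl (LocCoh.H m.toIdeal n R) :=
    LinearEquiv.ofBijective (LocalizedModule.map m.toIdeal.primeCompl eH.toLinearMap)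
      ⟨LocalizedModule.map_injective _ _ eH.injective, LocalizedModule.map_surjective _ _ eH.surjective⟩
  obtain ⟨eA⟩ := nonempty_localized_H_equiv m.toIdeal R n
  let eR : LocalizedModule m.toIdeal.primeCompl R ≃ₗ[A] A :=
    ((IsLocalizedModule.isBaseChange m.toIdeal.primeCompl A
      (LocalizedModule.mkLinearMap m.toIdeal.primeCompl R)).equiv).symm ≪≫ₗ
        TensorProduct.AlgebraTensorModule.rid R A A
  let eH₀ : LocalizedModule m.toIdeal.primeCompl H ≃ₗ[A] LocCoh.H (IsLocalRing.maximalIdeal A) n A :=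
    eH' ≪≫ₗ eA ≪≫ₗ ((localCohomology _ n).mapIso eR.toModuleIso).toLinearEquiv
  haveI hinjH : Module.Injective A (LocalizedModule m.toIdeal.primeCompl H) :=
    GrothGoren.injLT_one_iff.1 (GrothGoren.injLT_of_equiv eH₀.symm
      (GrothGoren.injLT_one_iff.2 hf₀.isInjective))
  -- the socle has rank one
  have hP' : (core 𝒜 m.toIdeal) = m.toIdeal := m.isHomogeneous.toIdeal_homogeneousCore_eq_self
  have hsoc : Module.length A (LocCoh.torsionBy JA (LocalizedModule m.toIdeal.primeCompl H)) = 1 := by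
    have hJ : JA = IsLocalRing.maximalIdeal A := IsLocalization.AtPrime.map_eq_maximalIdeal m.toIdeal A
    let f₁ := eH₀.symm.toLinearMap ∘ₗ f₀
    have hrange : LinearMap.range f₁ = LocCoh.torsionBy JA (LocalizedModule m.toIdeal.primeCompl H) := by
      refine le_antisymm ?_ fun x hx => ?_
      · rintro _ ⟨q, rfl⟩
        refine (Submodule.mem_torsionBySet_iff _ _).2 fun r => ?_
        show (r : A) • f₁ q = 0
        rw [← map_smul]
        have hr : (r : A) ∈ IsLocalRing.maximalIdeal A := hJ ▸ r.2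
        obtain ⟨q, rfl⟩ := IsLocalRing.residue_surjective q
        rw [show (r : A) • IsLocalRing.residue A q = IsLocalRing.residue A ((r : A) * q) from rfl,
          (IsLocalRing.residue_eq_zero_iff _).2 (Ideal.mul_mem_right _ _ hr), map_zero]
      · rcases eq_or_ne x 0 with rfl | hx0
        · exact zero_mem _
        obtain ⟨r, hr, hr0⟩ := GrothMatlis.IsEssentialInj.exists_smul hf₀.toIsEssentialInj
          (x := eH₀ x) (by simpa using hx0)
        have hru : IsUnit r := by
          by_contra hu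
          refine hr0 ?_
          have hrJ : r ∈ JA := hJ.symm ▸ hu
          rw [← map_smul, show r • x = 0 from (Submodule.mem_torsionBySet_iff _ _).1 hx ⟨r, hrJ⟩,
            map_zero]
        obtain ⟨q, hq⟩ := hr
        refine ⟨(↑hru.unit⁻¹ : A) • q, eH₀.injective ?_⟩
        rw [map_smul, map_smul, show eH₀ (f₁ q) = f₀ q from eH₀.apply_symm_apply _, hq, ← mul_smul,
          IsUnit.val_inv_mul, one_smul]
    rw [← hrange, ← (LinearEquiv.ofInjective f₁ (eH₀.symm.injective.comp hf₀.injective)).length_eq]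
    exact Module.length_eq_one_iff.2 (isSimpleModule_iff_isCoatom.2
      (IsLocalRing.maximalIdeal.isMaximal A).out)
  haveI : (core 𝒜 m.toIdeal).IsPrime := by rw [hP']; exact hP
  have hTh : (LocCoh.torsionBy m.toIdeal H).IsHomogeneous (I.Hgr m n) :=
    isHomogeneous_torsionBy 𝒜 (I.Hgr m n) m.isHomogeneous
  letI := (subPc_isInternal (I.Hgr m n) hTh).chooseDecomposition
  haveI := subPc_gradedSMul 𝒜 (I.Hgr m n) (LocCoh.torsionBy m.toIdeal H)
  obtain ⟨κ, b, hbhom, hb⟩ := exists_homogeneous_coreBasis 𝒜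
    (subPc (I.Hgr m n) (LocCoh.torsionBy m.toIdeal H)) m.toIdeal (fun r hr z => Subtype.ext
      ((Submodule.mem_torsionBySet_iff _ _).1 z.2 ⟨r, (hP'.le hr : r ∈ m.toIdeal)⟩))
  rw [hP'] at hb
  have hcard : ENat.card κ = 1 := (length_torsion_eq_card m.toIdeal hb).symm.trans hsoc
  haveI : Subsingleton κ := (ENat.card_le_one_iff_subsingleton κ).1 hcard.le
  obtain ⟨k⟩ : Nonempty κ := by
    by_contra hne
    haveI := not_nonempty_iff.1 hne
    exact one_ne_zero (hcard.symm.trans ((ENat.card_eq_zero_iff_empty κ).2 ‹IsEmpty κ›))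
  obtain ⟨g, hg⟩ := hbhom k
  set y : H := ((b k : LocCoh.torsionBy m.toIdeal H) : H) with hydef
  have hy : y ∈ I.Hgr m n g := hg
  have hy0 : y ≠ 0 := by
    intro h0
    have := hb.indep (Finsupp.single k 1) (by
      rw [Finsupp.linearCombination_single, one_smul]; exact Subtype.ext h0) k
    rw [Finsupp.single_eq_same] at this
    exact hP.ne_top ((Ideal.eq_top_iff_one _).2 this)
  have hykill : ∀ r ∈ m.toIdeal, r • y = 0 := fun r hr =>
    (Submodule.mem_torsionBySet_iff _ _).1 (b k).2 ⟨r, hr⟩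
  let f := liftElem 𝒜 m y hykill
  have hfinj : Function.Injective f := by
    rw [← LinearMap.ker_eq_bot, Submodule.eq_bot_iff]
    intro q hq
    obtain ⟨r, rfl⟩ := Ideal.Quotient.mk_surjective q
    refine Ideal.Quotient.eq_zero_iff_mem.2 (by_contra fun hr => hy0 ?_)
    have h := mem_of_smul_mem 𝒜 (I.Hgr m n) hm htor (W := ⊥) isHomogeneous_bot hy hr
      (show r • y = 0 from hq)
    exact h
  -- the torsion is the span of `y`
  have hspan : LocCoh.torsionBy m.toIdeal H ≤ R ∙ y := by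
    intro z hz
    obtain ⟨S, -, hS⟩ := exists_sum_pr (I.Hgr m n) z
    rw [← hS]
    refine sum_mem fun j _ => ?_
    have hzj := pr_mem_of_isHomogeneous hTh hz j
    obtain ⟨s, hs, hsz⟩ := hb.span ⟨_, hzj⟩
    refine mem_of_smul_mem 𝒜 (I.Hgr m n) hm htor (isHomogeneous_span_singleton 𝒜 hy)
      (pr_mem (I.Hgr m n) j z) hs ?_
    have hmap : (s • (⟨_, hzj⟩ : LocCoh.torsionBy m.toIdeal H) : LocCoh.torsionBy m.toIdeal H).1 ∈
        (Submodule.span R (Set.range b)).map (LocCoh.torsionBy m.toIdeal H).subtype :=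
      Submodule.mem_map_of_mem hsz
    rw [Submodule.map_span, ← Set.range_comp] at hmap
    refine Submodule.span_mono ?_ hmap
    rintro _ ⟨k', rfl⟩
    rw [Subsingleton.elim k' k]
    rfl
  have hfgr : IsGrHom (quotGr 𝒜 m) (shiftPc (I.Hgr m n) (-g)) f := by
    rintro j _ ⟨r, hr, rfl⟩
    show f (Ideal.Quotient.mk m.toIdeal r) ∈ I.Hgr m n (j - -g)
    rw [sub_neg_eq_add, show f (Ideal.Quotient.mk m.toIdeal r) = r • y from liftElem_mk 𝒜 m y hykill r]
    exact smul_mem (I.Hgr m n) 𝒜 hr hy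
  obtain ⟨h, hh, hhf⟩ : ∃ h : H →ₗ[R] E', IsGrHom (shiftPc (I.Hgr m n) (-g)) 𝓔 h ∧
      ∀ q, h (f q) = e q :=
    let ⟨h₀, h₁, h₂⟩ := he.starInj (GMod.of 𝒜 (R ⧸ m.toIdeal) (quotGr 𝒜 m))
      (GMod.of 𝒜 H (shiftPc (I.Hgr m n) (-g))) f hfgr hfinj e he.grHom
    ⟨h₀, h₁, fun q => LinearMap.congr_fun h₂ q⟩
  have hhy : h y = e 1 := by
    rw [← liftElem_one 𝒜 m y hykill]
    exact hhf 1
  have hhinj : Function.Injective h := by
    rw [← LinearMap.ker_eq_bot, Submodule.eq_bot_iff]
    intro x hx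
    by_contra hx0
    obtain ⟨k', hk'⟩ := htor x
    obtain ⟨r, hr0, hr⟩ := exists_socle m.toIdeal k' x hx0 hk'
    obtain ⟨c, hc⟩ := Submodule.mem_span_singleton.1
      (hspan ((Submodule.mem_torsionBySet_iff _ _).2 fun a => hr a a.2))
    have h1 : e (Ideal.Quotient.mk m.toIdeal c) = 0 := by
      rw [show Ideal.Quotient.mk m.toIdeal c = c • (1 : R ⧸ m.toIdeal) by
          rw [Algebra.smul_def, mul_one]; rfl,
        map_smul, ← hhy, ← map_smul, hc, map_smul, show h x = 0 from hx, smul_zero]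
    refine hr0 ?_
    rw [← hc]
    exact hykill c (Ideal.Quotient.eq_zero_iff_mem.1 (he.injective (h1.trans (map_zero e).symm)))
  have htorE : LocCoh.IsPowerTorsion m.toIdeal E' := fun x => by
    have : x ∈ gam m.toIdeal E' := by rw [gam_eq_top 𝒜 m he]; trivial
    exact this
  -- surjective after localizing
  have hloc : Function.Surjective (LocalizedModule.map m.toIdeal.primeCompl h) := by
    set G := LocalizedModule.map m.toIdeal.primeCompl h
    have hGinj : Function.Injective G := LocalizedModule.map_injective m.toIdeal.primeCompl h hhinj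
    obtain ⟨ρ, hρ⟩ := (GrothMatlis.baer hinjH).extension_property G hGinj LinearMap.id
    intro w
    refine ⟨ρ w, ?_⟩
    by_contra hne
    have hd0 : w - G (ρ w) ≠ 0 := sub_ne_zero.2 (Ne.symm hne)
    have hρd : ρ (w - G (ρ w)) = 0 := by
      rw [map_sub, show ρ (G (ρ w)) = ρ w from LinearMap.congr_fun hρ _, sub_self]
    generalize w - G (ρ w) = d at hd0 hρd
    obtain ⟨d', t, rfl⟩ : ∃ d' t, LocalizedModule.mk d' t = d := by
      induction d using LocalizedModule.induction_on with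
      | h a b => exact ⟨a, b, rfl⟩
    obtain ⟨k', hk'⟩ := htorE d'
    obtain ⟨a, ha0, ha⟩ := exists_socle (R := A) JA k' (LocalizedModule.mk d' t) hd0 fun a ha => by
      rw [← Ideal.map_pow] at ha
      refine Submodule.span_induction (fun y hy => ?_) (zero_smul A _)
        (fun y y' _ _ h h' => by rw [add_smul, h, h', add_zero])
        (fun c y _ h => by rw [smul_eq_mul, mul_smul, h, smul_zero]) ha
      obtain ⟨r, hr, rfl⟩ := hy
      rw [algebraMap_smul, LocalizedModule.smul'_mk, hk' r hr, LocalizedModule.zero_mk]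
    obtain ⟨z, u, hzu, hz⟩ := exists_clear m.toIdeal.primeCompl m.toIdeal (IsNoetherian.noetherian m.toIdeal)
      (a • LocalizedModule.mk d' t) ((Submodule.mem_torsionBySet_iff _ _).2 fun r => ha r r.2)
    obtain ⟨s, hs, q, hq⟩ := exists_smul_mem_of_ess 𝒜 m.toIdeal m.isHomogeneous 𝓔 (LinearMap.range e)
      he.essential hz
    obtain ⟨c, rfl⟩ := Ideal.Quotient.mk_surjective q
    have hq' : h (c • y) = s • z := by
      rw [map_smul, hhy, ← map_smul, ← hq, Algebra.smul_def, mul_one]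
      rfl
    have hGa : a • LocalizedModule.mk d' t = G (LocalizedModule.mk (c • y) (⟨s, hs⟩ * u)) := by
      rw [LocalizedModule.map_mk, hzu, hq']
      exact (LocalizedModule.mk_cancel_common_left (⟨s, hs⟩ : m.toIdeal.primeCompl) u z).symm
    refine ha0 ?_
    have h0 : ρ (a • LocalizedModule.mk d' t) = 0 := by rw [map_smul, hρd, smul_zero]
    rw [hGa, show ρ (G _) = _ from LinearMap.congr_fun hρ _, LinearMap.id_apply] at h0
    rw [hGa, h0, map_zero]
  have hhgr : IsGrHom (shiftPc (I.Hgr m n) (-g)) 𝓔 h := hh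
  have hhdeg : IsGrHomDeg (I.Hgr m n) 𝓔 h (-g) := fun j x hx => hhgr (j + -g) x (by
    show x ∈ I.Hgr m n (j + -g - -g)
    rwa [add_sub_cancel_right])
  have hsurj : Function.Surjective h := by
    rw [← LinearMap.range_eq_top, Submodule.eq_top_iff']
    intro z
    induction z using DirectSum.Decomposition.inductionOn 𝓔 with
    | zero => exact zero_mem _
    | add x x' hx hx' => exact add_mem hx hx'
    | @homogeneous j z =>
      obtain ⟨w, hw⟩ := hloc (LocalizedModule.mk (z : E') 1)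
      induction w using LocalizedModule.induction_on with
      | h x t =>
        rw [LocalizedModule.map_mk, LocalizedModule.mk_eq] at hw
        obtain ⟨u, hu⟩ := hw
        simp only [one_smul, Submonoid.smul_def] at hu
        refine mem_of_smul_mem 𝒜 𝓔 hm htorE (isHomogeneous_range hhgr) z.2
          (show ((u * t : m.toIdeal.primeCompl) : R) ∉ m.toIdeal from (u * t).2) ?_
        rw [Submonoid.coe_mul, mul_smul, ← hu, ← map_smul]
        exact LinearMap.mem_range_self _ _
  exact ⟨-g, LinearEquiv.ofBijective h ⟨hhinj, hsurj⟩, hhdeg⟩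

end GrothGr
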