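import Groth.Agent.GrMod.Hilbert
import Groth.Agent.GrMod.StarLocal

/-!
# Positively graded rings over a field; graded Nakayama at `m`

Helper library (no milestone statements here).
-/

universe u

open DirectSum GrLC

namespace GrothGr

variable {R : Type u} [CommRing R]

section

variable (𝒜 : ℤ → AddSubgroup R) [GradedRing 𝒜]

/-- Nonzero elements of degree zero are units. -/
theorem isUnit_of_mem_zero (h0 : IsField (GrLC.deg0 𝒜)) {x : R} (hx : x ∈ 𝒜 0) (hx0 : x ≠ 0) :
    IsUnit x := by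
  obtain ⟨y, hy⟩ := h0.mul_inv_cancel (a := ⟨x, hx⟩) fun h => hx0 (congrArg Subtype.val h)
  exact IsUnit.of_mul_eq_one (y : R) (congrArg Subtype.val hy)

/-- `R₊` is maximal when `R₀` is a field. -/
theorem isMaximal_irrelevant (hpos : ∀ n : ℤ, n < 0 → 𝒜 n = ⊥) (h0 : IsField (GrLC.deg0 𝒜))
    {m : HomogeneousIdeal 𝒜} (hm : IsStarLocal 𝒜 m)
    (hmsp : m.toIdeal = Ideal.span (⋃ n ∈ Set.Ioi (0 : ℤ), (𝒜 n : Set R))) :
    m.toIdeal.IsMaximal := by
  have hne : m.toIdeal ≠ ⊤ := fun h => hm.1.1 (HomogeneousIdeal.toIdeal_injective h)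
  refine Ideal.isMaximal_iff.2 ⟨fun h => hne ((Ideal.eq_top_iff_one _).2 h), fun J x hJ hxm hxJ => ?_⟩
  have hcong : x - (decompose 𝒜 x 0 : R) ∈ m.toIdeal := by
    rw [hmsp]
    refine mem_irrelevant_of_decompose_zero 𝒜 hpos ?_
    rw [decompose_sub, DirectSum.sub_apply, AddSubgroupClass.coe_sub,
      decompose_of_mem_same 𝒜 (decompose 𝒜 x 0).2, sub_self]
  have hx0 : (decompose 𝒜 x 0 : R) ≠ 0 := fun h => hxm (by simpa [h] using hcong)
  have hmem : (decompose 𝒜 x 0 : R) ∈ J := by simpa using sub_mem hxJ (hJ hcong)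
  exact (Ideal.eq_top_iff_one _).1
    (Ideal.eq_top_of_isUnit_mem _ hmem (isUnit_of_mem_zero 𝒜 h0 (decompose 𝒜 x 0).2 hx0))

end

variable {ι : Type} [AddCommGroup ι] [DecidableEq ι] [IsNoetherianRing R]
variable (𝒜 : ι → AddSubgroup R) [GradedRing 𝒜] {m : HomogeneousIdeal 𝒜}

/-- A homogeneous submodule contains any homogeneous element with a multiple off `m` in it. -/
theorem mem_of_smul_mem' (hm : IsStarLocal 𝒜 m) {N : Type u} [AddCommGroup N] [Module R N]
    (𝒩 : ι → AddSubgroup N) [Decomposition 𝒩] [SetLike.GradedSMul 𝒜 𝒩] {W : Submodule R N}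
    (hW : W.IsHomogeneous 𝒩) {g : ι} {x : N} (hx : x ∈ 𝒩 g) {s : R} (hs : s ∉ m.toIdeal)
    (hsx : s • x ∈ W) : x ∈ W := by
  obtain ⟨c, hc⟩ : ∃ c, (decompose 𝒜 s c : R) ∉ m.toIdeal := by
    by_contra hcon
    push Not at hcon
    exact hs ((Ideal.IsHomogeneous.mem_iff 𝒜 m.isHomogeneous).2 hcon)
  have h1 := pr_mem_of_isHomogeneous hW hsx (c + g)
  rw [pr_smul_of_mem 𝒜 𝒩 hx, add_sub_cancel_right] at h1
  obtain ⟨d, b, hb, hdb⟩ := exists_mul_add_eq_one 𝒜 hm (decompose 𝒜 s c).2 hc 1
  have hu : IsUnit (decompose 𝒜 s c : R) := by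
    have htop : Ideal.span {(decompose 𝒜 s c : R)} = ⊤ := by
      by_contra hne
      refine hc (le_of_isStarLocal 𝒜 hm (Ideal.homogeneous_span 𝒜 _ ?_) hne
        (Ideal.mem_span_singleton_self _))
      intro x hx
      exact ⟨c, Set.mem_singleton_iff.1 hx ▸ (decompose 𝒜 s c).2⟩
    exact Ideal.span_singleton_eq_top.1 htop
  obtain ⟨v, hv⟩ := hu.exists_left_inv
  rw [← one_smul R x, ← hv, mul_smul]
  exact W.smul_mem v h1

/-- A cyclic free localization at `m` gives a graded free module of rank one. -/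
theorem exists_grIso_of_localized [m.toIdeal.IsPrime] (hm : IsStarLocal 𝒜 m) {C : Type u}
    [AddCommGroup C] [Module R C] [Module.Finite R C] (𝒞 : ι → AddSubgroup C) [Decomposition 𝒞]
    [SetLike.GradedSMul 𝒜 𝒞]
    (e : LocalizedModule m.toIdeal.primeCompl C ≃ₗ[Localization.AtPrime m.toIdeal]
      Localization.AtPrime m.toIdeal) :
    ∃ (a : ι) (f : R →ₗ[R] C), Function.Bijective f ∧ IsGrHomDeg 𝒜 𝒞 f a := by
  set A := Localization.AtPrime m.toIdeal
  set S := m.toIdeal.primeCompl
  -- a homogeneous generator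
  obtain ⟨g, c, hc, hcu⟩ : ∃ g, ∃ c ∈ 𝒞 g, IsUnit (e (LocalizedModule.mk c 1)) := by
    by_contra h
    push Not at h
    have hall : ∀ x : C, e (LocalizedModule.mk x 1) ∈ IsLocalRing.maximalIdeal A := by
      intro x
      induction x using DirectSum.Decomposition.inductionOn 𝒞 with
      | zero => rw [LocalizedModule.zero_mk, map_zero]; exact zero_mem _
      | add x y hx hy =>
        have : LocalizedModule.mk (x + y) (1 : S) = LocalizedModule.mk x 1 + LocalizedModule.mk y 1 := by
          rw [LocalizedModule.mk_add_mk]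
          simp
        rw [this, map_add]
        exact add_mem hx hy
      | @homogeneous i x => exact (IsLocalRing.mem_maximalIdeal _).2 (h i x x.2)
    have htop : ∀ w, e w ∈ IsLocalRing.maximalIdeal A := by
      intro w
      induction w using LocalizedModule.induction_on with
      | h x s =>
        have : LocalizedModule.mk x s = IsLocalization.mk' A (1 : R) s • LocalizedModule.mk x (1 : S) := by
          rw [← Localization.mk_eq_mk', LocalizedModule.mk_smul_mk, one_smul, mul_one]
        rw [this, map_smul]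
        exact Ideal.mul_mem_left _ _ (hall x)
    exact (IsLocalRing.maximalIdeal.isMaximal A).ne_top
      ((Ideal.eq_top_iff_one _).2 (e.apply_symm_apply (1 : A) ▸ htop (e.symm 1)))
  refine ⟨g, LinearMap.toSpanSingleton R C c, ⟨?_, ?_⟩, fun i r hr => ?_⟩
  · rw [injective_iff_map_eq_zero]
    intro r hr
    have hr' : ∀ j, (decompose 𝒜 r j : R) • c = 0 := fun j => by
      have h1 := congrArg (pr 𝒞 (j + g)) (show r • c = 0 from hr)
      rwa [pr_smul_of_mem 𝒜 𝒞 hc, add_sub_cancel_right, map_zero] at h1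
    classical
    rw [← sum_support_decompose 𝒜 r]
    refine Finset.sum_eq_zero fun j _ => ?_
    have h2 : algebraMap R A (decompose 𝒜 r j : R) * e (LocalizedModule.mk c 1) = 0 := by
      rw [← smul_eq_mul, ← map_smul, algebraMap_smul, LocalizedModule.smul'_mk, hr' j,
        LocalizedModule.zero_mk, map_zero]
    rw [hcu.mul_left_eq_zero, IsLocalization.map_eq_zero_iff S] at h2
    obtain ⟨s, hs⟩ := h2
    have := mem_of_smul_mem' 𝒜 hm 𝒜 (W := ⊥) isHomogeneous_bot (decompose 𝒜 r j).2
      (s := (s : R)) s.2 (by rw [Submodule.mem_bot, smul_eq_mul]; exact hs)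
    exact this
  · intro x
    suffices hx : x ∈ R ∙ c by
      obtain ⟨r, hr⟩ := Submodule.mem_span_singleton.1 hx
      exact ⟨r, hr⟩
    induction x using DirectSum.Decomposition.inductionOn 𝒞 with
    | zero => exact zero_mem _
    | add x y hx hy => exact add_mem hx hy
    | @homogeneous i x =>
      obtain ⟨⟨t, s⟩, hts⟩ := IsLocalization.surj S (e (LocalizedModule.mk (x : C) 1) * ↑hcu.unit⁻¹)
      have h1 : (s : R) • LocalizedModule.mk (x : C) (1 : S) = t • LocalizedModule.mk c 1 := by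
        apply e.injective
        rw [← algebraMap_smul A (s : R), ← algebraMap_smul A t, map_smul, map_smul, smul_eq_mul,
          smul_eq_mul, ← hts]
        rw [mul_comm (e (LocalizedModule.mk (x : C) 1) * _), mul_assoc (algebraMap R A (s : R)),
          mul_assoc (e (LocalizedModule.mk (x : C) 1)), IsUnit.val_inv_mul, mul_one]
      rw [LocalizedModule.smul'_mk, LocalizedModule.smul'_mk, LocalizedModule.mk_eq] at h1
      obtain ⟨u, hu⟩ := h1
      simp only [one_smul, Submonoid.smul_def, ← mul_smul] at hu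
      refine mem_of_smul_mem' 𝒜 hm 𝒞 (isHomogeneous_span_singleton 𝒜 hc) x.2
        (s := ((u * s : S) : R)) (u * s).2 ?_
      rw [Submonoid.coe_mul, hu]
      exact Submodule.smul_mem _ _ (Submodule.mem_span_singleton_self c)
  · show r • c ∈ 𝒞 (i + g)
    exact smul_mem 𝒞 𝒜 hr hc

end GrothGr
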