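import Groth.Agent.GrMod.LES
import Groth.Agent.GrMod.LocCoh

/-!
# Graded local cohomology along a homogeneous regular element

Helper library (no milestone statements here).
-/

universe u

open DirectSum GrLC

namespace GrothGr

section General

variable {ι : Type} [AddCommGroup ι] [DecidableEq ι]
variable {R : Type u} [CommRing R] {𝒜 : ι → AddSubgroup R} [GradedRing 𝒜]
variable {M N : Type u} [AddCommGroup M] [Module R M] [AddCommGroup N] [Module R N]
  {ℳ : ι → AddSubgroup M} [Decomposition ℳ] [SetLike.GradedSMul 𝒜 ℳ]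
  {𝒩 : ι → AddSubgroup N} [Decomposition 𝒩] [SetLike.GradedSMul 𝒜 𝒩]

/-- The long exact sequence of a homogeneous regular element `x` of degree `d`:
`H^i(M) → H^i(N) → H^{i+1}(M) → H^{i+1}(M)`, where `N = M / x M`. -/
theorem exists_regular_seq (EM : StarInjRes 𝒜 ℳ) (EN : StarInjRes 𝒜 𝒩) (a : HomogeneousIdeal 𝒜)
    {x : R} {d : ι} (hx : x ∈ 𝒜 d) (hreg : IsSMulRegular M x) (π : M →ₗ[R] N)
    (hπ : IsGrHom ℳ 𝒩 π) (hπs : Function.Surjective π)
    (hπk : LinearMap.ker π = LinearMap.range (LinearMap.lsmul R M x)) (i : ℕ) :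
    ∃ (p : EM.H a i →ₗ[R] EN.H a i) (δ : EN.H a i →ₗ[R] EM.H a (i + 1)),
      IsGrHom (EM.Hgr a i) (EN.Hgr a i) p ∧
      IsGrHomDeg (EN.Hgr a i) (EM.Hgr a (i + 1)) δ (-d) ∧
      Function.Exact (fun z : EM.H a i => x • z) p ∧
      Function.Exact p δ ∧ Function.Exact δ (fun z : EM.H a (i + 1) => x • z) ∧
      (i = 0 → Function.Injective (fun z : EM.H a i => x • z)) := by
  let f : M →ₗ[R] M := LinearMap.lsmul R M x
  have hf : IsGrHom (shiftPc ℳ d) ℳ f := fun j m hm => by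
    show x • m ∈ ℳ j
    have := smul_mem ℳ 𝒜 hx (show m ∈ ℳ (j - d) from hm)
    rwa [add_sub_cancel] at this
  obtain ⟨H⟩ := nonempty_horse f π (shiftRes EM d) EN hf hreg hπ hπs hπk
  let EB := H.res hπ hπk hπs
  obtain ⟨χ⟩ := nonempty_resHom 𝒜 EB EM
  obtain ⟨χ'⟩ := nonempty_resHom 𝒜 EM EB
  have hid : ∀ k z, χ.mapH a k (χ'.mapH a k z) = z := fun k z => by
    obtain ⟨z, rfl⟩ := Submodule.Quotient.mk_surjective _ z
    exact (χ.comp χ').mapH_self a k (Submodule.Quotient.mk z)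
  have hid' : ∀ k z, χ'.mapH a k (χ.mapH a k z) = z := fun k z => by
    obtain ⟨z, rfl⟩ := Submodule.Quotient.mk_surjective _ z
    exact (χ'.comp χ).mapH_self a k (Submodule.Quotient.mk z)
  -- the first map is multiplication by `x`
  have hmul : ∀ k (z : EM.H a k), χ.mapH a k (H.inlH a hπ hπk hπs k z) = x • z := by
    intro k z
    obtain ⟨z, rfl⟩ := Submodule.Quotient.mk_surjective _ z
    let φ : ∀ n, (EM.X n).carrier →ₗ[R] (EM.X n).carrier := fun n =>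
      χ.f n ∘ₗ LinearMap.inl R (EM.X n).carrier (EN.X n).carrier -
        x • (LinearMap.id : (EM.X n).carrier →ₗ[R] (EM.X n).carrier)
    have hφ : ∀ n, IsGrHom ((shiftRes EM d).X n).gr (EM.X n).gr (φ n) := fun n j w hw => by
      refine sub_mem (χ.grHom n j _ ⟨hw, zero_mem _⟩) ?_
      have := smul_mem (EM.X n).gr 𝒜 hx (show w ∈ (EM.X n).gr (j - d) from hw)
      rw [add_sub_cancel] at this
      exact this
    have hε : ∀ m : M, φ 0 (EM.ε m) = 0 := fun m => by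
      show χ.f 0 (EM.ε m, 0) - x • EM.ε m = 0
      have h1 : EB.ε (f m) = (EM.ε m, (0 : (EN.X 0).carrier)) := by
        refine Prod.ext (H.u_comp m) ?_
        show EN.ε (π (f m)) = 0
        rw [LinearMap.mem_ker.1 (hπk.ge ⟨m, rfl⟩), map_zero]
      have h2 := χ.comm_ε (f m)
      rw [h1] at h2
      rw [sub_eq_zero]
      exact h2.trans (map_smul EM.ε x m)
    have hd : ∀ n w, φ (n + 1) (EM.d n w) = EM.d n (φ n w) := fun n w => by
      show χ.f (n + 1) (EM.d n w, 0) - x • EM.d n w = EM.d n (χ.f n (w, 0) - x • w)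
      rw [map_sub, map_smul, ← χ.comm]
      congr 2
      refine Prod.ext ?_ ?_
      · exact ((congrArg (fun t : (EM.X (n + 1)).carrier => EM.d n w + t) (map_zero (H.τ n))).trans
          (add_zero _)).symm
      · show (0 : (EN.X (n + 1)).carrier) = EN.d n 0
        rw [map_zero]
    exact (Submodule.Quotient.eq _).2 (cocyc_mem_cobdy_of_null (E := shiftRes EM d) φ hφ hε hd a k z.2)
  refine ⟨H.sndH a hπ hπk hπs i ∘ₗ χ'.mapH a i, H.δ a i, ?_, ?_, ?_, ?_, ?_, ?_⟩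
  · rintro j _ ⟨z, hz, rfl⟩
    exact H.sndH_grHom a hπ hπk hπs i j _ ⟨χ'.cyc a i z, χ'.grHom i j _ hz, rfl⟩
  · intro j z hz
    obtain ⟨w, hw, hwz⟩ := H.δ_grHom a i j z hz
    refine ⟨w, ?_, hwz⟩
    show (w.1 : (EM.X (i + 1)).carrier) ∈ (EM.X (i + 1)).gr (j + -d)
    rw [← sub_eq_add_neg]
    exact hw
  · intro z
    show H.sndH a hπ hπk hπs i (χ'.mapH a i z) = 0 ↔ _
    rw [H.exact_inl_snd a hπ hπk hπs i (χ'.mapH a i z)]
    constructor
    · rintro ⟨w, hw⟩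
      exact ⟨w, ((hmul i w).symm.trans (congrArg (χ.mapH a i) hw)).trans (hid i z)⟩
    · rintro ⟨w, rfl⟩
      exact ⟨w, (hid' i _).symm.trans (congrArg (χ'.mapH a i) (hmul i w))⟩
  · intro z
    refine (H.exact_snd_δ a hπ hπk hπs i z).trans ?_
    constructor
    · rintro ⟨w, rfl⟩
      refine ⟨χ.mapH a i w, ?_⟩
      show H.sndH a hπ hπk hπs i (χ'.mapH a i (χ.mapH a i w)) = _
      rw [hid']
    · rintro ⟨w, rfl⟩
      exact ⟨_, rfl⟩
  · intro z
    refine Iff.trans ?_ (H.exact_δ_inl a hπ hπk hπs i z)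
    constructor
    · intro h
      exact (hid' (i + 1) _).symm.trans
        ((congrArg _ ((hmul (i + 1) z).trans h)).trans (map_zero _))
    · intro h
      exact (hmul (i + 1) z).symm.trans ((congrArg _ h).trans (map_zero _))
  · rintro rfl z w h
    refine H.inlH_zero_injective a hπ hπk hπs ?_
    exact (hid' 0 _).symm.trans ((congrArg _ ((hmul 0 z).trans (h.trans (hmul 0 w).symm))).trans
      (hid' 0 _))

/-- Transport of a resolution along a graded isomorphism. -/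
@[reducible] def resOfIso (E : StarInjRes 𝒜 ℳ) (e : N ≃ₗ[R] M) (he : IsGrHom 𝒩 ℳ e.toLinearMap) :
    StarInjRes 𝒜 𝒩 where
  X := E.X
  d := E.d
  ε := E.ε ∘ₗ e.toLinearMap
  d_grHom := E.d_grHom
  ε_grHom := IsGrHom.comp E.ε_grHom he
  ε_injective := E.ε_injective.comp e.injective
  exact_zero := by
    rw [E.exact_zero, LinearMap.range_comp_of_range_eq_top _ e.range]
  exact_succ := E.exact_succ
  starInj := E.starInj

end General

section Int

theorem endDeg_congr {A B : Type u} [AddCommGroup A] [AddCommGroup B] {𝒢 : ℤ → AddSubgroup A}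
    {ℋ : ℤ → AddSubgroup B} (h : ∀ j, 𝒢 j ≠ ⊥ ↔ ℋ j ≠ ⊥) : endDeg 𝒢 = endDeg ℋ := by
  refine iSup_congr fun j => ?_
  rw [h j]

theorem endDeg_eq_coe_of_max {A : Type u} [AddCommGroup A] {𝒢 : ℤ → AddSubgroup A} {a : ℤ}
    (ha : 𝒢 a ≠ ⊥) (h : ∀ j, a < j → 𝒢 j = ⊥) :
    endDeg 𝒢 = ((a : WithTop ℤ) : WithBot (WithTop ℤ)) :=
  le_antisymm (iSup₂_le fun j hj => by
    have : j ≤ a := not_lt.1 fun hlt => hj (h j hlt)
    exact WithBot.coe_le_coe.2 (WithTop.coe_le_coe.2 this)) (le_iSup₂_of_le a ha le_rfl)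

theorem eq_bot_of_endDeg_lt {A : Type u} [AddCommGroup A] {𝒢 : ℤ → AddSubgroup A} {a j : ℤ}
    (h : endDeg 𝒢 ≤ ((a : WithTop ℤ) : WithBot (WithTop ℤ))) (hj : a < j) : 𝒢 j = ⊥ := by
  by_contra hne
  have := WithTop.coe_le_coe.1 (WithBot.coe_le_coe.1 ((le_iSup₂_of_le j hne le_rfl).trans h))
  omega

theorem coe_add_coe_add_neg (z : WithBot (WithTop ℤ)) (d : ℤ) :
    z + (((-d : ℤ) : WithTop ℤ) : WithBot (WithTop ℤ)) + ((d : WithTop ℤ) : WithBot (WithTop ℤ)) = z := by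
  rw [add_assoc, ← WithBot.coe_add, ← WithTop.coe_add, neg_add_cancel, WithTop.coe_zero,
    WithBot.coe_zero, add_zero]

/-- `endDeg` of the socle-like piece of a multiplication by a degree `d` element. -/
theorem endDeg_eq_add {A B : Type u} [AddCommGroup A] [AddCommGroup B] {𝒢 : ℤ → AddSubgroup A}
    {ℋ : ℤ → AddSubgroup B} (d : ℤ) (h₁ : ∀ j, ℋ j ≠ ⊥ → 𝒢 (j - d) ≠ ⊥)
    (h₂ : ∀ e, 𝒢 e ≠ ⊥ → ∃ e', e ≤ e' ∧ ℋ (e' + d) ≠ ⊥) :
    endDeg ℋ = endDeg 𝒢 + ((d : WithTop ℤ) : WithBot (WithTop ℤ)) := by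
  refine le_antisymm (iSup₂_le fun j hj => ?_) ?_
  · calc ((j : WithTop ℤ) : WithBot (WithTop ℤ))
        = ((((j - d : ℤ) : WithTop ℤ)) : WithBot (WithTop ℤ)) +
            ((d : WithTop ℤ) : WithBot (WithTop ℤ)) := by
          rw [← WithBot.coe_add, ← WithTop.coe_add, sub_add_cancel]
      _ ≤ _ := add_le_add (le_iSup₂_of_le (j - d) (h₁ j hj) le_rfl) le_rfl
  · have h : endDeg 𝒢 ≤ endDeg ℋ + (((-d : ℤ) : WithTop ℤ) : WithBot (WithTop ℤ)) := by
      refine iSup₂_le fun e he => ?_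
      obtain ⟨e', hle, he'⟩ := h₂ e he
      calc ((e : WithTop ℤ) : WithBot (WithTop ℤ))
          ≤ ((e' : WithTop ℤ) : WithBot (WithTop ℤ)) := WithBot.coe_le_coe.2 (WithTop.coe_le_coe.2 hle)
        _ = (((e' + d : ℤ) : WithTop ℤ) : WithBot (WithTop ℤ)) +
            (((-d : ℤ) : WithTop ℤ) : WithBot (WithTop ℤ)) := by
            rw [← WithBot.coe_add, ← WithTop.coe_add, add_neg_cancel_right]
        _ ≤ _ := add_le_add (le_iSup₂_of_le (e' + d) he' le_rfl) le_rfl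
    exact (add_le_add h le_rfl).trans (coe_add_coe_add_neg _ d).le

variable {R : Type u} [CommRing R] {𝒜 : ℤ → AddSubgroup R} [GradedRing 𝒜]
variable {M N : Type u} [AddCommGroup M] [Module R M] [AddCommGroup N] [Module R N]
  {ℳ : ℤ → AddSubgroup M} [Decomposition ℳ] [SetLike.GradedSMul 𝒜 ℳ]
  {𝒩 : ℤ → AddSubgroup N} [Decomposition 𝒩] [SetLike.GradedSMul 𝒜 𝒩]

theorem isPowerTorsion_Hrep (E : StarInjRes 𝒜 ℳ) (a : HomogeneousIdeal 𝒜) (i : ℕ) (x : E.H a i) :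
    ∃ k : ℕ, ∀ r ∈ a.toIdeal ^ k, r • x = 0 := by
  obtain ⟨⟨z, hz⟩, rfl⟩ := Submodule.Quotient.mk_surjective _ x
  obtain ⟨k, hk⟩ := hz.1
  refine ⟨k, fun r hr => ?_⟩
  rw [← Submodule.Quotient.mk_smul, show r • (⟨z, hz⟩ : E.cocyc a i) = 0 from Subtype.ext (hk r hr),
    Submodule.Quotient.mk_zero]

/-- Cutting by a homogeneous regular element raises the end of the next cohomology by its degree. -/
theorem endDeg_step (EM : StarInjRes 𝒜 ℳ) (EN : StarInjRes 𝒜 𝒩) (a : HomogeneousIdeal 𝒜)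
    {x : R} {d : ℤ} (hx : x ∈ 𝒜 d) (hd : 0 ≤ d) (hxa : x ∈ a.toIdeal) (hreg : IsSMulRegular M x)
    (π : M →ₗ[R] N) (hπ : IsGrHom ℳ 𝒩 π) (hπs : Function.Surjective π)
    (hπk : LinearMap.ker π = LinearMap.range (LinearMap.lsmul R M x)) (i : ℕ)
    (hM : Subsingleton (EM.H a i)) :
    endDeg (EN.Hgr a i) =
      endDeg (EM.Hgr a (i + 1)) + ((d : WithTop ℤ) : WithBot (WithTop ℤ)) := by
  obtain ⟨p, δ, -, hδ, -, hpδ, hδx, -⟩ := exists_regular_seq EM EN a hx hreg π hπ hπs hπk i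
  have hinj : Function.Injective δ := by
    refine (injective_iff_map_eq_zero _).2 fun z hz => ?_
    obtain ⟨w, rfl⟩ := (hpδ z).1 hz
    rw [Subsingleton.elim w 0, map_zero]
  refine endDeg_eq_add d (fun j hj h0 => hj ?_) fun e he => ?_
  · rw [eq_bot_iff]
    intro z hz
    refine AddSubgroup.mem_bot.2 (hinj ?_)
    have := hδ j z hz
    rw [← sub_eq_add_neg, h0, AddSubgroup.mem_bot] at this
    rw [this, map_zero]
  · obtain ⟨y, hy, hy0⟩ : ∃ y ∈ EM.Hgr a (i + 1) e, y ≠ 0 := by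
      by_contra h
      push Not at h
      exact he ((AddSubgroup.eq_bot_iff_forall _).2 h)
    obtain ⟨k, hk⟩ := isPowerTorsion_Hrep EM a (i + 1) y
    classical
    have hex : ∃ l : ℕ, x ^ l • y = 0 := ⟨k, hk _ (Ideal.pow_mem_pow hxa k)⟩
    obtain ⟨l, hl⟩ : ∃ l, Nat.find hex = l + 1 := ⟨Nat.find hex - 1, by
      have : Nat.find hex ≠ 0 := fun h => hy0 (by simpa [h] using Nat.find_spec hex)
      omega⟩
    have h1 : x ^ (l + 1) • y = 0 := hl ▸ Nat.find_spec hex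
    have h2 : x ^ l • y ≠ 0 := Nat.find_min hex (by omega)
    have h3 : x ^ l • y ∈ EM.Hgr a (i + 1) ((l : ℤ) * d + e) := by
      obtain ⟨z, hz, rfl⟩ := hy
      refine ⟨x ^ l • z, ?_, map_smul _ _ _⟩
      have := smul_mem (EM.X (i + 1)).gr 𝒜 (SetLike.pow_mem_graded l hx) hz
      rwa [nsmul_eq_mul] at this
    letI := (Hgr_isInternal 𝒜 𝒩 EN a i).chooseDecomposition
    letI := (Hgr_isInternal 𝒜 ℳ EM a (i + 1)).chooseDecomposition
    obtain ⟨w, hw⟩ := (hδx (x ^ l • y)).1 (by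
      show x • x ^ l • y = 0
      rw [← mul_smul, ← pow_succ', h1])
    refine ⟨(l : ℤ) * d + e, by nlinarith, fun hbot => h2 ?_⟩
    have h4 := map_pr_deg (ℳ := EN.Hgr a i) (𝒩 := EM.Hgr a (i + 1)) hδ ((l : ℤ) * d + e + d) w
    rw [show pr (EN.Hgr a i) ((l : ℤ) * d + e + d) w = 0 from
      AddSubgroup.mem_bot.1 (hbot ▸ pr_mem _ _ _), map_zero, add_neg_cancel_right, hw,
      pr_of_mem _ h3] at h4
    exact h4.symm

/-- Graded isomorphisms preserve ends. -/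
theorem endDeg_eq_of_equiv (E : StarInjRes 𝒜 ℳ) (F : StarInjRes 𝒜 𝒩) (e : N ≃ₗ[R] M)
    (he : IsGrHom 𝒩 ℳ e.toLinearMap) (a : HomogeneousIdeal 𝒜) (i : ℕ) :
    endDeg (F.Hgr a i) = endDeg (E.Hgr a i) := by
  obtain ⟨ψ, hψ⟩ := exists_H_equiv F (resOfIso E e he) a i
  letI := (Hgr_isInternal 𝒜 𝒩 F a i).chooseDecomposition
  letI := (Hgr_isInternal 𝒜 ℳ E a i).chooseDecomposition
  refine endDeg_congr fun j => not_congr ⟨fun h => ?_, fun h => ?_⟩
  · rw [eq_bot_iff]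
    intro z hz
    have h4 := map_pr (ℳ := F.Hgr a i) (𝒩 := E.Hgr a i) (f := ψ.toLinearMap) hψ j (ψ.symm z)
    rw [show pr (F.Hgr a i) j (ψ.symm z) = 0 from AddSubgroup.mem_bot.1 (h ▸ pr_mem _ _ _),
      map_zero] at h4
    refine AddSubgroup.mem_bot.2 ((pr_of_mem (E.Hgr a i) hz).symm.trans ?_)
    exact (congrArg (pr (E.Hgr a i) j) (ψ.apply_symm_apply z)).symm.trans h4.symm
  · rw [eq_bot_iff]
    intro z hz
    have : ψ z ∈ (resOfIso E e he).Hgr a i j := hψ j z hz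
    rw [show (resOfIso E e he).Hgr a i j = ⊥ from h, AddSubgroup.mem_bot] at this
    exact AddSubgroup.mem_bot.2 (ψ.map_eq_zero_iff.1 this)

end Int

end GrothGr
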