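import Groth.Agent.GrMod.Ext
import Groth.Agent.GrMod.Step
import Groth.Agent.GrMod.Positive

/-!
# The end of the top local cohomology when the canonical module is free

Helper library (no milestone statements here).
-/

universe u

open DirectSum GrLC

namespace GrothGr

variable {R : Type u} [CommRing R] {𝒜 : ℤ → AddSubgroup R} [GradedRing 𝒜]
  (hpos : ∀ n : ℤ, n < 0 → 𝒜 n = ⊥) {m : HomogeneousIdeal 𝒜}
  (hmsp : m.toIdeal = Ideal.span (⋃ n ∈ Set.Ioi (0 : ℤ), (𝒜 n : Set R)))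

include hpos hmsp in
theorem quotGr_eq_bot {j : ℤ} (hj : j ≠ 0) : quotGr 𝒜 m j = ⊥ := by
  rw [eq_bot_iff]
  rintro _ ⟨r, hr, rfl⟩
  refine AddSubgroup.mem_bot.2 (Ideal.Quotient.eq_zero_iff_mem.2 ?_)
  rcases lt_trichotomy j 0 with hj' | hj' | hj'
  · have : r = 0 := AddSubgroup.mem_bot.1 (hpos j hj' ▸ hr)
    rw [this]
    exact zero_mem _
  · exact absurd hj' hj
  · rw [hmsp]
    exact Ideal.subset_span (Set.mem_biUnion (Set.mem_Ioi.2 hj') hr)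

include hpos hmsp in
theorem quotGr_eq_top (q : R ⧸ m.toIdeal) : q ∈ quotGr 𝒜 m 0 := by
  obtain ⟨r, rfl⟩ := Ideal.Quotient.mk_surjective q
  refine ⟨(decompose 𝒜 r 0 : R), (decompose 𝒜 r 0).2, ?_⟩
  show Ideal.Quotient.mk m.toIdeal (decompose 𝒜 r 0 : R) = Ideal.Quotient.mk m.toIdeal r
  rw [Ideal.Quotient.eq, hmsp]
  refine mem_irrelevant_of_decompose_zero 𝒜 hpos ?_
  rw [decompose_sub, DirectSum.sub_apply, AddSubgroupClass.coe_sub,
    decompose_of_mem_same 𝒜 (decompose 𝒜 r 0).2, sub_self]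

variable {E' : Type u} [AddCommGroup E'] [Module R E'] {𝓔 : ℤ → AddSubgroup E'} [Decomposition 𝓔]
  [SetLike.GradedSMul 𝒜 𝓔] {e : (R ⧸ m.toIdeal) →ₗ[R] E'}

include hpos hmsp in
/-- The *envelope of `R ⧸ R₊` lives in degrees `≤ 0`. -/
theorem hull_piece_eq_bot (he : IsStarInjHull 𝒜 (quotGr 𝒜 m) 𝓔 e) {k : ℤ} (hk : 0 < k) :
    𝓔 k = ⊥ := by
  rw [eq_bot_iff]
  intro w hw
  refine AddSubgroup.mem_bot.2 (by_contra fun hw0 => ?_)
  obtain ⟨l, r, hr, ⟨q, hq⟩, hne⟩ := IsStarEss.exists_homogeneous_smul 𝒜 (ℳ := quotGr 𝒜 m)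
    (f := e) he.toIsStarEss (isHomogeneous_range he.grHom) hw hw0
  have h1 : r • w ∈ 𝓔 (l + k) := smul_mem 𝓔 𝒜 hr hw
  have h0 : e q ∈ 𝓔 0 := he.grHom 0 q (quotGr_eq_top hpos hmsp q)
  have hl : 0 ≤ l := not_lt.1 fun hl => hne (by
    have hr0 : r = 0 := AddSubgroup.mem_bot.1 (hpos l hl ▸ hr)
    rw [hr0, zero_smul])
  apply hne
  rw [← pr_of_mem 𝓔 h1, ← hq, pr_of_mem_ne 𝓔 h0 (by omega)]

include hpos hmsp in
/-- If the canonical module is `R` shifted to degree `a`, the top cohomology ends in degree `-a`. -/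
theorem endDeg_top_of_free (hne : m.toIdeal ≠ ⊤) {C : Type u} [AddCommGroup C] [Module R C]
    {𝒞 : ℤ → AddSubgroup C} [Decomposition 𝒞] [SetLike.GradedSMul 𝒜 𝒞] {n : ℕ}
    {I : StarInjRes 𝒜 𝒜} (he : IsStarInjHull 𝒜 (quotGr 𝒜 m) 𝓔 e)
    (hC : IsStarCanonical 𝒜 𝒞 𝓔 m n I) {a : ℤ} {f : R →ₗ[R] C} (hf : Function.Bijective f)
    (hfdeg : IsGrHomDeg 𝒜 𝒞 f a) :
    endDeg (I.Hgr m n) = (((-a : ℤ) : WithTop ℤ) : WithBot (WithTop ℤ)) := by
  obtain ⟨hfin, φ, hφ⟩ := hC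
  haveI := hfin
  let F := LinearEquiv.ofBijective f hf
  letI := (Hgr_isInternal 𝒜 𝒜 I m n).chooseDecomposition
  have hc : f 1 ∈ 𝒞 a := by simpa using hfdeg 0 1 (SetLike.one_mem_graded 𝒜)
  refine endDeg_eq_coe_of_max ?_ fun j hj => ?_
  · have he1 : e 1 ∈ 𝓔 0 := he.grHom 0 1 (one_mem_quotGr 𝒜 m)
    have he10 : e 1 ≠ 0 := fun h => hne ((Ideal.eq_top_iff_one _).2
      (Ideal.Quotient.eq_zero_iff_mem.1 ((map_one _).trans (he.injective (h.trans (map_zero e).symm)))))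
    let g : C →ₗ[R] E' := LinearMap.toSpanSingleton R E' (e 1) ∘ₗ F.symm.toLinearMap
    have hg : IsGrHomDeg 𝒞 𝓔 g (-a) := by
      intro i c hc'
      have h1 : F.symm c = (decompose 𝒜 (F.symm c) (i - a) : R) := by
        apply F.injective
        rw [F.apply_symm_apply]
        have h2 := map_pr_deg (ℳ := 𝒜) (𝒩 := 𝒞) hfdeg (i - a) (F.symm c)
        rw [sub_add_cancel] at h2
        exact (pr_of_mem 𝒞 hc').symm.trans
          ((congrArg (pr 𝒞 i) (F.apply_symm_apply c)).symm.trans h2.symm)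
      show F.symm c • e 1 ∈ 𝓔 (i + -a)
      have h3 := smul_mem 𝓔 𝒜 (decompose 𝒜 (F.symm c) (i - a)).2 he1
      rw [← h1, add_zero] at h3
      rwa [← sub_eq_add_neg]
    intro h0
    have h1 : φ g ∈ I.Hgr m n (-a) := hφ (-a) g hg
    rw [h0, AddSubgroup.mem_bot, LinearEquiv.map_eq_zero_iff] at h1
    refine he10 ?_
    have := LinearMap.congr_fun h1 (f 1)
    rwa [LinearMap.comp_apply, show F.symm.toLinearMap (f 1) = 1 from F.symm_apply_apply 1,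
      LinearMap.toSpanSingleton_apply, one_smul, LinearMap.zero_apply] at this
  · rw [eq_bot_iff]
    intro z hz
    refine AddSubgroup.mem_bot.2 ?_
    obtain ⟨D, hD⟩ := exists_sum_degPart 𝒜 𝒞 𝓔 (φ.symm z)
    have hdeg : ∀ d, IsGrHomDeg 𝒞 𝓔 (degPart 𝒜 𝒞 𝓔 (φ.symm z) d) d := fun d i c hc' =>
      degPart_isGrHom 𝒜 𝒞 𝓔 (φ.symm z) d (i + d) c (by
        show c ∈ 𝒞 (i + d - d)
        rwa [add_sub_cancel_right])
    have h1 : z = ∑ d ∈ D, φ (degPart 𝒜 𝒞 𝓔 (φ.symm z) d) := by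
      rw [← map_sum, hD, φ.apply_symm_apply]
    have hzero : degPart 𝒜 𝒞 𝓔 (φ.symm z) j = 0 := by
      have hw := hdeg j a (f 1) hc
      rw [hull_piece_eq_bot hpos hmsp he (by omega), AddSubgroup.mem_bot] at hw
      refine LinearMap.ext fun c => ?_
      obtain ⟨r, rfl⟩ := hf.2 c
      rw [show f r = r • f 1 by rw [← map_smul, smul_eq_mul, mul_one], map_smul, hw, smul_zero,
        LinearMap.zero_apply]
    rw [← pr_of_mem (I.Hgr m n) hz, h1, map_sum]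
    refine Finset.sum_eq_zero fun d _ => ?_
    rcases eq_or_ne d j with rfl | hdj
    · rw [hzero, map_zero, map_zero]
    · exact pr_of_mem_ne (I.Hgr m n) (hφ d _ (hdeg d)) hdj

include hpos hmsp in
/-- `Γ(R ⧸ R₊)` ends in degree zero. -/
theorem endDeg_quot_zero (hne : m.toIdeal ≠ ⊤) (F : StarInjRes 𝒜 (quotGr 𝒜 m)) :
    endDeg (F.Hgr m 0) = (((0 : ℤ) : WithTop ℤ) : WithBot (WithTop ℤ)) := by
  haveI : Nontrivial (R ⧸ m.toIdeal) := Ideal.Quotient.nontrivial_iff.2 hne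
  refine endDeg_eq_coe_of_max ?_ fun j hj => ?_
  · have hmem : F.ε 1 ∈ F.cocyc m 0 := by
      refine ⟨⟨1, fun r hr => ?_⟩, F.exact_zero.ge ⟨1, rfl⟩⟩
      rw [← map_smul, Algebra.smul_def, mul_one, Ideal.Quotient.algebraMap_eq,
        Ideal.Quotient.eq_zero_iff_mem.2 (by simpa using hr), map_zero]
    intro h0
    have h1 : (Submodule.Quotient.mk ⟨F.ε 1, hmem⟩ : F.H m 0) ∈ F.Hgr m 0 0 :=
      ⟨⟨F.ε 1, hmem⟩, F.ε_grHom 0 1 (one_mem_quotGr 𝒜 m), rfl⟩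
    rw [h0, AddSubgroup.mem_bot, Submodule.Quotient.mk_eq_zero] at h1
    exact one_ne_zero (F.ε_injective (h1.trans (map_zero F.ε).symm))
  · rw [eq_bot_iff]
    rintro _ ⟨z, hz, rfl⟩
    obtain ⟨q, hq⟩ := F.exact_zero.le z.2.2
    have h0 : (z : (F.X 0).carrier) ∈ (F.X 0).gr 0 := hq ▸ F.ε_grHom 0 q (quotGr_eq_top hpos hmsp q)
    have hz0 : z = 0 := Subtype.ext (by
      rw [← pr_of_mem (F.X 0).gr hz, pr_of_mem_ne (F.X 0).gr h0 (by omega)]
      rfl)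
    rw [hz0, map_zero]
    exact zero_mem _

end GrothGr
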