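import Groth.Agent.GrMod.Basic
import Groth.Prelude.Def_GrLC

/-!
# From gradings by a family of sub-objects to gradings by additive subgroups

Helper library (no milestone statements here).
-/

universe u

open DirectSum GrLC

namespace GrothGr

variable {ι : Type} [AddCommGroup ι] [DecidableEq ι]
variable {R : Type u} [CommRing R] {σ : Type u} [SetLike σ R] [AddSubgroupClass σ R]
  (𝒜 : ι → σ) [GradedRing 𝒜]

/-- The family of additive subgroups underlying a grading. -/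
def agr : ι → AddSubgroup R := fun g => AddSubgroup.ofClass (𝒜 g)

theorem mem_agr {g : ι} {r : R} : r ∈ agr 𝒜 g ↔ r ∈ 𝒜 g := Iff.rfl

open Classical in
theorem agr_isInternal : DirectSum.IsInternal (agr 𝒜) := by
  refine isInternal_of _ (fun x => ?_) fun s v hv hsum g hg => ?_
  · rw [← sum_support_decompose 𝒜 x]
    exact sum_mem fun g _ => AddSubgroup.mem_iSup_of_mem g (decompose 𝒜 x g).2
  · have h : ∀ t : Finset ι, (decompose 𝒜 (∑ i ∈ t, v i) g : R) = if g ∈ t then v g else 0 := by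
      intro t
      induction t using Finset.induction_on with
      | empty => simp
      | insert a t ha ih =>
        rw [Finset.sum_insert ha, decompose_add, DirectSum.add_apply, AddMemClass.coe_add, ih]
        by_cases hga : g = a
        · subst hga
          rw [decompose_of_mem_same 𝒜 (hv g), if_neg ha, if_pos (Finset.mem_insert_self g t),
            add_zero]
        · rw [decompose_of_mem_ne 𝒜 (hv a) (Ne.symm hga), zero_add]
          simp [hga]
    have := h s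
    rw [hsum, if_pos hg, decompose_zero] at this
    simpa using this.symm

noncomputable instance agrGradedRing : GradedRing (agr 𝒜) :=
  { (agr_isInternal 𝒜).chooseDecomposition with
    one_mem := SetLike.one_mem_graded 𝒜
    mul_mem := fun _ _ _ _ hi hj => SetLike.mul_mem_graded (A := 𝒜) hi hj }

theorem decompose_agr (x : R) (g : ι) :
    (decompose (agr 𝒜) x g : R) = (decompose 𝒜 x g : R) := by
  induction x using DirectSum.Decomposition.inductionOn 𝒜 with
  | zero => simp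
  | @homogeneous i r =>
    have hr : (r : R) ∈ agr 𝒜 i := r.2
    by_cases h : i = g
    · subst h
      rw [decompose_of_mem_same (agr 𝒜) hr, decompose_of_mem_same 𝒜 r.2]
    · rw [decompose_of_mem_ne (agr 𝒜) hr h, decompose_of_mem_ne 𝒜 r.2 h]
  | add x y hx hy => simp [decompose_add, hx, hy]

theorem isHomogeneous_agr_iff (I : Ideal R) : I.IsHomogeneous (agr 𝒜) ↔ I.IsHomogeneous 𝒜 :=
  ⟨fun h g r hr => by rw [← decompose_agr]; exact h g hr,
    fun h g r hr => by rw [decompose_agr]; exact h g hr⟩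

/-- A homogeneous ideal, seen in the new grading. -/
def hagr (m : HomogeneousIdeal 𝒜) : HomogeneousIdeal (agr 𝒜) :=
  ⟨m.toIdeal, (isHomogeneous_agr_iff 𝒜 _).2 m.isHomogeneous⟩

theorem hagr_toIdeal (m : HomogeneousIdeal 𝒜) : (hagr 𝒜 m).toIdeal = m.toIdeal := rfl

theorem isStarLocal_agr {m : HomogeneousIdeal 𝒜} (hm : IsStarLocal 𝒜 m) :
    IsStarLocal (agr 𝒜) (hagr 𝒜 m) := by
  let back : HomogeneousIdeal (agr 𝒜) → HomogeneousIdeal 𝒜 := fun J =>
    ⟨J.toIdeal, (isHomogeneous_agr_iff 𝒜 _).1 J.isHomogeneous⟩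
  have hco : ∀ J : HomogeneousIdeal (agr 𝒜), IsCoatom J ↔ IsCoatom (back J) := by
    refine fun J => ⟨fun h => ⟨fun ht => h.1 (HomogeneousIdeal.toIdeal_injective
      (congrArg HomogeneousIdeal.toIdeal ht :)), fun K hK => ?_⟩, fun h => ⟨fun ht => h.1
      (HomogeneousIdeal.toIdeal_injective (congrArg HomogeneousIdeal.toIdeal ht :)), fun K hK => ?_⟩⟩
    · have h2 := h.2 (hagr 𝒜 K) (lt_of_le_of_ne (show J.toIdeal ≤ K.toIdeal from hK.le)
        fun he => hK.ne (HomogeneousIdeal.toIdeal_injective (congrArg HomogeneousIdeal.toIdeal he :)))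
      exact HomogeneousIdeal.toIdeal_injective (congrArg HomogeneousIdeal.toIdeal h2 :)
    · have h2 := h.2 (back K) (lt_of_le_of_ne (show J.toIdeal ≤ K.toIdeal from hK.le)
        fun he => hK.ne (HomogeneousIdeal.toIdeal_injective (congrArg HomogeneousIdeal.toIdeal he :)))
      exact HomogeneousIdeal.toIdeal_injective (congrArg HomogeneousIdeal.toIdeal h2 :)
  refine ⟨(hco _).2 hm.1, fun J hJ => ?_⟩
  exact HomogeneousIdeal.toIdeal_injective
    (congrArg HomogeneousIdeal.toIdeal (hm.2 _ ((hco J).1 hJ)) :)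

variable {M : Type u} [AddCommGroup M] [Module R M]

section

variable {τ : Type u} [SetLike τ M] [AddSubgroupClass τ M]

instance gradedSMul_agr (ℳ : ι → τ) [SetLike.GradedSMul 𝒜 ℳ] :
    SetLike.GradedSMul (agr 𝒜) ℳ :=
  ⟨fun {_ _ _ _} hr hm => SetLike.GradedSMul.smul_mem (A := 𝒜) (B := ℳ) hr hm⟩

theorem gradedSMul_of_agr (ℳ : ι → τ) [SetLike.GradedSMul (agr 𝒜) ℳ] :
    SetLike.GradedSMul 𝒜 ℳ :=
  ⟨fun {_ _ _ _} hr hm => SetLike.GradedSMul.smul_mem (A := agr 𝒜) (B := ℳ) hr hm⟩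

end

/-- A bundled module, seen in the new grading. -/
noncomputable abbrev gagr (X : GMod.{u} 𝒜) : GMod.{u} (agr 𝒜) := GMod.of (agr 𝒜) X.carrier X.gr

/-- A bundled module, seen in the old grading. -/
noncomputable abbrev gback (X : GMod.{u} (agr 𝒜)) : GMod.{u} 𝒜 :=
  @GMod.of ι _ _ R _ σ _ _ 𝒜 _ X.carrier _ _ X.gr _ (gradedSMul_of_agr 𝒜 X.gr)

theorem isStarInj_agr {τ : Type u} [SetLike τ M] [AddSubgroupClass τ M] {ℳ : ι → τ}
    [Decomposition ℳ] [SetLike.GradedSMul 𝒜 ℳ] (h : IsStarInj 𝒜 ℳ) : IsStarInj (agr 𝒜) ℳ :=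
  fun A B f hf hfi g hg => h (gback 𝒜 A) (gback 𝒜 B) f hf hfi g hg

/-- A resolution, seen in the new grading, for any family with the same pieces. -/
noncomputable def resAgr {τ : Type u} [SetLike τ M] [AddSubgroupClass τ M] {ℳ : ι → τ}
    [Decomposition ℳ] [SetLike.GradedSMul 𝒜 ℳ] (I : StarInjRes 𝒜 ℳ) (ℳ' : ι → AddSubgroup M)
    [Decomposition ℳ'] [SetLike.GradedSMul (agr 𝒜) ℳ'] (h : ∀ g x, x ∈ ℳ' g → x ∈ ℳ g) :
    StarInjRes (agr 𝒜) ℳ' where
  X n := gagr 𝒜 (I.X n)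
  d := I.d
  ε := I.ε
  d_grHom := I.d_grHom
  ε_grHom g x hx := I.ε_grHom g x (h g x hx)
  ε_injective := I.ε_injective
  exact_zero := I.exact_zero
  exact_succ := I.exact_succ
  starInj n := @isStarInj_agr ι _ _ R _ σ _ _ 𝒜 _ (I.X n).carrier (I.X n).acg (I.X n).mod _ _ _ (I.X n).gr (I.X n).dec (I.X n).gsmul (I.starInj n)

theorem isStarInjHull_agr {E' : Type u} [AddCommGroup E'] [Module R E'] {𝓔 : ι → AddSubgroup E'}
    [Decomposition 𝓔] [SetLike.GradedSMul 𝒜 𝓔] {m : HomogeneousIdeal 𝒜}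
    {e : (R ⧸ m.toIdeal) →ₗ[R] E'} (he : IsStarInjHull 𝒜 (quotGr 𝒜 m) 𝓔 e) :
    IsStarInjHull (agr 𝒜) (quotGr (agr 𝒜) (hagr 𝒜 m))
      𝓔 (e : (R ⧸ (hagr 𝒜 m).toIdeal) →ₗ[R] E') where
  injective := he.injective
  grHom g x hx := he.grHom g x (by
    obtain ⟨r, hr, rfl⟩ := hx
    exact ⟨r, hr, rfl⟩)
  essential := he.essential
  starInj := isStarInj_agr 𝒜 he.starInj

theorem isStarCanonical_agr {C : Type u} [AddCommGroup C] [Module R C] {𝒞 : ι → AddSubgroup C}
    [Decomposition 𝒞] [SetLike.GradedSMul 𝒜 𝒞] {E' : Type u} [AddCommGroup E'] [Module R E']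
    {𝓔 : ι → AddSubgroup E'} [Decomposition 𝓔] [SetLike.GradedSMul 𝒜 𝓔]
    {m : HomogeneousIdeal 𝒜} {n : ℕ} {I : StarInjRes 𝒜 𝒜}
    (hC : IsStarCanonical 𝒜 𝒞 𝓔 m n I) :
    IsStarCanonical (agr 𝒜) 𝒞 𝓔 (hagr 𝒜 m) n (resAgr 𝒜 I (agr 𝒜) fun _ _ h => h) := by
  obtain ⟨hfin, φ, hφ⟩ := hC
  refine ⟨hfin, φ, fun d f hf => ?_⟩
  obtain ⟨z, hz, hzf⟩ := hφ d f hf
  exact ⟨z, hz, hzf⟩

end GrothGr
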