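import Groth.Agent.GrMod.RegSeq
import Groth.Agent.GrMod.CanonicalEnd
import Groth.Agent.GrMod.Transfer
import Groth.Agent.Gorenstein.Regular
import Mathlib.RingTheory.RegularLocalRing.Polynomial
import Mathlib.RingTheory.MvPolynomial.Ideal
import Mathlib.RingTheory.MvPolynomial.WeightedHomogeneous
import Mathlib.RingTheory.KrullDimension.Polynomial

/-!
# The canonical module of a weighted polynomial ring

Helper library (no milestone statements here).
-/

universe u

open DirectSum GrLC MvPolynomial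
open RingTheory.Sequence (IsRegular IsWeaklyRegular)

namespace GrothGr

variable (k : Type u) [Field k] (N : ℕ)

theorem isGorensteinRing_mvPolynomial : LocCoh.IsGorensteinRing (MvPolynomial (Fin N) k) :=
  ⟨fun p _ => by
    haveI := IsRegularRing.isRegularLocalRing_localization (R := MvPolynomial (Fin N) k) p
    exact (GrothGoren.isGorenstein_iff _).2 (GrothGoren.exists_injLT_of_regular
        (IsLocalRing.maximalIdeal (Localization.AtPrime p)).spanFinrank _ le_rfl)⟩

theorem isCohenMacaulayRing_mvPolynomial :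
    LocCoh.IsCohenMacaulayRing (MvPolynomial (Fin N) k) :=
  ⟨fun p _ => by
    haveI := (isGorensteinRing_mvPolynomial k N).isGorensteinLocalRing_localization p
    exact GrothGoren.isCohenMacaulay _ ((GrothGoren.isGorenstein_iff _).1 inferInstance)⟩

theorem isWeaklyRegular_X : IsWeaklyRegular (MvPolynomial (Fin N) k)
    (List.ofFn (X : Fin N → MvPolynomial (Fin N) k)) := by
  rw [RingTheory.Sequence.isWeaklyRegular_iff_Fin]
  intro i
  have hi : (i : ℕ) < N := by simpa using i.2
  have hJ : Ideal.ofList ((List.ofFn (X : Fin N → MvPolynomial (Fin N) k)).take i) =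
      Ideal.span (X '' {j : Fin N | (j : ℕ) < i}) := by
    show Ideal.span {r | r ∈ (List.ofFn (X : Fin N → MvPolynomial (Fin N) k)).take i} = _
    congr 1
    ext r
    simp only [Set.mem_setOf_eq, Set.mem_image, List.mem_take_iff_getElem, List.getElem_ofFn,
      List.length_ofFn]
    constructor
    · rintro ⟨j, hj, rfl⟩
      rw [lt_min_iff] at hj
      exact ⟨⟨j, hj.2⟩, hj.1, rfl⟩
    · rintro ⟨j, hj, rfl⟩
      exact ⟨j, by omega, rfl⟩
  have hx : (List.ofFn (X : Fin N → MvPolynomial (Fin N) k))[i] = X ⟨i, hi⟩ := by simp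
  rw [hx, hJ, smul_eq_mul, Ideal.mul_top]
  refine IsSMulRegular.of_right_eq_zero_of_smul fun z hz => ?_
  obtain ⟨p, rfl⟩ := Ideal.Quotient.mk_surjective z
  have h0 : X ⟨i, hi⟩ * p ∈ Ideal.span (X '' {j : Fin N | (j : ℕ) < i}) :=
    Ideal.Quotient.eq_zero_iff_mem.1 hz
  refine Ideal.Quotient.eq_zero_iff_mem.2 ?_
  rw [mem_ideal_span_X_image] at h0 ⊢
  intro d hd
  obtain ⟨j, hj, hne⟩ := h0 (Finsupp.single ⟨i, hi⟩ 1 + d) (by
    rw [mem_support_iff, coeff_X_mul]
    exact mem_support_iff.1 hd)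
  refine ⟨j, hj, ?_⟩
  have hji : (⟨i, hi⟩ : Fin N) ≠ j := fun h => by
    have : (j : ℕ) < i := hj
    rw [← h] at this
    exact lt_irrefl _ this
  rwa [Finsupp.add_apply, Finsupp.single_eq_of_ne (Ne.symm hji), zero_add] at hne

variable (w : Fin N → ℤ) (hw : ∀ i, 0 < w i)

attribute [local instance] MvPolynomial.weightedGradedAlgebra

include hw in
theorem weight_nonneg (d : Fin N →₀ ℕ) : 0 ≤ Finsupp.weight w d := by
  rw [Finsupp.weight_apply, Finsupp.sum]
  refine Finset.sum_nonneg fun i _ => ?_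
  rw [nsmul_eq_mul]
  exact mul_nonneg (Int.natCast_nonneg _) (hw i).le

include hw in
theorem eq_zero_of_weight_eq_zero {d : Fin N →₀ ℕ} (h : Finsupp.weight w d = 0) : d = 0 := by
  ext i
  by_contra hi
  rw [Finsupp.weight_apply, Finsupp.sum] at h
  have := (Finset.sum_eq_zero_iff_of_nonneg (fun j _ => by
    rw [nsmul_eq_mul]
    exact mul_nonneg (Int.natCast_nonneg _) (hw j).le)).1 h i (Finsupp.mem_support_iff.2 hi)
  rw [nsmul_eq_mul, mul_eq_zero] at this
  rcases this with h1 | h1
  · exact hi (by exact_mod_cast h1)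
  · exact (hw i).ne' h1

include hw in
theorem agr_weighted_neg {n : ℤ} (hn : n < 0) :
    agr (weightedHomogeneousSubmodule k w) n = ⊥ := by
  rw [eq_bot_iff]
  intro p hp
  refine AddSubgroup.mem_bot.2 (ext _ _ fun d => ?_)
  rw [coeff_zero]
  by_contra hd
  have := (mem_weightedHomogeneousSubmodule k w n p).1 hp hd
  have := weight_nonneg N w hw d
  omega

include hw in
theorem isField_deg0_weighted : IsField (GrLC.deg0 (agr (weightedHomogeneousSubmodule k w))) := by
  refine ⟨⟨0, 1, zero_ne_one⟩, mul_comm, fun {a} ha => ?_⟩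
  have hC : (a : MvPolynomial (Fin N) k) = C (coeff 0 (a : MvPolynomial (Fin N) k)) := by
    ext d
    rcases eq_or_ne d 0 with rfl | hd
    · simp
    · rw [coeff_C, if_neg (Ne.symm hd)]
      by_contra hne
      exact hd (eq_zero_of_weight_eq_zero N w hw
        ((mem_weightedHomogeneousSubmodule k w 0 _).1 a.2 hne))
  have hne : coeff 0 (a : MvPolynomial (Fin N) k) ≠ 0 := fun h => ha (Subtype.ext (by
    rw [hC, h, map_zero]
    rfl))
  refine ⟨⟨C (coeff 0 (a : MvPolynomial (Fin N) k))⁻¹, ?_⟩, Subtype.ext ?_⟩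
  · exact (mem_weightedHomogeneousSubmodule k w 0 _).2 (isWeightedHomogeneous_C _ _)
  · show (a : MvPolynomial (Fin N) k) * C _ = 1
    conv_lhs => rw [hC]
    rw [← map_mul, coeff_C]
    simp [hne]

include hw in
theorem irrelevant_eq_span_X :
    Ideal.span (⋃ n ∈ Set.Ioi (0 : ℤ),
        (weightedHomogeneousSubmodule k w n : Set (MvPolynomial (Fin N) k))) =
      Ideal.span (Set.range (X : Fin N → MvPolynomial (Fin N) k)) := by
  refine le_antisymm (Ideal.span_le.2 fun p hp => ?_) (Ideal.span_le.2 ?_)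
  · obtain ⟨n, hn, hpn⟩ := Set.mem_iUnion₂.1 hp
    rw [SetLike.mem_coe, ← Set.image_univ, mem_ideal_span_X_image]
    intro d hd
    have hwd := (mem_weightedHomogeneousSubmodule k w n p).1 hpn (mem_support_iff.1 hd)
    by_contra h
    push Not at h
    have : d = 0 := Finsupp.ext fun i => h i (Set.mem_univ i)
    rw [this, map_zero] at hwd
    exact (Set.mem_Ioi.1 hn).ne hwd
  · rintro _ ⟨i, rfl⟩
    exact Ideal.subset_span (Set.mem_biUnion (Set.mem_Ioi.2 (hw i))
      ((mem_weightedHomogeneousSubmodule k w (w i) _).2 (isWeightedHomogeneous_X k w i)))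

include hw in
/-- The canonical module of a weighted polynomial ring is `R(-Σ w)`. -/
theorem exists_canonical_polynomial (m : HomogeneousIdeal (weightedHomogeneousSubmodule k w))
    (hm : IsStarLocal (weightedHomogeneousSubmodule k w) m)
    (hmsp : m.toIdeal = Ideal.span (⋃ n ∈ Set.Ioi (0 : ℤ),
      (weightedHomogeneousSubmodule k w n : Set (MvPolynomial (Fin N) k))))
    (I : StarInjRes (weightedHomogeneousSubmodule k w) (weightedHomogeneousSubmodule k w))
    {E' : Type u} [AddCommGroup E'] [Module (MvPolynomial (Fin N) k) E'] {𝓔 : ℤ → AddSubgroup E'}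
    [Decomposition 𝓔] [SetLike.GradedSMul (weightedHomogeneousSubmodule k w) 𝓔]
    {e : (MvPolynomial (Fin N) k ⧸ m.toIdeal) →ₗ[MvPolynomial (Fin N) k] E'}
    (he : IsStarInjHull (weightedHomogeneousSubmodule k w) (quotGr (weightedHomogeneousSubmodule k w) m) 𝓔 e)
    {C : Type u} [AddCommGroup C] [Module (MvPolynomial (Fin N) k) C] {𝒞 : ℤ → AddSubgroup C}
    [Decomposition 𝒞] [SetLike.GradedSMul (weightedHomogeneousSubmodule k w) 𝒞]
    (hC : IsStarCanonical (weightedHomogeneousSubmodule k w) 𝒞 𝓔 m N I) :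
    ∃ f : MvPolynomial (Fin N) k →ₗ[MvPolynomial (Fin N) k] C, Function.Bijective f ∧
      IsGrHomDeg (weightedHomogeneousSubmodule k w) 𝒞 f ((Finset.univ : Finset (Fin N)).sum w) := by
  classical
  set 𝒜 := agr (weightedHomogeneousSubmodule k w) with h𝒜
  haveI := isCohenMacaulayRing_mvPolynomial k N
  haveI := isGorensteinRing_mvPolynomial k N
  let m' := hagr (weightedHomogeneousSubmodule k w) m
  let I' : StarInjRes 𝒜 𝒜 :=
    resAgr (weightedHomogeneousSubmodule k w) I 𝒜 fun _ _ h => h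
  have hpos : ∀ n : ℤ, n < 0 → 𝒜 n = ⊥ := fun n hn => agr_weighted_neg k N w hw hn
  have hm' : IsStarLocal 𝒜 m' := isStarLocal_agr _ hm
  have hmsp' : m'.toIdeal = Ideal.span (⋃ n ∈ Set.Ioi (0 : ℤ), (𝒜 n : Set (MvPolynomial (Fin N) k))) := hmsp
  haveI := isMaximal_irrelevant 𝒜 hpos (isField_deg0_weighted k N w hw) hm' hmsp'
  have hn : ringKrullDim (MvPolynomial (Fin N) k) = N := by
    rw [MvPolynomial.ringKrullDim_of_isNoetherianRing, ringKrullDim_eq_zero_of_field, zero_add,
      Nat.card_eq_fintype_card, Fintype.card_fin]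
  have he' := isStarInjHull_agr (weightedHomogeneousSubmodule k w) he
  have hC' := isStarCanonical_agr (weightedHomogeneousSubmodule k w) hC
  obtain ⟨E₀, _, _, f₀, hf₀, ⟨eK⟩⟩ := exists_local_data 𝒜 he' hC'
  haveI := hC'.1
  obtain ⟨e₁⟩ := (Groth.CanMod.gorenstein_iff
    (LocCoh.IsCohenMacaulayRing.isCohenMacaulayLocalRing_localization m'.toIdeal)
    (ringKrullDim_at_starLocal 𝒜 hm' hn) hf₀ eK).1
    (LocCoh.IsGorensteinRing.isGorensteinLocalRing_localization m'.toIdeal)
  obtain ⟨a, f, hf, hfdeg⟩ := exists_grIso_of_localized 𝒜 hm' 𝒞 e₁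
  refine ⟨f, hf, ?_⟩
  suffices hab : a = (Finset.univ : Finset (Fin N)).sum w by
    rw [← hab]
    exact fun i x hx => hfdeg i x hx
  have hne : m'.toIdeal ≠ ⊤ := ne_top_of_isStarLocal 𝒜 hm'
  have hXspan : m'.toIdeal = Ideal.span (Set.range (X : Fin N → MvPolynomial (Fin N) k)) :=
    hmsp.trans (irrelevant_eq_span_X k N w hw)
  have hreg : IsRegular (MvPolynomial (Fin N) k) (List.ofFn (X : Fin N → MvPolynomial (Fin N) k)) := by
    refine ⟨isWeaklyRegular_X k N, fun h => hne ?_⟩
    rw [smul_eq_mul, Ideal.mul_top] at h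
    rw [hXspan, eq_comm, h]
    show Ideal.span _ = Ideal.span _
    congr 1
    ext r
    simp [List.mem_ofFn, eq_comm]
  let F := starRes 𝒜 (quotGr 𝒜 m')
  have h1 := endDeg_quotient_regular (𝒜 := 𝒜) hpos hm' hn I' (le_refl N) (f := X) (deg := w)
    (fun i => (mem_weightedHomogeneousSubmodule k w (w i) _).2 (isWeightedHomogeneous_X k w i))
    (fun i => hXspan ▸ Ideal.subset_span ⟨i, rfl⟩) hreg (quotGr 𝒜 m')
    (Submodule.mkQ m'.toIdeal) (fun j r hr => ⟨r, hr, rfl⟩) (Submodule.mkQ_surjective _)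
    ((Submodule.ker_mkQ _).trans hXspan) F
  rw [Nat.sub_self, endDeg_quot_zero hpos hmsp' hne F,
    endDeg_top_of_free hpos hmsp' hne he' hC' hf hfdeg, ← WithBot.coe_add, ← WithTop.coe_add] at h1
  have := WithTop.coe_inj.1 (WithBot.coe_inj.1 h1)
  omega

end GrothGr
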