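import Groth.Prelude.Def_Wider
import Groth.Agent.Gorenstein.InjDim
import Groth.Agent.Matlis.Duality

/-!
# `Ext(A ⧸ J, -)` from a resolution by acyclic modules

Helper library (no milestone statements here).
-/

universe u

open CategoryTheory

namespace GrothGr

variable {A : Type u} [CommRing A] (J : Ideal A)

/-- `Ext^i(A ⧸ J, M)`. -/
abbrev ExtQ (M : Type u) [AddCommGroup M] [Module A M] (i : ℕ) : Type u :=
  Abelian.Ext.{u} (ModuleCat.of A (A ⧸ J)) (ModuleCat.of A M) i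

/-- Degree zero. -/
noncomputable def extQZeroEquiv (M : Type u) [AddCommGroup M] [Module A M] :
    ExtQ J M 0 ≃ₗ[A] LocCoh.torsionBy J M :=
  (Abelian.Ext.linearEquiv₀ (R := A)).trans
    ((ModuleCat.homLinearEquiv (S := A)).trans (GrothMatlis.dualQuotientEquiv J))

theorem extQZeroEquiv_mk₀ (M : Type u) [AddCommGroup M] [Module A M]
    (f : ModuleCat.of A (A ⧸ J) ⟶ ModuleCat.of A M) :
    ((extQZeroEquiv J M (Abelian.Ext.mk₀ f)) : M) = f (1 : A ⧸ J) := by
  have h : Abelian.Ext.linearEquiv₀ (R := A) (Abelian.Ext.mk₀ f) = f :=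
    (Abelian.Ext.linearEquiv₀ (R := A)).apply_symm_apply f
  show ((GrothMatlis.dualQuotientEquiv J
    (ModuleCat.homLinearEquiv (S := A) (Abelian.Ext.linearEquiv₀ (R := A) (Abelian.Ext.mk₀ f)))) : M) = _
  rw [h]
  rfl

/-- Functoriality in the module. -/
noncomputable def extQCongr {M N : Type u} [AddCommGroup M] [Module A M] [AddCommGroup N]
    [Module A N] (e : M ≃ₗ[A] N) (i : ℕ) : ExtQ J M i ≃ₗ[A] ExtQ J N i :=
  LinearEquiv.ofLinearMap
    ((Abelian.Ext.mk₀ e.toModuleIso.hom).postcompOfLinear A _ (add_zero i))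
    ((Abelian.Ext.mk₀ e.toModuleIso.inv).postcompOfLinear A _ (add_zero i))
    (LinearMap.ext fun x => by simp [← ModuleCat.ofHom_comp])
    (LinearMap.ext fun x => by simp [← ModuleCat.ofHom_comp])

variable (X : ℕ → Type u) [∀ n, AddCommGroup (X n)] [∀ n, Module A (X n)]
  (d : ∀ n, X n →ₗ[A] X (n + 1))

/-- Cocycles of `Hom(A ⧸ J, X)`. -/
abbrev cycT (n : ℕ) : Submodule A (X n) := LocCoh.torsionBy J (X n) ⊓ LinearMap.ker (d n)

/-- Coboundaries of `Hom(A ⧸ J, X)`. -/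
def cobT : (n : ℕ) → Submodule A (X n)
  | 0 => ⊥
  | n + 1 => (LocCoh.torsionBy J (X n)).map (d n)

/-- Cohomology of `Hom(A ⧸ J, X)`. -/
abbrev HT (n : ℕ) : Type u := cycT J X d n ⧸ (cobT J X d n).comap (cycT J X d n).subtype

/-- Cocycles are the torsion of the kernel. -/
def cycTEquiv (n : ℕ) : cycT J X d n ≃ₗ[A] LocCoh.torsionBy J (LinearMap.ker (d n)) where
  toFun z := ⟨⟨z, z.2.2⟩, (Submodule.mem_torsionBySet_iff _ _).2 fun r =>
    Subtype.ext ((Submodule.mem_torsionBySet_iff _ _).1 z.2.1 r)⟩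
  map_add' _ _ := rfl
  map_smul' _ _ := rfl
  invFun t := ⟨(t : LinearMap.ker (d n)), (Submodule.mem_torsionBySet_iff _ _).2 fun r =>
    congrArg Subtype.val ((Submodule.mem_torsionBySet_iff _ _).1 t.2 r),
    (t : LinearMap.ker (d n)).2⟩
  left_inv _ := rfl
  right_inv _ := rfl

variable {X d}

/-- Exact sequences `0 → ker d n → X n → ker d (n+1) → 0`. -/
theorem kerSeq (hd : ∀ n, LinearMap.ker (d (n + 1)) = LinearMap.range (d n)) (n : ℕ) :
    ∃ g : X n →ₗ[A] LinearMap.ker (d (n + 1)), Function.Exact (LinearMap.ker (d n)).subtype g ∧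
      Function.Surjective g ∧ ∀ x, (g x : X (n + 1)) = d n x := by
  refine ⟨(d n).codRestrict _ fun x => hd n ▸ LinearMap.mem_range_self (d n) x, fun x => ?_, ?_,
    fun _ => rfl⟩
  · refine ⟨fun h => ⟨⟨x, congrArg Subtype.val h⟩, rfl⟩, ?_⟩
    rintro ⟨y, rfl⟩
    exact Subtype.ext y.2
  · rintro ⟨y, hy⟩
    rw [hd n] at hy
    obtain ⟨x, rfl⟩ := hy
    exact ⟨x, rfl⟩

variable (hd : ∀ n, LinearMap.ker (d (n + 1)) = LinearMap.range (d n))
  (hX : ∀ n j : ℕ, GrothGoren.ExtZ A (A ⧸ J) (X n) (j + 1))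

include hd hX in
theorem extQ_shift (n j : ℕ) :
    Nonempty (ExtQ J (LinearMap.ker (d (n + 1))) (j + 1) ≃ₗ[A]
      ExtQ J (LinearMap.ker (d n)) (j + 2)) := by
  obtain ⟨g, hex, hg, -⟩ := kerSeq hd n
  have hS := GrothGoren.seqCx_shortExact _ g hex Subtype.val_injective hg
  refine ⟨LinearEquiv.ofBijective (hS.extClass.postcompOfLinear A _ rfl) ⟨?_, ?_⟩⟩
  · rw [injective_iff_map_eq_zero]
    intro x hx
    obtain ⟨y, rfl⟩ := Abelian.Ext.covariant_sequence_exact₃ _ hS x rfl hx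
    rw [Subsingleton.elim (h := hX n j) y 0, Abelian.Ext.zero_comp]
  · intro x
    exact Abelian.Ext.covariant_sequence_exact₁ _ hS x (Subsingleton.elim (h := hX n (j + 1)) _ _) rfl

include hd hX in
theorem extQ_one : ∀ (i n m : ℕ), m = n + i →
    Nonempty (ExtQ J (LinearMap.ker (d n)) (i + 1) ≃ₗ[A] ExtQ J (LinearMap.ker (d m)) 1) := by
  intro i
  induction i with
  | zero => rintro n m rfl; exact ⟨LinearEquiv.refl A _⟩
  | succ i ih =>
    intro n m hm
    obtain ⟨e₁⟩ := extQ_shift J hd hX n i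
    obtain ⟨e₂⟩ := ih (n + 1) m (by omega)
    exact ⟨e₁.symm.trans e₂⟩

include hd hX in
theorem HT_succ_equiv (n : ℕ) :
    Nonempty (HT J X d (n + 1) ≃ₗ[A] ExtQ J (LinearMap.ker (d n)) 1) := by
  obtain ⟨g, hex, hg, hgd⟩ := kerSeq hd n
  have hS := GrothGoren.seqCx_shortExact _ g hex Subtype.val_injective hg
  let Z := LinearMap.ker (d (n + 1))
  let ψ := (cycTEquiv J X d (n + 1)).trans (extQZeroEquiv J Z).symm
  let χ : cycT J X d (n + 1) →ₗ[A] ExtQ J (LinearMap.ker (d n)) 1 :=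
    (hS.extClass.postcompOfLinear A (ModuleCat.of A (A ⧸ J)) (a := 0) rfl) ∘ₗ ψ.toLinearMap
  have hsurj : Function.Surjective χ := by
    intro x
    obtain ⟨y, hy⟩ := Abelian.Ext.covariant_sequence_exact₁ _ hS x
      (Subsingleton.elim (h := hX n 0) _ _) (n₀ := 0) rfl
    refine ⟨ψ.symm y, ?_⟩
    show (ψ (ψ.symm y)).comp hS.extClass rfl = x
    rw [LinearEquiv.apply_symm_apply, hy]
  have hker : LinearMap.ker χ = (cobT J X d (n + 1)).comap (cycT J X d (n + 1)).subtype := by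
    ext z
    rw [LinearMap.mem_ker, Submodule.mem_comap]
    have hψz : ∀ f, Abelian.Ext.mk₀ f = ψ z → ((f (1 : A ⧸ J)) : X (n + 1)) = (z : X (n + 1)) := by
      intro f hf
      have h := extQZeroEquiv_mk₀ J Z f
      rw [hf] at h
      rw [← h]
      exact congrArg (fun t : LocCoh.torsionBy J Z => ((t : Z) : X (n + 1)))
        ((extQZeroEquiv J Z).apply_symm_apply (cycTEquiv J X d (n + 1) z))
    constructor
    · intro hz
      obtain ⟨y, hy⟩ := Abelian.Ext.covariant_sequence_exact₃ _ hS (ψ z) (n₁ := 0 + 1) rfl hz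
      obtain ⟨f, rfl⟩ := (Abelian.Ext.mk₀_bijective _ _).2 y
      rw [Abelian.Ext.mk₀_comp_mk₀] at hy
      refine ⟨f (1 : A ⧸ J), ?_, ?_⟩
      · have := (extQZeroEquiv J (X n) (Abelian.Ext.mk₀ f)).2
        rwa [extQZeroEquiv_mk₀] at this
      · show d n (f (1 : A ⧸ J)) = _
        rw [← hgd]
        exact hψz _ hy
    · rintro ⟨x, hx, hxz⟩
      obtain ⟨f, hf⟩ := (Abelian.Ext.mk₀_bijective _ _).2 ((extQZeroEquiv J (X n)).symm ⟨x, hx⟩)
      have hfx : f (1 : A ⧸ J) = x := by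
        rw [← extQZeroEquiv_mk₀ J (X n) f, hf, LinearEquiv.apply_symm_apply]
      have heq : ψ z = Abelian.Ext.mk₀ (f ≫ (GrothGoren.seqCx _ g hex).g) := by
        refine (extQZeroEquiv J Z).injective (Subtype.ext (Subtype.ext ?_))
        rw [extQZeroEquiv_mk₀]
        show _ = (g (f (1 : A ⧸ J)) : X (n + 1))
        rw [hgd, hfx]
        exact (congrArg (fun t : LocCoh.torsionBy J Z => ((t : Z) : X (n + 1)))
          ((extQZeroEquiv J Z).apply_symm_apply (cycTEquiv J X d (n + 1) z))).trans hxz.symm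
      show (ψ z).comp hS.extClass rfl = 0
      rw [heq, ← Abelian.Ext.mk₀_comp_mk₀, Abelian.Ext.comp_assoc_of_second_deg_zero,
        hS.comp_extClass, Abelian.Ext.comp_zero]
  exact ⟨(Submodule.quotEquivOfEq _ _ hker.symm).trans (χ.quotKerEquivOfSurjective hsurj)⟩

include hd hX in
/-- `Ext` is the cohomology of `Hom(A ⧸ J, X)` for a resolution `M → X` by acyclic modules. -/
theorem nonempty_extQ_equiv {M : Type u} [AddCommGroup M] [Module A M] (ε : M →ₗ[A] X 0)
    (hε : Function.Injective ε) (h0 : LinearMap.ker (d 0) = LinearMap.range ε) (i : ℕ) :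
    Nonempty (ExtQ J M i ≃ₗ[A] HT J X d i) := by
  let e : M ≃ₗ[A] LinearMap.ker (d 0) :=
    (LinearEquiv.ofInjective ε hε).trans (LinearEquiv.ofEq _ _ h0.symm)
  cases i with
  | zero =>
    exact ⟨((extQCongr J e 0).trans ((extQZeroEquiv J _).trans (cycTEquiv J X d 0).symm)).trans
      (Submodule.quotEquivOfEqBot _ ((Submodule.comap_bot _).trans (Submodule.ker_subtype _))).symm⟩
  | succ n =>
    obtain ⟨e₁⟩ := HT_succ_equiv J hd hX n
    obtain ⟨e₂⟩ := extQ_one J hd hX n 0 n (by omega)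
    exact ⟨(extQCongr J e (n + 1)).trans (e₂.trans e₁.symm)⟩

end GrothGr
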