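import Groth.Agent.GrMod.Core
import Mathlib.LinearAlgebra.FreeModule.PID
import Mathlib.LinearAlgebra.Dimension.Constructions
import Mathlib.RingTheory.RegularLocalRing.Polynomial
import Mathlib.RingTheory.Ideal.Height
import Mathlib.RingTheory.KrullDimension.Polynomial

/-!
# The quotient by the homogeneous core, localized at the prime

For a Noetherian ring graded by a finitely generated free group and a prime `p` with prime
core `P`, the ring `(R ⧸ P)_p` is a localization of a polynomial ring over a field, hence regular,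
and its dimension is at most the rank of the group. Helper library (no milestone statements here).
-/

universe u

open DirectSum GrLC

namespace GrothGr

variable {ι : Type} [AddCommGroup ι] [DecidableEq ι]
variable {R : Type u} [CommRing R] (𝒜 : ι → AddSubgroup R) [GradedRing 𝒜]
variable (p : Ideal R) [hp : p.IsPrime]

/-- `(R ⧸ p*)_p`. -/
abbrev CoreLoc : Type u :=
  Localization.AtPrime p ⧸ (core 𝒜 p).map (algebraMap R (Localization.AtPrime p))

/-- The canonical map. -/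
noncomputable abbrev toCoreLoc : R →+* CoreLoc 𝒜 p :=
  (Ideal.Quotient.mk _).comp (algebraMap R (Localization.AtPrime p))

variable [hP : (core 𝒜 p).IsPrime]

omit hP in
theorem disjoint_core : Disjoint (p.primeCompl : Set R) (core 𝒜 p : Set R) :=
  Set.disjoint_left.2 fun _ hs hP => hs (core_le 𝒜 p hP)

instance isPrime_coreMap : ((core 𝒜 p).map (algebraMap R (Localization.AtPrime p))).IsPrime :=
  IsLocalization.isPrime_of_isPrime_disjoint p.primeCompl _ _ hP (disjoint_core 𝒜 p)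

theorem toCoreLoc_eq_zero {r : R} : toCoreLoc 𝒜 p r = 0 ↔ r ∈ core 𝒜 p := by
  rw [RingHom.comp_apply, Ideal.Quotient.eq_zero_iff_mem, ← Ideal.mem_comap]
  rw [← Ideal.under_def R, IsLocalization.under_map_of_isPrime_disjoint p.primeCompl _ hP
    (disjoint_core 𝒜 p)]

omit hP in
theorem isUnit_toCoreLoc {r : R} (hr : r ∉ p) : IsUnit (toCoreLoc 𝒜 p r) :=
  IsUnit.map (Ideal.Quotient.mk _)
    (IsLocalization.map_units (Localization.AtPrime p) (⟨r, hr⟩ : p.primeCompl))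

omit hP in
theorem isUnit_toCoreLoc_of_mem {a : ι} {r : R} (hr : r ∈ 𝒜 a) (hrP : r ∉ core 𝒜 p) :
    IsUnit (toCoreLoc 𝒜 p r) :=
  isUnit_toCoreLoc 𝒜 p fun h => hrP (mem_core_of_mem 𝒜 hr h)

omit hP in
theorem exists_frac (z : CoreLoc 𝒜 p) :
    ∃ r s : R, s ∉ p ∧ z * toCoreLoc 𝒜 p s = toCoreLoc 𝒜 p r := by
  obtain ⟨y, rfl⟩ := Ideal.Quotient.mk_surjective z
  obtain ⟨⟨r, s⟩, h⟩ := IsLocalization.surj p.primeCompl y
  exact ⟨r, s, s.2, by rw [RingHom.comp_apply, ← map_mul, h, RingHom.comp_apply]⟩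

/-- Homogeneous fractions of degree `g`. -/
def IsHFrac (g : ι) (z : CoreLoc 𝒜 p) : Prop :=
  ∃ (a : ι) (r s : R), r ∈ 𝒜 (a + g) ∧ s ∈ 𝒜 a ∧ s ∉ core 𝒜 p ∧
    z * toCoreLoc 𝒜 p s = toCoreLoc 𝒜 p r

theorem isHFrac_of_mem {g : ι} {r : R} (hr : r ∈ 𝒜 g) : IsHFrac 𝒜 p g (toCoreLoc 𝒜 p r) :=
  ⟨0, r, 1, by rwa [zero_add], SetLike.GradedOne.one_mem,
    fun h => hP.ne_top ((Ideal.eq_top_iff_one _).2 h), by rw [map_one, mul_one]⟩

theorem isHFrac_mul {g h : ι} {z w : CoreLoc 𝒜 p} (hz : IsHFrac 𝒜 p g z) (hw : IsHFrac 𝒜 p h w) :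
    IsHFrac 𝒜 p (g + h) (z * w) := by
  obtain ⟨a, r, s, hr, hs, hsP, hzs⟩ := hz
  obtain ⟨b, r', s', hr', hs', hsP', hws⟩ := hw
  refine ⟨a + b, r * r', s * s', ?_, SetLike.mul_mem_graded hs hs',
    fun hc => (hP.mem_or_mem hc).elim hsP hsP', ?_⟩
  · rw [show a + b + (g + h) = (a + g) + (b + h) by abel]
    exact SetLike.mul_mem_graded hr hr'
  · rw [map_mul, map_mul, ← hzs, ← hws]
    ring

theorem isHFrac_pow {g : ι} {z : CoreLoc 𝒜 p} (hz : IsHFrac 𝒜 p g z) :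
    ∀ n : ℕ, IsHFrac 𝒜 p (n • g) (z ^ n)
  | 0 => by simpa using isHFrac_of_mem 𝒜 p (SetLike.GradedOne.one_mem (A := 𝒜))
  | n + 1 => by
    rw [pow_succ, succ_nsmul]
    exact isHFrac_mul 𝒜 p (isHFrac_pow hz n) hz

theorem isHFrac_add {g : ι} {z w : CoreLoc 𝒜 p} (hz : IsHFrac 𝒜 p g z) (hw : IsHFrac 𝒜 p g w) :
    IsHFrac 𝒜 p g (z + w) := by
  obtain ⟨a, r, s, hr, hs, hsP, hzs⟩ := hz
  obtain ⟨b, r', s', hr', hs', hsP', hws⟩ := hw
  refine ⟨a + b, r * s' + r' * s, s * s', add_mem ?_ ?_, SetLike.mul_mem_graded hs hs',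
    fun hc => (hP.mem_or_mem hc).elim hsP hsP', ?_⟩
  · rw [show a + b + g = (a + g) + b by abel]
    exact SetLike.mul_mem_graded hr hs'
  · rw [show a + b + g = (b + g) + a by abel]
    exact SetLike.mul_mem_graded hr' hs
  · rw [map_add, map_mul, map_mul, map_mul, ← hzs, ← hws]
    ring

theorem isHFrac_neg {g : ι} {z : CoreLoc 𝒜 p} (hz : IsHFrac 𝒜 p g z) : IsHFrac 𝒜 p g (-z) := by
  obtain ⟨a, r, s, hr, hs, hsP, hzs⟩ := hz
  exact ⟨a, -r, s, neg_mem hr, hs, hsP, by rw [map_neg, ← hzs]; ring⟩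

theorem isHFrac_inv {g : ι} {z : CoreLoc 𝒜 p} (hz : IsHFrac 𝒜 p g z) (hz0 : z ≠ 0) :
    ∃ w, IsHFrac 𝒜 p (-g) w ∧ z * w = 1 := by
  obtain ⟨a, r, s, hr, hs, hsP, hzs⟩ := hz
  have hrP : r ∉ core 𝒜 p := fun h => by
    rw [(toCoreLoc_eq_zero 𝒜 p).2 h] at hzs
    exact hz0 ((mul_eq_zero.1 hzs).resolve_right fun h0 => hsP ((toCoreLoc_eq_zero 𝒜 p).1 h0))
  have hu := isUnit_toCoreLoc_of_mem 𝒜 p hr hrP
  refine ⟨toCoreLoc 𝒜 p s * ↑hu.unit⁻¹, ⟨a + g, s, r, ?_, hr, hrP, ?_⟩, ?_⟩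
  · rwa [add_neg_cancel_right]
  · rw [mul_assoc, IsUnit.val_inv_mul, mul_one]
  · rw [← mul_assoc, hzs, IsUnit.mul_val_inv]

/-- The field of degree-zero fractions. -/
noncomputable def degZero : Subring (CoreLoc 𝒜 p) where
  carrier := {z | IsHFrac 𝒜 p 0 z}
  one_mem' := by simpa using isHFrac_of_mem 𝒜 p (SetLike.GradedOne.one_mem (A := 𝒜))
  mul_mem' hz hw := by simpa using isHFrac_mul 𝒜 p hz hw
  zero_mem' := by simpa using isHFrac_of_mem 𝒜 p (g := 0) (zero_mem (𝒜 0))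
  add_mem' := isHFrac_add 𝒜 p
  neg_mem' := isHFrac_neg 𝒜 p

theorem isField_degZero : IsField (degZero 𝒜 p) := by
  refine ⟨⟨0, 1, zero_ne_one⟩, mul_comm, fun {z} hz => ?_⟩
  obtain ⟨w, hw, hzw⟩ := isHFrac_inv 𝒜 p z.2 fun h => hz (Subtype.ext h)
  rw [neg_zero] at hw
  exact ⟨⟨w, hw⟩, Subtype.ext hzw⟩

/-- Fractions of distinct degrees are independent. -/
theorem eq_zero_of_sum_isHFrac {α : Type*} (S : Finset α) (deg : α → ι)
    (hdeg : Set.InjOn deg S) (z : α → CoreLoc 𝒜 p) (hz : ∀ k ∈ S, IsHFrac 𝒜 p (deg k) (z k))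
    (hsum : ∑ k ∈ S, z k = 0) : ∀ k ∈ S, z k = 0 := by
  classical
  choose! a r s hr hs hsP hzs using hz
  intro k hk
  let A₀ : ι := ∑ j ∈ S, a j
  let x : α → R := fun j => r j * ∏ i ∈ S.erase j, s i
  have hx : ∀ j ∈ S, x j ∈ 𝒜 (A₀ + deg j) := by
    intro j hj
    have := SetLike.mul_mem_graded (hr j hj)
      (SetLike.prod_mem_graded (A := 𝒜) a s (F := S.erase j) fun i hi => hs i (Finset.mem_of_mem_erase hi))
    rwa [add_right_comm, Finset.add_sum_erase S a hj] at this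
  have hval : ∀ j ∈ S, z j * toCoreLoc 𝒜 p (∏ i ∈ S, s i) = toCoreLoc 𝒜 p (x j) := by
    intro j hj
    rw [← Finset.mul_prod_erase S s hj, map_mul, ← mul_assoc, hzs j hj, ← map_mul]
  have hmem : ∑ j ∈ S, x j ∈ core 𝒜 p := by
    rw [← toCoreLoc_eq_zero 𝒜 p, map_sum, ← Finset.sum_congr rfl hval, ← Finset.sum_mul, hsum,
      zero_mul]
  have hxk : x k ∈ core 𝒜 p := by
    have h1 := (p.homogeneousCore 𝒜).isHomogeneous (A₀ + deg k) hmem
    rw [decompose_sum, DirectSum.sum_apply, AddSubmonoidClass.coe_finsetSum, Finset.sum_eq_single k,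
      decompose_of_mem_same 𝒜 (hx k hk)] at h1
    · exact h1
    · intro j hj hjk
      exact decompose_of_mem_ne 𝒜 (hx j hj) fun h => hjk (hdeg hj hk (add_left_cancel h))
    · exact fun h => absurd hk h
  rw [← toCoreLoc_eq_zero 𝒜 p, ← hval k hk] at hxk
  refine (mul_eq_zero.1 hxk).resolve_right fun h => ?_
  obtain ⟨j, hj, hj'⟩ := (hP.prod_mem_iff).1 ((toCoreLoc_eq_zero 𝒜 p).1 h)
  exact hsP j hj hj'

/-- Degrees outside the core generate this group. -/
def degGroup : AddSubgroup ι where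
  carrier := {g | ∃ a, (∃ r ∈ 𝒜 (a + g), r ∉ core 𝒜 p) ∧ ∃ s ∈ 𝒜 a, s ∉ core 𝒜 p}
  zero_mem' := ⟨0, ⟨1, by rw [add_zero]; exact SetLike.GradedOne.one_mem,
    fun h => hP.ne_top ((Ideal.eq_top_iff_one _).2 h)⟩, 1, SetLike.GradedOne.one_mem,
    fun h => hP.ne_top ((Ideal.eq_top_iff_one _).2 h)⟩
  add_mem' := by
    rintro g h ⟨a, ⟨r, hr, hr'⟩, s, hs, hs'⟩ ⟨b, ⟨q, hq, hq'⟩, t, ht, ht'⟩
    refine ⟨a + b, ⟨r * q, ?_, fun hc => (hP.mem_or_mem hc).elim hr' hq'⟩, s * t,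
      SetLike.mul_mem_graded hs ht, fun hc => (hP.mem_or_mem hc).elim hs' ht'⟩
    rw [show a + b + (g + h) = (a + g) + (b + h) by abel]
    exact SetLike.mul_mem_graded hr hq
  neg_mem' := by
    rintro g ⟨a, hr, hs⟩
    exact ⟨a + g, by rwa [add_neg_cancel_right], hr⟩

theorem exists_unit_isHFrac {g : ι} (hg : g ∈ degGroup 𝒜 p) :
    ∃ z, IsHFrac 𝒜 p g z ∧ IsUnit z := by
  obtain ⟨a, ⟨r, hr, hr'⟩, s, hs, hs'⟩ := hg
  have hu := isUnit_toCoreLoc_of_mem 𝒜 p hs hs'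
  refine ⟨toCoreLoc 𝒜 p r * ↑hu.unit⁻¹, ⟨a, r, s, hr, hs, hs', ?_⟩, ?_⟩
  · rw [mul_assoc, IsUnit.val_inv_mul, mul_one]
  · exact (isUnit_toCoreLoc_of_mem 𝒜 p hr hr').mul (Units.isUnit _)

variable [IsNoetherianRing R]

/-- `(R ⧸ p*)_p` is regular, its dimension is `ht (p / p*)` and is at most the rank of the group. -/
theorem regular_coreLoc [Module.Free ℤ ι] [Module.Finite ℤ ι] :
    IsRegularLocalRing (CoreLoc 𝒜 p) ∧
      ringKrullDim (CoreLoc 𝒜 p) = (p.map (Ideal.Quotient.mk (core 𝒜 p))).height ∧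
      ringKrullDim (CoreLoc 𝒜 p) ≤ (Module.finrank ℤ ι : WithBot ℕ∞) := by
  classical
  let η := toCoreLoc 𝒜 p
  -- the height
  have hker : RingHom.ker (Ideal.Quotient.mk (core 𝒜 p)) ≤ p := by
    rw [Ideal.mk_ker]; exact core_le 𝒜 p
  let pbar := p.map (Ideal.Quotient.mk (core 𝒜 p))
  haveI hpbar : pbar.IsPrime := Ideal.map_isPrime_of_surjective Ideal.Quotient.mk_surjective hker
  have hmem : ∀ r, Ideal.Quotient.mk (core 𝒜 p) r ∈ pbar ↔ r ∈ p := fun r => by
    rw [← Ideal.mem_comap, Ideal.comap_map_of_surjective' _ Ideal.Quotient.mk_surjective,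
      sup_eq_left.2 hker]
  have hdim : ringKrullDim (CoreLoc 𝒜 p) = pbar.height := by
    letI : Algebra (R ⧸ core 𝒜 p) (CoreLoc 𝒜 p) :=
      (Ideal.Quotient.lift (core 𝒜 p) η fun r hr => (toCoreLoc_eq_zero 𝒜 p).2 hr).toAlgebra
    haveI : IsLocalization.AtPrime (CoreLoc 𝒜 p) pbar := by
      refine (isLocalization_iff _ _).2 ⟨fun ⟨y, hy⟩ => ?_, fun z => ?_, fun {x y} h => ⟨1, ?_⟩⟩
      · obtain ⟨r, rfl⟩ := Ideal.Quotient.mk_surjective y
        exact isUnit_toCoreLoc 𝒜 p fun h => hy ((hmem r).2 h)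
      · obtain ⟨r, s, hs, hz⟩ := exists_frac 𝒜 p z
        exact ⟨⟨Ideal.Quotient.mk _ r, ⟨Ideal.Quotient.mk _ s, fun h => hs ((hmem s).1 h)⟩⟩, hz⟩
      · obtain ⟨a, rfl⟩ := Ideal.Quotient.mk_surjective x
        obtain ⟨b, rfl⟩ := Ideal.Quotient.mk_surjective y
        have h' : η a = η b := h
        rw [OneMemClass.coe_one, one_mul, one_mul, Ideal.Quotient.eq, ← toCoreLoc_eq_zero 𝒜 p,
          map_sub, h', sub_self]
    exact IsLocalization.AtPrime.ringKrullDim_eq_height pbar _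
  -- the polynomial ring
  letI : Field (degZero 𝒜 p) := (isField_degZero 𝒜 p).toField
  obtain ⟨n, ⟨b⟩⟩ := Submodule.nonempty_basis_of_pid (Module.Free.chooseBasis ℤ ι)
    (degGroup 𝒜 p).toIntSubmodule
  have hn : n ≤ Module.finrank ℤ ι := by
    have h := Submodule.finrank_le (degGroup 𝒜 p).toIntSubmodule
    rwa [Module.finrank_eq_card_basis b, Fintype.card_fin] at h
  choose u hu hunit using fun i => exists_unit_isHFrac 𝒜 p (g := (b i : ι)) (b i).2
  let deg : (Fin n →₀ ℕ) → ι := fun e => ∑ i, e i • (b i : ι)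
  let U : (Fin n →₀ ℕ) → CoreLoc 𝒜 p := fun e => ∏ i, u i ^ e i
  have hU : ∀ e, IsHFrac 𝒜 p (deg e) (U e) := by
    intro e
    suffices ∀ S : Finset (Fin n), IsHFrac 𝒜 p (∑ i ∈ S, e i • (b i : ι)) (∏ i ∈ S, u i ^ e i) from
      this Finset.univ
    intro S
    refine Finset.induction_on S ?_ fun i S hi ih => ?_
    · simpa using isHFrac_of_mem 𝒜 p (SetLike.GradedOne.one_mem (A := 𝒜))
    · rw [Finset.sum_insert hi, Finset.prod_insert hi]
      exact isHFrac_mul 𝒜 p (isHFrac_pow 𝒜 p (hu i) _) ih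
  have hUunit : ∀ e, IsUnit (U e) := fun e =>
    IsUnit.prod_iff.2 fun i _ => (hunit i).pow _
  have hdeginj : Function.Injective deg := by
    intro e e' h
    have hw : ∀ e : Fin n →₀ ℕ, deg e = ((∑ i, (e i : ℤ) • b i :
        (degGroup 𝒜 p).toIntSubmodule) : ι) := fun e => by
      rw [Submodule.coe_sum]
      exact Finset.sum_congr rfl fun i _ => (natCast_zsmul _ _).symm
    rw [hw, hw] at h
    refine Finsupp.ext fun i => Int.ofNat_inj.1 ?_
    exact congrFun (b.equivFun.symm.injective (a₁ := fun i => (e i : ℤ)) (a₂ := fun i => (e' i : ℤ))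
      (by simpa [Module.Basis.equivFun_symm_apply] using Subtype.ext h)) i
  let ψ : MvPolynomial (Fin n) (degZero 𝒜 p) →+* CoreLoc 𝒜 p :=
    MvPolynomial.eval₂Hom (degZero 𝒜 p).subtype u
  have hψ : ∀ e c, ψ (MvPolynomial.monomial e c) = (c : CoreLoc 𝒜 p) * U e := fun e c => by
    rw [show ψ = MvPolynomial.eval₂Hom (degZero 𝒜 p).subtype u from rfl,
      MvPolynomial.eval₂Hom_monomial, Finsupp.prod_fintype _ _ fun i => pow_zero _]
    rfl
  have hinj : ∀ f, ψ f = 0 → f = 0 := by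
    intro f hf
    rw [f.as_sum, map_sum] at hf
    have h0 := eq_zero_of_sum_isHFrac 𝒜 p f.support deg hdeginj.injOn
      (fun e => ψ (MvPolynomial.monomial e (f.coeff e))) (fun e _ => by
        rw [hψ]; simpa using isHFrac_mul 𝒜 p (f.coeff e).2 (hU e)) hf
    refine MvPolynomial.ext _ _ fun e => ?_
    rw [MvPolynomial.coeff_zero]
    by_contra he
    have h1 := h0 e (MvPolynomial.mem_support_iff.2 he)
    rw [hψ, (hUunit e).mul_left_eq_zero] at h1
    exact he (Subtype.ext h1)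
  -- every element becomes polynomial after multiplying by a monomial
  have hUadd : ∀ e e', U (e + e') = U e * U e' := fun e e' => by
    simp only [U, Finsupp.add_apply, pow_add, Finset.prod_mul_distrib]
  have hrange : ∀ r : R, ∃ e, η r * U e ∈ ψ.range := by
    intro r
    induction r using DirectSum.Decomposition.inductionOn 𝒜 with
    | zero => exact ⟨0, by rw [map_zero, zero_mul]; exact zero_mem _⟩
    | add x y hx hy =>
      obtain ⟨e, f, hf⟩ := hx
      obtain ⟨e', f', hf'⟩ := hy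
      refine ⟨e + e', f * MvPolynomial.monomial e' 1 + f' * MvPolynomial.monomial e 1, ?_⟩
      rw [map_add, map_add, map_mul, map_mul, hf, hf', hψ, hψ, hUadd, OneMemClass.coe_one, one_mul,
        one_mul]
      ring
    | @homogeneous a x =>
      by_cases hx : (x : R) ∈ core 𝒜 p
      · exact ⟨0, by rw [(toCoreLoc_eq_zero 𝒜 p).2 hx, zero_mul]; exact zero_mem _⟩
      have ha : a ∈ degGroup 𝒜 p := ⟨0, ⟨x, by rw [zero_add]; exact x.2, hx⟩, 1,
        SetLike.GradedOne.one_mem, fun h => hP.ne_top ((Ideal.eq_top_iff_one _).2 h)⟩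
      let m : Fin n → ℤ := b.equivFun ⟨a, ha⟩
      let e : Fin n →₀ ℕ := Finsupp.equivFunOnFinite.symm fun i => (-m i).toNat
      let e' : Fin n →₀ ℕ := Finsupp.equivFunOnFinite.symm fun i => (m i).toNat
      have hdeg : deg e' = a + deg e := by
        have hsum : ∑ i, m i • (b i : ι) = a := by
          have := congrArg Subtype.val (b.sum_equivFun ⟨a, ha⟩)
          rw [Submodule.coe_sum] at this
          exact this
        rw [← hsum, ← sub_eq_iff_eq_add, ← Finset.sum_sub_distrib]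
        refine Finset.sum_congr rfl fun i _ => ?_
        simp only [e, e', Finsupp.coe_equivFunOnFinite_symm, ← natCast_zsmul]
        rw [← sub_smul, Int.toNat_sub_toNat_neg]
      obtain ⟨w, hw, hw1⟩ := isHFrac_inv 𝒜 p (hU e') (hUunit e').ne_zero
      have hc := isHFrac_mul 𝒜 p (isHFrac_mul 𝒜 p (isHFrac_of_mem 𝒜 p x.2) (hU e)) hw
      rw [hdeg, add_neg_cancel] at hc
      refine ⟨e, MvPolynomial.monomial e' ⟨_, hc⟩, ?_⟩
      rw [hψ]
      show η x * U e * w * U e' = η x * U e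
      rw [mul_assoc, mul_comm w, hw1, mul_one]
  haveI : IsLocalRing (CoreLoc 𝒜 p) :=
    IsLocalRing.of_surjective' (Ideal.Quotient.mk _) Ideal.Quotient.mk_surjective
  let Q : Ideal (MvPolynomial (Fin n) (degZero 𝒜 p)) :=
    (IsLocalRing.maximalIdeal (CoreLoc 𝒜 p)).comap ψ
  haveI : Q.IsPrime := Ideal.comap_isPrime ψ _
  letI : Algebra (MvPolynomial (Fin n) (degZero 𝒜 p)) (CoreLoc 𝒜 p) := ψ.toAlgebra
  haveI hloc : IsLocalization.AtPrime (CoreLoc 𝒜 p) Q := by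
    refine (isLocalization_iff _ _).2 ⟨fun ⟨y, hy⟩ => ?_, fun z => ?_, fun {x y} h => ⟨1, ?_⟩⟩
    · show IsUnit (ψ y)
      exact not_not.1 hy
    · obtain ⟨r, s, hs, hz⟩ := exists_frac 𝒜 p z
      obtain ⟨e, f, hf⟩ := hrange r
      obtain ⟨e', f', hf'⟩ := hrange s
      refine ⟨⟨f * MvPolynomial.monomial e' 1, ⟨f' * MvPolynomial.monomial e 1, ?_⟩⟩, ?_⟩
      · intro h
        refine h ?_
        show IsUnit (ψ (f' * MvPolynomial.monomial e 1))
        rw [map_mul, hf', hψ, OneMemClass.coe_one, one_mul]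
        exact ((isUnit_toCoreLoc 𝒜 p hs).mul (hUunit e')).mul (hUunit e)
      · show z * ψ (f' * MvPolynomial.monomial e 1) = ψ (f * MvPolynomial.monomial e' 1)
        rw [map_mul, map_mul, hf, hf', hψ, hψ, OneMemClass.coe_one, one_mul, one_mul, ← mul_assoc,
          ← mul_assoc, show z * η s = η r from hz]
        ring
    · have h' : ψ x = ψ y := h
      rw [OneMemClass.coe_one, one_mul, one_mul]
      exact sub_eq_zero.1 (hinj _ (by rw [map_sub, h', sub_self]))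
  refine ⟨IsRegularLocalRing.of_ringEquiv (R := Localization.AtPrime Q)
    (IsLocalization.algEquiv Q.primeCompl (Localization.AtPrime Q) (CoreLoc 𝒜 p)).toRingEquiv,
    hdim, ?_⟩
  rw [IsLocalization.AtPrime.ringKrullDim_eq_height Q (CoreLoc 𝒜 p)]
  refine (Ideal.height_le_ringKrullDim_of_ne_top (Ideal.IsPrime.ne_top inferInstance)).trans ?_
  rw [MvPolynomial.ringKrullDim_of_isNoetherianRing, ringKrullDim_eq_zero_of_field, zero_add,
    Nat.card_eq_fintype_card, Fintype.card_fin]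
  exact_mod_cast hn

end GrothGr
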