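import Groth.Agent.GrMod.BassComplex
import Groth.Agent.GrMod.GradedDomain
import Groth.Agent.Gorenstein.ExtRegular
import Groth.Agent.LocCohBase.Depth

/-!
# Bass numbers of graded modules at non-homogeneous primes

Helper library (no milestone statements here).
-/

universe u

open DirectSum GrLC IsLocalRing

namespace GrothGr

variable {ι : Type} [AddCommGroup ι] [DecidableEq ι] [Module.Free ℤ ι] [Module.Finite ℤ ι]
variable {R : Type u} [CommRing R] [IsNoetherianRing R] (𝒜 : ι → AddSubgroup R) [GradedRing 𝒜]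
variable {M : Type u} [AddCommGroup M] [Module R M] (ℳ : ι → AddSubgroup M) [Decomposition ℳ]
  [SetLike.GradedSMul 𝒜 ℳ]

/-- `ht (p / p*)` is at most the rank of the group. -/
theorem height_core_le (p : Ideal R) [p.IsPrime] [(core 𝒜 p).IsPrime] {d : ℕ}
    (hd : (p.map (Ideal.Quotient.mk (core 𝒜 p))).height = d) : d ≤ Module.finrank ℤ ι := by
  obtain ⟨-, h₁, h₂⟩ := regular_coreLoc 𝒜 p
  rw [h₁, hd] at h₂
  exact_mod_cast h₂

include ℳ in
/-- Bass numbers at `p` are the shifted Bass numbers at `p*`. -/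
theorem bassNum_core_shift (p : Ideal R) [p.IsPrime] [(core 𝒜 p).IsPrime] {d : ℕ}
    (hd : (p.map (Ideal.Quotient.mk (core 𝒜 p))).height = d) :
    (∀ i, i < d → bassNum p M i = 0) ∧
      ∀ i, d ≤ i → bassNum p M i = bassNum (core 𝒜 p) M (i - d) := by
  obtain ⟨κ, hκ⟩ := exists_extQ_free 𝒜 ℳ p
  obtain ⟨hreg, hdim, -⟩ := regular_coreLoc 𝒜 p
  rw [hd] at hdim
  obtain ⟨h0, h1⟩ := @GrothGoren.length_ext_residueField_of_free (Localization.AtPrime p) _
    (LocalizedModule p.primeCompl M) _ _ _ _ d _ κ hreg (by exact_mod_cast hdim)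
    (fun i => hκ p (core_le 𝒜 p) le_rfl i)
  have hP : ∀ i, bassNum (core 𝒜 p) M i = ENat.card (κ i) := by
    intro i
    have hmax : (core 𝒜 p).map (algebraMap R (Localization.AtPrime (core 𝒜 p))) =
        maximalIdeal _ := IsLocalization.AtPrime.map_eq_maximalIdeal _ _
    obtain ⟨e⟩ := hκ (core 𝒜 p) le_rfl (core_le 𝒜 p) i
    rw [hmax] at e
    show Module.length _ (GrothGr.ExtQ (maximalIdeal (Localization.AtPrime (core 𝒜 p))) _ i) = _
    haveI : IsSimpleModule (Localization.AtPrime (core 𝒜 p))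
        (Localization.AtPrime (core 𝒜 p) ⧸ maximalIdeal (Localization.AtPrime (core 𝒜 p))) :=
      isSimpleModule_iff_isCoatom.2 (maximalIdeal.isMaximal _).out
    refine e.length_eq.trans ?_
    rw [Module.length_finsupp, Module.length_eq_one, mul_one]
  exact ⟨h0, fun i hi => (h1 i hi).trans (hP _).symm⟩

theorem le_depth_iff {A : Type u} [CommRing A] [IsLocalRing A] [IsNoetherianRing A] (N : Type u)
    [AddCommGroup N] [Module A N] [Module.Finite A N] (n : ℕ) :
    (n : ℕ∞) ≤ LocCoh.depth A N ↔ ∀ i < n, bassNumLocal A N i = 0 := by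
  show (n : ℕ∞) ≤ LocCoh.idealDepth (maximalIdeal A) N ↔ _
  rw [Groth.LocCohBase.le_idealDepth_iff]
  exact forall₂_congr fun i _ => (Module.length_eq_zero_iff (R := A)
    (M := CategoryTheory.Abelian.Ext.{u} (ModuleCat.of A (ResidueField A)) (ModuleCat.of A N) i)).symm

include ℳ in
theorem depth_core_shift [Module.Finite R M] (p : Ideal R) [p.IsPrime] [(core 𝒜 p).IsPrime] {d : ℕ}
    (hd : (p.map (Ideal.Quotient.mk (core 𝒜 p))).height = d) :
    LocCoh.depth (Localization.AtPrime p) (LocalizedModule p.primeCompl M) =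
      LocCoh.depth (Localization.AtPrime (core 𝒜 p)) (LocalizedModule (core 𝒜 p).primeCompl M) + d := by
  obtain ⟨h0, h1⟩ := bassNum_core_shift 𝒜 ℳ p hd
  have key : ∀ n : ℕ, (n : ℕ∞) ≤ LocCoh.depth (Localization.AtPrime p) (LocalizedModule p.primeCompl M) ↔
      ((n - d : ℕ) : ℕ∞) ≤
        LocCoh.depth (Localization.AtPrime (core 𝒜 p)) (LocalizedModule (core 𝒜 p).primeCompl M) := by
    intro n
    rw [le_depth_iff, le_depth_iff]
    show (∀ i < n, bassNum p M i = 0) ↔ ∀ i < n - d, bassNum (core 𝒜 p) M i = 0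
    constructor
    · intro h i hi
      have := h (i + d) (by omega)
      rwa [h1 _ (by omega), Nat.add_sub_cancel] at this
    · intro h i hi
      rcases Nat.lt_or_ge i d with hid | hid
      · exact h0 i hid
      · rw [h1 i hid]; exact h _ (by omega)
  have hiff : ∀ (x : ℕ∞) (n : ℕ), (n : ℕ∞) ≤ x + d ↔ ((n - d : ℕ) : ℕ∞) ≤ x := by
    intro x n
    induction x using ENat.recTopCoe with
    | top => simp
    | coe x => norm_cast; omega
  refine le_antisymm ?_ ?_ <;> refine ENat.forall_natCast_le_iff_le.1 fun n hn => ?_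
  · exact (hiff _ n).2 ((key n).1 hn)
  · exact (key n).2 ((hiff _ n).1 hn)

end GrothGr
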