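import Groth.Agent.GrMod.Quot
import Mathlib.RingTheory.Localization.AtPrime.Basic
import Mathlib.Algebra.Module.LocalizedModule.Basic
import Mathlib.LinearAlgebra.Finsupp.LinearCombination
import Mathlib.RingTheory.Ideal.Quotient.Operations

/-!
# Graded modules killed by the homogeneous core of a prime

Such a module becomes free over the quotient at every prime between the core and the prime, on one
common family of homogeneous elements. Helper library (no milestone statements here).
-/

universe u

open DirectSum GrLC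

namespace GrothGr

variable {ι : Type} [AddCommGroup ι] [DecidableEq ι]
variable {R : Type u} [CommRing R] (𝒜 : ι → AddSubgroup R) [GradedRing 𝒜]
variable {N : Type u} [AddCommGroup N] [Module R N] (𝒩 : ι → AddSubgroup N) [Decomposition 𝒩]
  [SetLike.GradedSMul 𝒜 𝒩]

theorem pr_smul_of_mem {g : ι} {x : N} (hx : x ∈ 𝒩 g) (j : ι) (r : R) :
    pr 𝒩 j (r • x) = (decompose 𝒜 r (j - g) : R) • x := by
  induction r using DirectSum.Decomposition.inductionOn 𝒜 with
  | zero => simp
  | @homogeneous a r =>
    rw [pr_smul 𝒩 𝒜 r.2]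
    by_cases h : a = j - g
    · subst h
      rw [decompose_of_mem_same 𝒜 r.2, sub_sub_cancel, pr_of_mem 𝒩 hx]
    · rw [decompose_of_mem_ne 𝒜 r.2 h, zero_smul, pr_of_mem_ne 𝒩 hx, smul_zero]
      exact fun hc => h (by rw [hc, sub_sub_cancel])
  | add r r' h h' =>
    rw [add_smul, map_add, h, h', decompose_add, DirectSum.add_apply, AddMemClass.coe_add,
      add_smul]

/-- `p*`: the largest homogeneous ideal inside `p`. -/
abbrev core (p : Ideal R) : Ideal R := (p.homogeneousCore 𝒜).toIdeal

theorem mem_core_of_mem {p : Ideal R} {a : ι} {r : R} (hr : r ∈ 𝒜 a) (hrp : r ∈ p) :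
    r ∈ core 𝒜 p :=
  Ideal.mem_homogeneousCore_of_homogeneous_of_mem ⟨a, hr⟩ hrp

theorem core_le (p : Ideal R) : core 𝒜 p ≤ p := Ideal.toIdeal_homogeneousCore_le 𝒜 p

section Basis

variable {P : Ideal R}

/-- A basis, modulo `P`, of a graded module killed by `P`, up to elements outside `p`. -/
structure IsCoreBasis (P p : Ideal R) {κ : Type u} (b : κ → N) : Prop where
  indep : ∀ f : κ →₀ R, Finsupp.linearCombination R b f = 0 → ∀ k, f k ∈ P
  span : ∀ n : N, ∃ s : R, s ∉ p ∧ s • n ∈ Submodule.span R (Set.range b)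

include 𝒩 in
theorem exists_homogeneous_coreBasis (p : Ideal R) [p.IsPrime] [hP : (core 𝒜 p).IsPrime]
    (hN : ∀ r ∈ core 𝒜 p, ∀ n : N, r • n = 0) :
    ∃ (κ : Type u) (b : κ → N), (∀ k, ∃ g, b k ∈ 𝒩 g) ∧ IsCoreBasis (core 𝒜 p) p b := by
  classical
  set P := core 𝒜 p with hPdef
  let Good : Set (Set N) :=
    {s | (∀ x ∈ s, ∃ g, x ∈ 𝒩 g) ∧ ∀ f : N →₀ R, (↑f.support : Set N) ⊆ s →
      Finsupp.linearCombination R (id : N → N) f = 0 → ∀ k, f k ∈ P}
  obtain ⟨s, hs⟩ : ∃ s, Maximal (· ∈ Good) s := by
    refine zorn_subset Good fun c hc hch => ?_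
    rcases c.eq_empty_or_nonempty with rfl | hne
    · refine ⟨∅, ⟨fun x hx => absurd hx (Set.notMem_empty x), fun f hf _ k => ?_⟩, fun _ h => absurd h (Set.notMem_empty _)⟩
      have : k ∉ f.support := fun hk => Set.notMem_empty k (hf hk)
      rw [Finsupp.notMem_support_iff.1 this]
      exact zero_mem P
    · refine ⟨⋃₀ c, ⟨fun x ⟨t, ht, hx⟩ => (hc ht).1 x hx, fun f hf hlc k => ?_⟩,
        fun t ht => Set.subset_sUnion_of_mem ht⟩
      obtain ⟨t, ht, hft⟩ := DirectedOn.exists_mem_subset_of_finite_of_subset_sUnion hne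
        hch.directedOn f.support.finite_toSet hf
      exact (hc ht).2 f hft hlc k
  have hgood := hs.1
  refine ⟨s, Subtype.val, fun k => hgood.1 _ k.2, ⟨fun f hf k => ?_, fun n => ?_⟩⟩
  · have h1 : Finsupp.linearCombination R (id : N → N) (f.mapDomain Subtype.val) = 0 := by
      rw [Finsupp.linearCombination_mapDomain]
      exact hf
    have hsub : ((f.mapDomain Subtype.val).support : Set N) ⊆ s := by
      intro x hx
      obtain ⟨y, -, rfl⟩ := Finset.mem_image.1 (Finsupp.mapDomain_support hx)
      exact y.2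
    have := hgood.2 _ hsub h1 k
    rwa [Finsupp.mapDomain_apply Subtype.val_injective] at this
  · rw [Subtype.range_coe]
    let T : Submodule R N :=
      { carrier := {n | ∃ r, r ∉ p ∧ r • n ∈ Submodule.span R s}
        zero_mem' := ⟨1, fun h => ‹p.IsPrime›.ne_top ((Ideal.eq_top_iff_one _).2 h), by simp⟩
        add_mem' := by
          rintro x y ⟨r, hr, hx⟩ ⟨q, hq, hy⟩
          refine ⟨r * q, fun h => (‹p.IsPrime›.mem_or_mem h).elim hr hq, ?_⟩
          rw [smul_add]
          refine add_mem ?_ ?_
          · rw [mul_comm, mul_smul]; exact Submodule.smul_mem _ _ hx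
          · rw [mul_smul]; exact Submodule.smul_mem _ _ hy
        smul_mem' := by
          rintro c x ⟨r, hr, hx⟩
          exact ⟨r, hr, by rw [smul_comm]; exact Submodule.smul_mem _ _ hx⟩ }
    change n ∈ T
    induction n using DirectSum.Decomposition.inductionOn 𝒩 with
    | zero => exact T.zero_mem
    | add x y hx hy => exact T.add_mem hx hy
    | @homogeneous g x =>
      have hone : (1 : R) ∉ p := fun h => ‹p.IsPrime›.ne_top ((Ideal.eq_top_iff_one _).2 h)
      by_cases hxs : (x : N) ∈ s
      · exact ⟨1, hone, by rw [one_smul]; exact Submodule.subset_span hxs⟩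
      have hbad : ¬ insert (x : N) s ∈ Good := fun h => hxs (hs.2 h (Set.subset_insert _ _) (Set.mem_insert _ _))
      obtain ⟨f, hf, hlc, hk⟩ : ∃ f : N →₀ R, (↑f.support : Set N) ⊆ insert (x : N) s ∧
          Finsupp.linearCombination R (id : N → N) f = 0 ∧ ∃ k, f k ∉ P := by
        by_contra hcon
        refine hbad ⟨?_, fun f h1 h2 k => by_contra fun h3 => hcon ⟨f, h1, h2, k, h3⟩⟩
        intro y hy
        rcases Set.mem_insert_iff.1 hy with rfl | hy
        · exact ⟨g, x.2⟩
        · exact hgood.1 y hy
      have hsplit : f (x : N) • (x : N) + Finsupp.linearCombination R (id : N → N) (f.erase (x : N)) = 0 := by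
        conv_rhs => rw [← hlc, ← Finsupp.single_add_erase (x : N) f]
        rw [map_add, Finsupp.linearCombination_single]
        rfl
      have hsupp : (↑(f.erase (x : N)).support : Set N) ⊆ s := by
        intro y hy
        rw [Finsupp.support_erase, Finset.mem_coe, Finset.mem_erase] at hy
        exact (Set.mem_insert_iff.1 (hf hy.2)).resolve_left hy.1
      have hfx : f (x : N) ∉ P := by
        intro hmem
        have h0 : f (x : N) • (x : N) = 0 := hN _ hmem _
        rw [h0, zero_add] at hsplit
        obtain ⟨k, hk⟩ := hk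
        rcases eq_or_ne k (x : N) with rfl | hne
        · exact hk hmem
        · refine hk ?_
          have := hgood.2 _ hsupp hsplit k
          rwa [Finsupp.erase_ne hne] at this
      have hin : f (x : N) • (x : N) ∈ Submodule.span R s := by
        rw [eq_neg_of_add_eq_zero_left hsplit]
        refine neg_mem ?_
        rw [Finsupp.linearCombination_apply]
        exact sum_mem fun y hy => Submodule.smul_mem _ _ (Submodule.subset_span (hsupp hy))
      obtain ⟨c, hc⟩ : ∃ c, (decompose 𝒜 (f (x : N)) c : R) ∉ P := by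
        by_contra hcon
        push Not at hcon
        exact hfx ((Ideal.IsHomogeneous.mem_iff 𝒜 (p.homogeneousCore 𝒜).isHomogeneous).2 hcon)
      refine ⟨_, fun h => hc (mem_core_of_mem 𝒜 (decompose 𝒜 (f (x : N)) c).2 h), ?_⟩
      have hcomp := pr_mem_of_isHomogeneous (isHomogeneous_span 𝒜 hgood.1) hin (c + g)
      rwa [pr_smul_of_mem 𝒜 𝒩 x.2, add_sub_cancel_right] at hcomp

include 𝒩 in
theorem exists_coreBasis (p : Ideal R) [p.IsPrime] [(core 𝒜 p).IsPrime]
    (hN : ∀ r ∈ core 𝒜 p, ∀ n : N, r • n = 0) :
    ∃ (κ : Type u) (b : κ → N), IsCoreBasis (core 𝒜 p) p b :=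
  let ⟨κ, b, _, hb⟩ := exists_homogeneous_coreBasis 𝒜 𝒩 p hN
  ⟨κ, b, hb⟩

omit [DecidableEq ι] [AddCommGroup ι] in
/-- The free module on a core basis is the localization. -/
theorem nonempty_localized_equiv {p P : Ideal R} {κ : Type u} {b : κ → N}
    (hb : IsCoreBasis P p b) (hN : ∀ r ∈ P, ∀ n : N, r • n = 0) (q : Ideal R) [q.IsPrime]
    (hPq : P ≤ q) (hqp : q ≤ p) :
    Nonempty ((κ →₀ (Localization.AtPrime q ⧸ P.map (algebraMap R (Localization.AtPrime q))))
      ≃ₗ[Localization.AtPrime q] LocalizedModule q.primeCompl N) := by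
  classical
  set A := Localization.AtPrime q
  set J := P.map (algebraMap R A)
  let Nq := LocalizedModule q.primeCompl N
  have hkill : ∀ (a : A), a ∈ J → ∀ z : Nq, a • z = 0 := by
    intro a ha z
    refine Submodule.span_induction (fun y hy => ?_) (zero_smul A z)
      (fun y y' _ _ h h' => by rw [add_smul, h, h', add_zero])
      (fun c y _ h => by rw [smul_eq_mul, mul_smul, h, smul_zero]) ha
    obtain ⟨r, hr, rfl⟩ := hy
    rw [algebraMap_smul]
    induction z using LocalizedModule.induction_on with
    | h m s => rw [LocalizedModule.smul'_mk, hN r hr m, LocalizedModule.zero_mk]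
  let φ : κ → (A ⧸ J) →ₗ[A] Nq := fun k =>
    Submodule.liftQ J (LinearMap.toSpanSingleton A Nq (LocalizedModule.mkLinearMap q.primeCompl N (b k)))
      fun a ha => hkill a ha _
  let Φ : (κ →₀ A ⧸ J) →ₗ[A] Nq := Finsupp.lsum A φ
  refine ⟨LinearEquiv.ofBijective Φ ⟨?_, ?_⟩⟩
  · rw [← LinearMap.ker_eq_bot, Submodule.eq_bot_iff]
    intro v hv
    -- clear denominators
    have hv' : ∀ k, ∃ (r : R) (t : q.primeCompl),
        v k = Submodule.Quotient.mk (IsLocalization.mk' A r t) := fun k => by
      obtain ⟨a, ha⟩ := Submodule.Quotient.mk_surjective J (v k)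
      obtain ⟨⟨r, t⟩, hrt⟩ := IsLocalization.mk'_surjective q.primeCompl a
      exact ⟨r, t, by rw [← ha, ← hrt]⟩
    choose r t hrt using hv'
    let T : R := ∏ k ∈ v.support, (t k : R)
    have hT : T ∈ q.primeCompl := prod_mem fun k _ => (t k).2
    let c : κ → R := fun k => r k * ∏ j ∈ v.support.erase k, (t j : R)
    have hc : ∀ k ∈ v.support, algebraMap R A T * IsLocalization.mk' A (r k) (t k) =
        algebraMap R A (c k) := by
      intro k hk
      have hTk : T = (t k : R) * ∏ j ∈ v.support.erase k, (t j : R) :=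
        (Finset.mul_prod_erase _ (fun j => (t j : R)) hk).symm
      rw [hTk, map_mul, mul_assoc, mul_comm (algebraMap R A _) (IsLocalization.mk' A _ _),
        ← mul_assoc, IsLocalization.mk'_spec', ← map_mul]
    have hsum : LocalizedModule.mkLinearMap q.primeCompl N (∑ k ∈ v.support, c k • b k) = 0 := by
      have h0 : algebraMap R A T • Φ v = 0 := by
        rw [show Φ v = 0 from hv, smul_zero]
      rw [← h0, Finsupp.lsum_apply, Finsupp.sum, map_sum, Finset.smul_sum]
      refine Finset.sum_congr rfl fun k hk => ?_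
      rw [hrt k, map_smul, ← algebraMap_smul A (c k)]
      show _ = algebraMap R A T • (IsLocalization.mk' A (r k) (t k) • LocalizedModule.mkLinearMap q.primeCompl N (b k))
      rw [← mul_smul, hc k hk]
    rw [← map_zero (LocalizedModule.mkLinearMap q.primeCompl N),
      IsLocalizedModule.eq_iff_exists q.primeCompl] at hsum
    obtain ⟨⟨w, hw⟩, hws⟩ := hsum
    simp only [Submonoid.mk_smul, smul_zero, Finset.smul_sum, ← mul_smul] at hws
    let f : κ →₀ R := Finsupp.onFinset v.support
      (fun k => if k ∈ v.support then w * c k else 0) fun k h => by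
        by_contra hk
        simp [hk] at h
    have hf : Finsupp.linearCombination R b f = 0 := by
      rw [Finsupp.linearCombination_apply, Finsupp.onFinset_sum _ (fun k => by simp)]
      rw [← hws]
      exact Finset.sum_congr rfl fun k hk => by rw [if_pos hk]
    ext k
    rw [Finsupp.zero_apply]
    by_contra hk
    have hks : k ∈ v.support := Finsupp.mem_support_iff.2 hk
    have hfk : w * c k ∈ P := by
      have := hb.indep f hf k
      simp only [f, Finsupp.onFinset_apply, if_pos hks] at this
      exact this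
    refine hk ?_
    rw [hrt k]
    refine (Submodule.Quotient.mk_eq_zero J).2 ?_
    have hu : IsUnit (algebraMap R A (w * T)) := IsLocalization.map_units A
      (⟨w * T, mul_mem hw hT⟩ : q.primeCompl)
    rw [← hu.unit.inv_mul_cancel_left (IsLocalization.mk' A (r k) (t k))]
    refine Ideal.mul_mem_left J _ ?_
    rw [IsUnit.unit_spec, map_mul, mul_assoc, hc k hks, ← map_mul]
    exact Ideal.mem_map_of_mem _ hfk
  · intro z
    induction z using LocalizedModule.induction_on with
    | h n u =>
      obtain ⟨s, hs, hn⟩ := hb.span n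
      have hu : IsUnit (algebraMap R A s) := IsLocalization.map_units A
        (⟨s, fun h => hs (hqp h)⟩ : q.primeCompl)
      have hrange : ∀ m ∈ Submodule.span R (Set.range b),
          LocalizedModule.mkLinearMap q.primeCompl N m ∈ LinearMap.range Φ := by
        intro m hm
        refine Submodule.span_induction (fun y hy => ?_) ?_ (fun y y' _ _ h h' => ?_)
          (fun c y _ h => ?_) hm
        · obtain ⟨k, rfl⟩ := hy
          refine ⟨Finsupp.single k (Submodule.Quotient.mk 1), ?_⟩
          rw [Finsupp.lsum_single]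
          exact one_smul A _
        · rw [map_zero]; exact zero_mem _
        · rw [map_add]; exact add_mem h h'
        · rw [map_smul, ← algebraMap_smul A c]
          exact Submodule.smul_mem _ _ h
      obtain ⟨v, hv⟩ := hrange _ hn
      refine ⟨(IsLocalization.mk' A 1 u * ↑hu.unit⁻¹) • v, ?_⟩
      rw [map_smul, hv, map_smul, ← algebraMap_smul A s, mul_smul]
      conv_lhs => rw [← mul_smul (↑hu.unit⁻¹ : A), IsUnit.val_inv_mul, one_smul]
      rw [← Localization.mk_eq_mk', LocalizedModule.mkLinearMap_apply, LocalizedModule.mk_smul_mk,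
        one_smul, mul_one]

end Basis

end GrothGr
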