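import Groth.Agent.GrMod.Quot
import Groth.Agent.Gorenstein.ExtBaseChange
import Groth.Agent.LocCohBase.Basic
import Mathlib.RingTheory.Finiteness.Basic

/-!
# *Injective modules are `Ext`-acyclic for finitely generated graded modules

Helper library (no milestone statements here).
-/

universe u

open DirectSum GrLC

namespace GrothGr

variable {ι : Type} [AddCommGroup ι] [DecidableEq ι]
variable {R : Type u} [CommRing R] (𝒜 : ι → AddSubgroup R) [GradedRing 𝒜]
variable {K : Type u} [AddCommGroup K] [Module R K] (𝒦 : ι → AddSubgroup K) [Decomposition 𝒦]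
  [SetLike.GradedSMul 𝒜 𝒦]
variable {I : Type u} [AddCommGroup I] [Module R I] (ℐ : ι → AddSubgroup I) [Decomposition ℐ]
  [SetLike.GradedSMul 𝒜 ℐ]

/-- The part of degree `d` of a linear map, additively. -/
noncomputable def degPartAdd (u : K →ₗ[R] I) (d : ι) : K →+ I :=
  (DirectSum.toAddMonoid fun g =>
    ((pr ℐ (g + d)).comp u.toAddMonoidHom).comp (𝒦 g).subtype).comp
      (decomposeAddEquiv 𝒦).toAddMonoidHom

theorem degPartAdd_of_mem (u : K →ₗ[R] I) (d : ι) {g : ι} {k : K} (hk : k ∈ 𝒦 g) :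
    degPartAdd 𝒦 ℐ u d k = pr ℐ (g + d) (u k) := by
  show DirectSum.toAddMonoid _ (decompose 𝒦 k) = _
  rw [decompose_of_mem 𝒦 hk, DirectSum.toAddMonoid_of]
  rfl

include 𝒜 in
theorem degPartAdd_smul (u : K →ₗ[R] I) (d : ι) (r : R) (k : K) :
    degPartAdd 𝒦 ℐ u d (r • k) = r • degPartAdd 𝒦 ℐ u d k := by
  induction r using DirectSum.Decomposition.inductionOn 𝒜 with
  | zero => simp
  | add r r' h h' => rw [add_smul, map_add, h, h', add_smul]
  | @homogeneous a r =>
    induction k using DirectSum.Decomposition.inductionOn 𝒦 with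
    | zero => simp
    | add x y hx hy => rw [smul_add, map_add, hx, hy, map_add, smul_add]
    | @homogeneous g k =>
      rw [degPartAdd_of_mem 𝒦 ℐ u d (smul_mem 𝒦 𝒜 r.2 k.2), degPartAdd_of_mem 𝒦 ℐ u d k.2,
        map_smul, add_assoc, pr_smul_add ℐ 𝒜 r.2]

/-- The part of degree `d` of a linear map. -/
noncomputable def degPart (u : K →ₗ[R] I) (d : ι) : K →ₗ[R] I :=
  { degPartAdd 𝒦 ℐ u d with map_smul' := degPartAdd_smul 𝒜 𝒦 ℐ u d }

theorem degPart_of_mem (u : K →ₗ[R] I) (d : ι) {g : ι} {k : K} (hk : k ∈ 𝒦 g) :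
    degPart 𝒜 𝒦 ℐ u d k = pr ℐ (g + d) (u k) :=
  degPartAdd_of_mem 𝒦 ℐ u d hk

theorem degPart_isGrHom (u : K →ₗ[R] I) (d : ι) :
    IsGrHom (shiftPc 𝒦 d) ℐ (degPart 𝒜 𝒦 ℐ u d) := by
  intro j k hk
  rw [degPart_of_mem 𝒜 𝒦 ℐ u d (show k ∈ 𝒦 (j - d) from hk), sub_add_cancel]
  exact pr_mem ℐ j _

open Classical in
/-- A linear map from a finitely generated graded module is a finite sum of homogeneous parts. -/
theorem exists_sum_degPart [Module.Finite R K] (u : K →ₗ[R] I) :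
    ∃ D : Finset ι, ∑ d ∈ D, degPart 𝒜 𝒦 ℐ u d = u := by
  obtain ⟨n, k, hk⟩ := Module.Finite.exists_fin (R := R) (M := K)
  -- homogeneous generators
  choose s hs hsum using fun i => exists_sum_pr 𝒦 (k i)
  choose t ht htsum using fun (i : Fin n) (g : ι) => exists_sum_pr ℐ (u (pr 𝒦 g (k i)))
  let D : Finset ι := Finset.univ.biUnion fun i => (s i).biUnion fun g => (t i g).image (· - g)
  refine ⟨D, LinearMap.ext_on_range hk fun i => ?_⟩
  conv_lhs => rw [← hsum i]
  conv_rhs => rw [← hsum i]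
  rw [map_sum, map_sum]
  refine Finset.sum_congr rfl fun g hg => ?_
  rw [LinearMap.sum_apply]
  have h1 : ∀ d, degPart 𝒜 𝒦 ℐ u d (pr 𝒦 g (k i)) = pr ℐ (g + d) (u (pr 𝒦 g (k i))) := fun d =>
    degPart_of_mem 𝒜 𝒦 ℐ u d (pr_mem 𝒦 g (k i))
  rw [Finset.sum_congr rfl fun d _ => h1 d]
  have hsub : (t i g).image (· - g) ⊆ D := fun d hd =>
    Finset.mem_biUnion.2 ⟨i, Finset.mem_univ i, Finset.mem_biUnion.2 ⟨g, hg, hd⟩⟩
  rw [← Finset.sum_subset hsub, Finset.sum_image (fun a _ c _ h => sub_left_injective h)]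
  · conv_rhs => rw [← htsum i g]
    refine Finset.sum_congr rfl fun j _ => ?_
    rw [add_sub_cancel]
  · intro d _ hd
    refine ht i g (g + d) fun h => hd (Finset.mem_image.2 ⟨g + d, h, add_sub_cancel_left g d⟩)

/-- Linear maps from a finitely generated graded submodule to a *injective module extend. -/
theorem exists_extend [Module.Finite R K] {F : Type u} [AddCommGroup F] [Module R F]
    (ℱ : ι → AddSubgroup F) [Decomposition ℱ] [SetLike.GradedSMul 𝒜 ℱ] (hI : IsStarInj 𝒜 ℐ)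
    (f : K →ₗ[R] F) (hf : IsGrHom 𝒦 ℱ f) (hinj : Function.Injective f) (u : K →ₗ[R] I) :
    ∃ v : F →ₗ[R] I, v ∘ₗ f = u := by
  obtain ⟨D, hD⟩ := exists_sum_degPart 𝒜 𝒦 ℐ u
  have h : ∀ d, ∃ v : F →ₗ[R] I, v ∘ₗ f = degPart 𝒜 𝒦 ℐ u d := fun d => by
    obtain ⟨v, -, hv⟩ := hI (GMod.of 𝒜 K (shiftPc 𝒦 d)) (GMod.of 𝒜 F (shiftPc ℱ d)) f
      (fun j x hx => hf (j - d) x hx) hinj (degPart 𝒜 𝒦 ℐ u d) (degPart_isGrHom 𝒜 𝒦 ℐ u d)
    exact ⟨v, hv⟩
  choose v hv using h
  refine ⟨∑ d ∈ D, v d, LinearMap.ext fun x => ?_⟩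
  conv_rhs => rw [← hD]
  rw [LinearMap.comp_apply, LinearMap.sum_apply, LinearMap.sum_apply]
  exact Finset.sum_congr rfl fun d _ => LinearMap.congr_fun (hv d) x

/-- Pieces of a graded free module. -/
def freePc {n : ℕ} (d : Fin n → ι) : ι → AddSubgroup (Fin n → R) := fun g =>
  AddSubgroup.pi Set.univ fun i => 𝒜 (g - d i)

theorem mem_freePc {n : ℕ} (d : Fin n → ι) (g : ι) (v : Fin n → R) :
    v ∈ freePc 𝒜 d g ↔ ∀ i, v i ∈ 𝒜 (g - d i) := by
  simp [freePc, AddSubgroup.mem_pi]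

open Classical in
theorem freePc_isInternal {n : ℕ} (d : Fin n → ι) : DirectSum.IsInternal (freePc 𝒜 d) := by
  refine isInternal_of _ (fun v => ?_) fun s v hv hsum g hg => funext fun i => ?_
  · rw [← Finset.univ_sum_single v]
    refine sum_mem fun i _ => ?_
    obtain ⟨s, -, hs⟩ := exists_sum_pr 𝒜 (v i)
    rw [← hs]
    refine Eq.mpr (congrArg (· ∈ ⨆ g, freePc 𝒜 d g)
      (map_sum (AddMonoidHom.single (fun _ : Fin n => R) i) _ s)) ?_
    refine sum_mem fun g _ => AddSubgroup.mem_iSup_of_mem (g + d i) ((mem_freePc 𝒜 d _ _).2 ?_)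
    intro j
    rcases eq_or_ne j i with rfl | h
    · rw [AddMonoidHom.single_apply, Pi.single_eq_same, add_sub_cancel_right]
      exact pr_mem 𝒜 g _
    · rw [AddMonoidHom.single_apply, Pi.single_eq_of_ne h]
      exact zero_mem _
  · have hv' : ∀ j, v j i ∈ 𝒜 (j - d i) := fun j => (mem_freePc 𝒜 d _ _).1 (hv j) i
    have h1 : pr 𝒜 (g - d i) (∑ j ∈ s, v j i) = v g i := by
      rw [map_sum, Finset.sum_eq_single g
        (fun j _ hne => pr_of_mem_ne 𝒜 (hv' j) fun h => hne (sub_left_injective h))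
        (fun h => absurd hg h), pr_of_mem 𝒜 (hv' g)]
    have h0 : ∑ j ∈ s, v j i = 0 := by
      rw [← Finset.sum_apply, hsum]
      rfl
    rw [h0, map_zero] at h1
    exact h1.symm

noncomputable instance freePcDecomposition {n : ℕ} (d : Fin n → ι) :
    Decomposition (freePc 𝒜 d) :=
  (freePc_isInternal 𝒜 d).chooseDecomposition

instance freePc_gradedSMul {n : ℕ} (d : Fin n → ι) : SetLike.GradedSMul 𝒜 (freePc 𝒜 d) := by
  refine ⟨fun {a g r v} hr hv => (mem_freePc 𝒜 d _ _).2 fun i => ?_⟩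
  have := SetLike.mul_mem_graded (A := 𝒜) hr ((mem_freePc 𝒜 d _ _).1 hv i)
  rwa [← add_sub_assoc] at this

open Classical in
/-- Finitely generated graded modules are quotients of graded free ones. -/
theorem exists_free_presentation {M : Type u} [AddCommGroup M] [Module R M]
    (ℳ : ι → AddSubgroup M) [Decomposition ℳ] [SetLike.GradedSMul 𝒜 ℳ] [Module.Finite R M] :
    ∃ (n : ℕ) (d : Fin n → ι) (g : (Fin n → R) →ₗ[R] M),
      IsGrHom (freePc 𝒜 d) ℳ g ∧ Function.Surjective g := by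
  obtain ⟨n, k, hk⟩ := Module.Finite.exists_fin (R := R) (M := M)
  choose s hs hsum using fun i => exists_sum_pr ℳ (k i)
  let σ := Σ i : Fin n, {g // g ∈ s i}
  let e := Fintype.equivFin σ
  let d : Fin (Fintype.card σ) → ι := fun j => (e.symm j).2.1
  let m : Fin (Fintype.card σ) → M := fun j => pr ℳ (e.symm j).2.1 (k (e.symm j).1)
  refine ⟨_, d, Fintype.linearCombination R m, fun g v hv => ?_, ?_⟩
  · rw [Fintype.linearCombination_apply]
    refine sum_mem fun j _ => ?_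
    have := smul_mem ℳ 𝒜 ((mem_freePc 𝒜 d _ _).1 hv j) (pr_mem ℳ (d j) (k (e.symm j).1))
    rwa [sub_add_cancel] at this
  · rw [← LinearMap.range_eq_top, Fintype.range_linearCombination, eq_top_iff, ← hk,
      Submodule.span_le]
    rintro _ ⟨i, rfl⟩
    rw [SetLike.mem_coe, ← hsum i]
    refine Submodule.sum_mem _ fun g hg => Submodule.subset_span ⟨e ⟨i, g, hg⟩, ?_⟩
    exact congrArg (fun z : σ => pr ℳ z.2.1 (k z.1)) (e.symm_apply_apply ⟨i, g, hg⟩)

/-- `Ext^(i+1)(M, I) = 0` for `M` finitely generated graded and `I` *injective. -/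
theorem extZ_of_isStarInj [IsNoetherianRing R] (hI : IsStarInj 𝒜 ℐ) :
    ∀ (i : ℕ) (M : GMod.{u} 𝒜), Module.Finite R M.carrier →
      GrothGoren.ExtZ R M.carrier I (i + 1) := by
  intro i
  induction i with
  | zero =>
    intro M hM
    obtain ⟨n, d, g, hg, hsurj⟩ := exists_free_presentation 𝒜 M.gr
    have hK := isHomogeneous_ker hg
    letI := (subPc_isInternal (freePc 𝒜 d) hK).chooseDecomposition
    haveI := subPc_gradedSMul 𝒜 (freePc 𝒜 d) (LinearMap.ker g)
    rw [GrothGoren.extZ_one_iff_contra (LinearMap.exact_subtype_ker_map g) Subtype.val_injective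
      hsurj]
    intro u
    exact exists_extend 𝒜 (subPc (freePc 𝒜 d) (LinearMap.ker g)) ℐ (freePc 𝒜 d) hI
      (LinearMap.ker g).subtype (subtype_isGrHom _ _) Subtype.val_injective u
  | succ i ih =>
    intro M hM
    obtain ⟨n, d, g, hg, hsurj⟩ := exists_free_presentation 𝒜 M.gr
    exact GrothGoren.extZ_contra_right (LinearMap.exact_subtype_ker_map g) Subtype.val_injective
      hsurj (ih (sub 𝒜 (freePc 𝒜 d) (isHomogeneous_ker hg))
        (inferInstanceAs (Module.Finite R (LinearMap.ker g)))) GrothGoren.extZ_of_projective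

theorem isHomogeneous_pow {a : Ideal R} (ha : a.IsHomogeneous 𝒜) :
    ∀ n : ℕ, (a ^ n).IsHomogeneous 𝒜
  | 0 => by rw [pow_zero, Ideal.one_eq_top]; exact Ideal.IsHomogeneous.top 𝒜
  | n + 1 => by rw [pow_succ]; exact (isHomogeneous_pow ha n).mul ha

open CategoryTheory in
/-- *Injective modules are acyclic for `Γ_a`. -/
theorem subsingleton_H_of_isStarInj [IsNoetherianRing R] (hI : IsStarInj 𝒜 ℐ)
    (a : HomogeneousIdeal 𝒜) (i : ℕ) : Subsingleton (LocCoh.H a.toIdeal (i + 1) I) := by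
  refine subsingleton_of_forall_eq 0 fun x => ?_
  obtain ⟨n, α, rfl⟩ := Groth.LocCohBase.exists_rep (I := a.toIdeal) (i + 1) (ModuleCat.of R I) x
  have hhom : Submodule.IsHomogeneous (a.toIdeal ^ n : Submodule R R) 𝒜 :=
    isHomogeneous_pow 𝒜 a.isHomogeneous n
  have := extZ_of_isStarInj 𝒜 ℐ hI i (quot 𝒜 𝒜 hhom)
    (inferInstanceAs (Module.Finite R (R ⧸ (a.toIdeal ^ n : Submodule R R))))
  exact (congrArg _ (@Subsingleton.elim _ this α 0)).trans (map_zero _)

end GrothGr
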