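import Groth.Agent.GrMod.StarInj

/-!
# *Injective resolutions exist

Helper library (no milestone statements here).
-/

universe u

open DirectSum GrLC

namespace GrothGr

variable {ι : Type} [AddCommGroup ι] [DecidableEq ι]
variable {R : Type u} [CommRing R] {σ : Type u} [SetLike σ R] [AddSubgroupClass σ R]
variable (𝒜 : ι → σ) [GradedRing 𝒜]

/-- One step: a hull and its graded cokernel. -/
structure Step (X : GMod.{u} 𝒜) where
  E : GMod.{u} 𝒜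
  f : X.carrier →ₗ[R] E.carrier
  hull : IsStarInjHull 𝒜 X.gr E.gr f

theorem nonempty_step (X : GMod.{u} 𝒜) : Nonempty (Step 𝒜 X) :=
  let ⟨E, f, hf⟩ := exists_starInjHull 𝒜 X.gr
  ⟨⟨E, f, hf⟩⟩

noncomputable def step (X : GMod.{u} 𝒜) : Step 𝒜 X := (nonempty_step 𝒜 X).some

/-- Pieces of the graded cokernel of the hull. -/
noncomputable def nextObj (X : GMod.{u} 𝒜) : GMod.{u} 𝒜 :=
  quot 𝒜 (step 𝒜 X).E.gr (P := LinearMap.range (step 𝒜 X).f)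
    (isHomogeneous_range (step 𝒜 X).hull.grHom)

/-- The projection to the cokernel. -/
noncomputable def proj (X : GMod.{u} 𝒜) : (step 𝒜 X).E.carrier →ₗ[R] (nextObj 𝒜 X).carrier :=
  (LinearMap.range (step 𝒜 X).f).mkQ

theorem proj_isGrHom (X : GMod.{u} 𝒜) : IsGrHom (step 𝒜 X).E.gr (nextObj 𝒜 X).gr (proj 𝒜 X) :=
  fun _ m hm => ⟨m, hm, rfl⟩

theorem ker_proj (X : GMod.{u} 𝒜) : LinearMap.ker (proj 𝒜 X) = LinearMap.range (step 𝒜 X).f :=
  Submodule.ker_mkQ _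

theorem proj_surjective (X : GMod.{u} 𝒜) : Function.Surjective (proj 𝒜 X) :=
  Submodule.mkQ_surjective _

variable {M : Type u} [AddCommGroup M] [Module R M] (ℳ : ι → AddSubgroup M) [Decomposition ℳ]
  [SetLike.GradedSMul 𝒜 ℳ]

/-- The cosyzygies. -/
noncomputable def cosyz : ℕ → GMod.{u} 𝒜
  | 0 => GMod.of 𝒜 M ℳ
  | n + 1 => nextObj 𝒜 (cosyz n)

/-- A *injective resolution, minimal. -/
noncomputable def starRes : StarInjRes 𝒜 ℳ where
  X n := (step 𝒜 (cosyz 𝒜 ℳ n)).E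
  d n := (step 𝒜 (cosyz 𝒜 ℳ (n + 1))).f ∘ₗ proj 𝒜 (cosyz 𝒜 ℳ n)
  ε := (step 𝒜 (cosyz 𝒜 ℳ 0)).f
  d_grHom n := IsGrHom.comp (step 𝒜 (cosyz 𝒜 ℳ (n + 1))).hull.grHom (proj_isGrHom 𝒜 _)
  ε_grHom := (step 𝒜 (cosyz 𝒜 ℳ 0)).hull.grHom
  ε_injective := (step 𝒜 (cosyz 𝒜 ℳ 0)).hull.injective
  exact_zero := by
    exact (LinearMap.ker_comp_of_ker_eq_bot _
      (LinearMap.ker_eq_bot.2 (step 𝒜 (cosyz 𝒜 ℳ (0 + 1))).hull.injective)).trans (ker_proj 𝒜 _)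
  exact_succ n := by
    refine (LinearMap.ker_comp_of_ker_eq_bot _
      (LinearMap.ker_eq_bot.2 (step 𝒜 (cosyz 𝒜 ℳ (n + 1 + 1))).hull.injective)).trans
        ((ker_proj 𝒜 _).trans ?_)
    exact (LinearMap.range_comp_of_range_eq_top _
      (LinearMap.range_eq_top.2 (proj_surjective 𝒜 (cosyz 𝒜 ℳ n)))).symm
  starInj n := (step 𝒜 (cosyz 𝒜 ℳ n)).hull.starInj

end GrothGr
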