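import Groth.Agent.GrMod.ExtComplex
import Groth.Agent.GrMod.Core
import Groth.Agent.GrMod.Ext
import Groth.Agent.GrMod.Res
import Groth.Agent.Gorenstein.ExtBaseChange
import Mathlib.Algebra.Module.LocalizedModule.Exact
import Mathlib.RingTheory.Localization.BaseChange
import Mathlib.RingTheory.Flat.Localization
import Mathlib.RingTheory.TensorProduct.Quotient

/-!
# `Ext` from `R ⧸ p*` at primes between `p*` and `p`, for a graded module

Helper library (no milestone statements here).
-/

universe u

open DirectSum GrLC TensorProduct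

namespace GrothGr

section Localize

variable {R : Type u} [CommRing R] (S : Submonoid R) (J : Ideal R)
  (X : ℕ → Type u) [∀ n, AddCommGroup (X n)] [∀ n, Module R (X n)]
  (d : ∀ n, X n →ₗ[R] X (n + 1))

local notation "Aₛ" => Localization S
local notation "Jₛ" => Ideal.map (algebraMap R (Localization S)) J

/-- The localized complex. -/
abbrev locObj (n : ℕ) : Type u := LocalizedModule S (X n)

/-- The localized differential. -/
noncomputable abbrev locD (n : ℕ) : locObj S X n →ₗ[Aₛ] locObj S X (n + 1) :=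
  LocalizedModule.map S (d n)

theorem mk_mem_cycT (n : ℕ) (z : cycT J X d n) :
    LocalizedModule.mk (z : X n) 1 ∈ cycT Jₛ (locObj S X) (locD S X d) n := by
  refine ⟨(Submodule.mem_torsionBySet_iff _ _).2 fun ⟨a, ha⟩ => ?_, ?_⟩
  · show a • LocalizedModule.mk (z : X n) (1 : S) = 0
    refine Submodule.span_induction (fun y hy => ?_) (zero_smul Aₛ _)
      (fun y y' _ _ h h' => by rw [add_smul, h, h', add_zero])
      (fun c y _ h => by rw [smul_eq_mul, mul_smul, h, smul_zero]) ha
    obtain ⟨r, hr, rfl⟩ := hy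
    rw [algebraMap_smul, LocalizedModule.smul'_mk,
      show r • (z : X n) = 0 from (Submodule.mem_torsionBySet_iff _ _).1 z.2.1 ⟨r, hr⟩,
      LocalizedModule.zero_mk]
  · show locD S X d n (LocalizedModule.mk (z : X n) 1) = 0
    rw [LocalizedModule.map_mk, show d n (z : X n) = 0 from z.2.2, LocalizedModule.zero_mk]

/-- Cocycles into localized cocycles. -/
noncomputable def cycToLoc (n : ℕ) :
    cycT J X d n →ₗ[R] cycT Jₛ (locObj S X) (locD S X d) n where
  toFun z := ⟨LocalizedModule.mk (z : X n) 1, mk_mem_cycT S J X d n z⟩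
  map_add' z w := Subtype.ext ((LocalizedModule.mkLinearMap S (X n)).map_add (z : X n) w)
  map_smul' r z := Subtype.ext ((LocalizedModule.mkLinearMap S (X n)).map_smul r (z : X n))

theorem cob_mapsTo (n : ℕ) : (cobT J X d n).comap (cycT J X d n).subtype ≤
    (((cobT Jₛ (locObj S X) (locD S X d) n).comap
      (cycT Jₛ (locObj S X) (locD S X d) n).subtype).restrictScalars R).comap (cycToLoc S J X d n) := by
  intro z hz
  cases n with
  | zero =>
    have h0 : (z : X 0) = 0 := hz
    show LocalizedModule.mk (z : X 0) 1 ∈ (⊥ : Submodule Aₛ (locObj S X 0))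
    rw [h0, LocalizedModule.zero_mk]
    exact zero_mem _
  | succ n =>
    obtain ⟨x, hx, hxz⟩ := hz
    refine ⟨LocalizedModule.mk x 1, (Submodule.mem_torsionBySet_iff _ _).2 fun ⟨a, ha⟩ => ?_, ?_⟩
    · show a • LocalizedModule.mk x (1 : S) = 0
      refine Submodule.span_induction (fun y hy => ?_) (zero_smul Aₛ _)
        (fun y y' _ _ h h' => by rw [add_smul, h, h', add_zero])
        (fun c y _ h => by rw [smul_eq_mul, mul_smul, h, smul_zero]) ha
      obtain ⟨r, hr, rfl⟩ := hy
      rw [algebraMap_smul, LocalizedModule.smul'_mk,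
        show r • x = 0 from (Submodule.mem_torsionBySet_iff _ _).1 hx ⟨r, hr⟩,
        LocalizedModule.zero_mk]
    · show locD S X d n (LocalizedModule.mk x 1) = LocalizedModule.mk (z : X (n + 1)) 1
      rw [LocalizedModule.map_mk, hxz]
      rfl

/-- Cohomology into localized cohomology. -/
noncomputable def HTToLoc (n : ℕ) :
    HT J X d n →ₗ[R] HT Jₛ (locObj S X) (locD S X d) n :=
  (Submodule.Quotient.restrictScalarsEquiv R _).toLinearMap ∘ₗ
    Submodule.mapQ _ _ (cycToLoc S J X d n) (cob_mapsTo S J X d n)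

theorem HTToLoc_mk (n : ℕ) (z : cycT J X d n) :
    HTToLoc S J X d n (Submodule.Quotient.mk z) = Submodule.Quotient.mk (cycToLoc S J X d n z) :=
  rfl

theorem exists_clear {M : Type u} [AddCommGroup M] [Module R M] (hJ : J.FG) (y : LocalizedModule S M)
    (hy : y ∈ LocCoh.torsionBy Jₛ (LocalizedModule S M)) :
    ∃ (m : M) (s : S), y = LocalizedModule.mk m s ∧ m ∈ LocCoh.torsionBy J M := by
  classical
  obtain ⟨G, hG⟩ := hJ
  induction y using LocalizedModule.induction_on with
  | h m s =>
    have h : ∀ g : R, g ∈ G → ∃ t : S, t • g • m = 0 := by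
      intro g hg
      have h1 : (algebraMap R Aₛ g) • LocalizedModule.mk m s = 0 :=
        (Submodule.mem_torsionBySet_iff _ _).1 hy
          ⟨_, Ideal.mem_map_of_mem _ (hG ▸ Submodule.subset_span hg)⟩
      rw [algebraMap_smul, LocalizedModule.smul'_mk, ← LocalizedModule.zero_mk s,
        LocalizedModule.mk_eq] at h1
      obtain ⟨t, ht⟩ := h1
      refine ⟨t * s, ?_⟩
      simpa [mul_smul] using ht
    choose! t ht using h
    let T : S := ∏ g ∈ G, t g
    refine ⟨(T : R) • m, T * s, ?_, ?_⟩
    · rw [LocalizedModule.mk_eq]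
      refine ⟨1, ?_⟩
      simp [Submonoid.smul_def, mul_smul, smul_comm (T : R) (s : R)]
    · rw [Submodule.mem_torsionBySet_iff]
      rintro ⟨r, hr⟩
      show r • (T : R) • m = 0
      rw [← hG] at hr
      refine Submodule.span_induction (fun g hg => ?_) (zero_smul R _)
        (fun y y' _ _ h h' => by rw [add_smul, h, h', add_zero])
        (fun c y _ h => by rw [smul_eq_mul, mul_smul, h, smul_zero]) hr
      have h0 := ht g hg
      rw [Submonoid.smul_def] at h0
      have hT : (T : R) = (∏ g' ∈ G.erase g, (t g' : R)) * (t g : R) := by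
        rw [Submonoid.coe_finsetProd, mul_comm]
        exact (Finset.mul_prod_erase G (fun g' => (t g' : R)) hg).symm
      rw [smul_comm, hT, mul_smul, h0, smul_zero]

theorem isLocalizedModule_HTToLoc (hJ : J.FG) (n : ℕ) :
    IsLocalizedModule S (HTToLoc S J X d n) := by
  refine ⟨fun s => ?_, fun y => ?_, fun {x₁ x₂} h => ?_⟩
  · rw [Module.End.isUnit_iff]
    have hu : IsUnit (algebraMap R Aₛ s) := IsLocalization.map_units Aₛ s
    refine ⟨fun a b hab => ?_, fun b => ⟨(↑hu.unit⁻¹ : Aₛ) • b, ?_⟩⟩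
    · simp only [Module.algebraMap_end_apply] at hab
      rw [← algebraMap_smul Aₛ (s : R), ← algebraMap_smul Aₛ (s : R) b] at hab
      exact hu.smul_left_cancel.1 hab
    · rw [Module.algebraMap_end_apply, ← algebraMap_smul Aₛ (s : R), ← mul_smul, IsUnit.mul_val_inv,
        one_smul]
  · obtain ⟨⟨y, hy⟩, rfl⟩ := Submodule.Quotient.mk_surjective _ y
    obtain ⟨m, s, rfl, hm⟩ := exists_clear S J hJ y hy.1
    have hd0 : LocalizedModule.mk (d n m) s = 0 := by
      have : locD S X d n (LocalizedModule.mk m s) = 0 := hy.2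
      rwa [LocalizedModule.map_mk] at this
    rw [← LocalizedModule.zero_mk s, LocalizedModule.mk_eq] at hd0
    obtain ⟨t, ht⟩ := hd0
    have hz : (t * s : S) • m ∈ cycT J X d n := by
      refine ⟨Submodule.smul_mem _ _ hm, ?_⟩
      show d n ((t * s : S) • m) = 0
      rw [Submonoid.smul_def, map_smul]
      simpa [Submonoid.smul_def, mul_smul] using ht
    refine ⟨⟨Submodule.Quotient.mk ⟨_, hz⟩, t * s * s⟩, ?_⟩
    rw [HTToLoc_mk, Submonoid.smul_def, ← Submodule.Quotient.mk_smul]
    refine congrArg Submodule.Quotient.mk (Subtype.ext ?_)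
    show ((t * s * s : S) : R) • LocalizedModule.mk m s = LocalizedModule.mk ((t * s : S) • m) 1
    rw [LocalizedModule.smul'_mk, LocalizedModule.mk_eq]
    refine ⟨1, ?_⟩
    simp only [Submonoid.smul_def, Submonoid.coe_mul, Submonoid.coe_one, one_smul, ← mul_smul]
    ring_nf
  · obtain ⟨z₁, rfl⟩ := Submodule.Quotient.mk_surjective _ x₁
    obtain ⟨z₂, rfl⟩ := Submodule.Quotient.mk_surjective _ x₂
    rw [HTToLoc_mk, HTToLoc_mk, Submodule.Quotient.eq, ← map_sub, Submodule.mem_comap] at h
    suffices hs : ∃ c : S, c • (Submodule.Quotient.mk (z₁ - z₂) : HT J X d n) = 0 by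
      obtain ⟨c, hc⟩ := hs
      refine ⟨c, ?_⟩
      rwa [Submodule.Quotient.mk_sub, smul_sub, sub_eq_zero] at hc
    generalize z₁ - z₂ = z at h ⊢
    cases n with
    | zero =>
      have h0 : LocalizedModule.mk (z : X 0) (1 : S) = 0 := h
      rw [← LocalizedModule.zero_mk (1 : S), LocalizedModule.mk_eq] at h0
      obtain ⟨c, hc⟩ := h0
      refine ⟨c, ?_⟩
      rw [Submonoid.smul_def, ← Submodule.Quotient.mk_smul, Submodule.Quotient.mk_eq_zero]
      show (c : R) • (z : X 0) = 0
      simpa [Submonoid.smul_def] using hc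
    | succ n =>
      obtain ⟨w, hw, hwz⟩ := h
      obtain ⟨m, s, rfl, hm⟩ := exists_clear S J hJ w hw
      have hwz' : LocalizedModule.mk (d n m) s = LocalizedModule.mk (z : X (n + 1)) 1 := by
        rw [← LocalizedModule.map_mk (S := S) (d n)]
        exact hwz
      rw [LocalizedModule.mk_eq] at hwz'
      obtain ⟨t, ht⟩ := hwz'
      refine ⟨t * s, ?_⟩
      rw [Submonoid.smul_def, ← Submodule.Quotient.mk_smul, Submodule.Quotient.mk_eq_zero]
      refine ⟨(t : R) • m, Submodule.smul_mem _ _ hm, ?_⟩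
      rw [map_smul]
      simpa [Submonoid.smul_def, mul_smul] using ht

end Localize

section Graded

variable {ι : Type} [AddCommGroup ι] [DecidableEq ι]
variable {R : Type u} [CommRing R] (𝒜 : ι → AddSubgroup R) [GradedRing 𝒜]
variable {M : Type u} [AddCommGroup M] [Module R M] (ℳ : ι → AddSubgroup M) [Decomposition ℳ]
  [SetLike.GradedSMul 𝒜 ℳ]

include 𝒜 in
theorem isHomogeneous_torsionBy {a : Ideal R} (ha : a.IsHomogeneous 𝒜) :
    (LocCoh.torsionBy a M).IsHomogeneous ℳ := by
  classical
  intro g x hx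
  rw [Submodule.mem_torsionBySet_iff] at hx ⊢
  rintro ⟨r, hr⟩
  show r • _ = (0 : M)
  rw [← sum_support_decompose 𝒜 r, Finset.sum_smul]
  refine Finset.sum_eq_zero fun c _ => ?_
  rw [← pr_apply ℳ g x, ← pr_smul_add ℳ 𝒜 (decompose 𝒜 r c).2]
  rw [hx ⟨_, ha c hr⟩, map_zero]

variable [IsNoetherianRing R]

include ℳ in
/-- The `Ext` modules from `R ⧸ p*` are free at primes between `p*` and `p`, on common bases. -/
theorem exists_extQ_free (p : Ideal R) [p.IsPrime] [hP : (core 𝒜 p).IsPrime] :
    ∃ κ : ℕ → Type u, ∀ (q : Ideal R) [q.IsPrime], core 𝒜 p ≤ q → q ≤ p → ∀ i : ℕ,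
      Nonempty (ExtQ ((core 𝒜 p).map (algebraMap R (Localization.AtPrime q)))
          (LocalizedModule q.primeCompl M) i ≃ₗ[Localization.AtPrime q]
        (κ i →₀ (Localization.AtPrime q ⧸ (core 𝒜 p).map (algebraMap R (Localization.AtPrime q))))) := by
  set P := core 𝒜 p with hPdef
  have hPhom : P.IsHomogeneous 𝒜 := (p.homogeneousCore 𝒜).isHomogeneous
  let E := starRes 𝒜 ℳ
  let X : ℕ → Type u := fun n => (E.X n).carrier
  let d : ∀ n, X n →ₗ[R] X (n + 1) := E.d
  have hbasis : ∀ i, ∃ (κ : Type u) (b : κ → HT P X d i), IsCoreBasis P p b := by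
    intro i
    have hcyc : (cycT P X d i).IsHomogeneous (E.X i).gr :=
      isHomogeneous_inf (isHomogeneous_torsionBy 𝒜 (E.X i).gr hPhom)
        (isHomogeneous_ker (E.d_grHom i))
    have hcob : (cobT P X d i).IsHomogeneous (E.X i).gr := by
      cases i with
      | zero => exact isHomogeneous_bot
      | succ n =>
        exact isHomogeneous_map (E.d_grHom n) (isHomogeneous_torsionBy 𝒜 (E.X n).gr hPhom)
    letI := (subPc_isInternal (E.X i).gr hcyc).chooseDecomposition
    haveI := subPc_gradedSMul 𝒜 (E.X i).gr (cycT P X d i)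
    have hQ : ((cobT P X d i).comap (cycT P X d i).subtype).IsHomogeneous
        (subPc (E.X i).gr (cycT P X d i)) :=
      isHomogeneous_comap (subtype_isGrHom (E.X i).gr (cycT P X d i)) hcob
    letI := (quotPc_isInternal (subPc (E.X i).gr (cycT P X d i)) hQ).chooseDecomposition
    haveI := quotPc_gradedSMul 𝒜 (subPc (E.X i).gr (cycT P X d i))
      ((cobT P X d i).comap (cycT P X d i).subtype)
    refine exists_coreBasis 𝒜 (quotPc (subPc (E.X i).gr (cycT P X d i))
      ((cobT P X d i).comap (cycT P X d i).subtype)) p fun r hr n => ?_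
    obtain ⟨z, rfl⟩ := Submodule.Quotient.mk_surjective _ n
    rw [← Submodule.Quotient.mk_smul, Submodule.Quotient.mk_eq_zero, Submodule.mem_comap]
    have h0 : r • (z : X i) = 0 := (Submodule.mem_torsionBySet_iff _ _).1 z.2.1 ⟨r, hr⟩
    show ((r • z : cycT P X d i) : X i) ∈ cobT P X d i
    rw [Submodule.coe_smul, h0]
    exact zero_mem _
  choose κ b hb using hbasis
  refine ⟨κ, fun q _ hPq hqp i => ?_⟩
  set A := Localization.AtPrime q
  set JA := P.map (algebraMap R A)
  let Y := locObj q.primeCompl X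
  let dY := locD q.primeCompl X d
  have hdY : ∀ n, LinearMap.ker (dY (n + 1)) = LinearMap.range (dY n) := fun n =>
    LinearMap.exact_iff.1 (LocalizedModule.map_exact q.primeCompl (d n) (d (n + 1))
      (LinearMap.exact_iff.2 (E.exact_succ n)))
  have hY : ∀ n j : ℕ, GrothGoren.ExtZ A (A ⧸ JA) (Y n) (j + 1) := by
    intro n j
    have hE : GrothGoren.ExtZ R (R ⧸ P) (X n) (j + 1) :=
      extZ_of_isStarInj 𝒜 (E.X n).gr (E.starInj n) j
        (GMod.of 𝒜 (R ⧸ (p.homogeneousCore 𝒜).toIdeal) (quotGr 𝒜 (p.homogeneousCore 𝒜)))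
        (Module.Finite.quotient R (p.homogeneousCore 𝒜).toIdeal)
    have h := GrothGoren.extZ_baseChange (B := A) (X n) (R ⧸ P) hE
    exact GrothGoren.extZ_of_equiv
      (IsLocalizedModule.isBaseChange q.primeCompl A
        (LocalizedModule.mkLinearMap q.primeCompl (X n))).equiv
      (GrothGoren.extZ_of_equiv_left
        (Algebra.TensorProduct.quotIdealMapEquivTensorQuot A P).toLinearEquiv.symm h)
  obtain ⟨e₁⟩ := nonempty_extQ_equiv JA hdY hY (LocalizedModule.map q.primeCompl E.ε)
    (LocalizedModule.map_injective q.primeCompl E.ε E.ε_injective)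
    (LinearMap.exact_iff.1 (LocalizedModule.map_exact q.primeCompl E.ε (d 0)
      (LinearMap.exact_iff.2 E.exact_zero))) i
  haveI := isLocalizedModule_HTToLoc q.primeCompl P X d (IsNoetherian.noetherian P) i
  let e₂ := (IsLocalizedModule.iso q.primeCompl
    (HTToLoc q.primeCompl P X d i)).extendScalarsOfIsLocalization q.primeCompl A
  obtain ⟨e₃⟩ := nonempty_localized_equiv (hb i) (fun r hr n => by
    obtain ⟨z, rfl⟩ := Submodule.Quotient.mk_surjective _ n
    rw [← Submodule.Quotient.mk_smul, Submodule.Quotient.mk_eq_zero, Submodule.mem_comap]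
    have h0 : r • (z : X i) = 0 := (Submodule.mem_torsionBySet_iff _ _).1 z.2.1 ⟨r, hr⟩
    show ((r • z : cycT P X d i) : X i) ∈ cobT P X d i
    rw [Submodule.coe_smul, h0]
    exact zero_mem _) q hPq hqp
  exact ⟨e₁.trans (e₂.symm.trans e₃.symm)⟩

end Graded

end GrothGr
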