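import Groth.Agent.GrMod.StarInj
import Groth.Agent.Matlis.Localize
import Mathlib.RingTheory.GradedAlgebra.Radical
import Mathlib.Algebra.Order.Group.PiLex
import Mathlib.LinearAlgebra.Dimension.Free
import Mathlib.LinearAlgebra.Basis.VectorSpace

/-!
# `R ⧸ p` for homogeneous primes, shifts, and *injective envelopes of `R ⧸ p`

Helper library (no milestone statements here).
-/

universe u

open DirectSum GrLC

namespace GrothGr

variable {ι : Type} [AddCommGroup ι] [DecidableEq ι]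
variable {R : Type u} [CommRing R]

section Shift

variable {M : Type u} [AddCommGroup M] [Module R M]

/-- Pieces of a shifted graded module: degree `j` is the old degree `j - g`. -/
def shiftPc (pc : ι → AddSubgroup M) (g : ι) : ι → AddSubgroup M := fun j => pc (j - g)

open Classical in
theorem shiftPc_isInternal (pc : ι → AddSubgroup M) [Decomposition pc] (g : ι) :
    DirectSum.IsInternal (shiftPc pc g) := by
  refine isInternal_of _ (fun x => ?_) fun s v hv hsum j hj => ?_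
  · obtain ⟨s, -, hs⟩ := exists_sum_pr pc x
    rw [← hs]
    refine sum_mem fun k _ => AddSubgroup.mem_iSup_of_mem (k + g) ?_
    show pr pc k x ∈ pc (k + g - g)
    rw [add_sub_cancel_right]
    exact pr_mem pc k x
  · have hv' : ∀ i, v i ∈ pc (i - g) := hv
    have h1 : pr pc (j - g) (∑ i ∈ s, v i) = v j := by
      rw [map_sum, Finset.sum_eq_single j
        (fun i _ hne => pr_of_mem_ne pc (hv' i) fun h => hne (sub_left_injective h))
        (fun h => absurd hj h), pr_of_mem pc (hv' j)]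
    rw [hsum, map_zero] at h1
    exact h1.symm

noncomputable instance shiftPcDecomposition (pc : ι → AddSubgroup M) [Decomposition pc] (g : ι) :
    Decomposition (shiftPc pc g) :=
  (shiftPc_isInternal pc g).chooseDecomposition

instance shiftPc_gradedSMul {σ : Type u} [SetLike σ R] [AddSubgroupClass σ R] (𝒜 : ι → σ)
    (pc : ι → AddSubgroup M) [SetLike.GradedSMul 𝒜 pc] (g : ι) :
    SetLike.GradedSMul 𝒜 (shiftPc pc g) := by
  refine ⟨fun {a j r m} hr hm => ?_⟩
  show r • m ∈ pc (a + j - g)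
  rw [add_sub_assoc]
  exact SetLike.GradedSMul.smul_mem (A := 𝒜) (B := pc) hr hm

theorem isHomogeneous_shiftPc_iff (pc : ι → AddSubgroup M) [Decomposition pc] (g : ι)
    (P : Submodule R M) : P.IsHomogeneous (shiftPc pc g) ↔ P.IsHomogeneous pc := by
  have key : ∀ (j : ι) (m : M), pr (shiftPc pc g) j m = pr pc (j - g) m := by
    intro j m
    induction m using DirectSum.Decomposition.inductionOn pc with
    | zero => simp
    | @homogeneous k x =>
      have hx : (x : M) ∈ shiftPc pc g (k + g) := by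
        show (x : M) ∈ pc (k + g - g)
        rw [add_sub_cancel_right]
        exact x.2
      by_cases h : k + g = j
      · subst h
        rw [pr_of_mem _ hx, add_sub_cancel_right, pr_of_mem pc x.2]
      · rw [pr_of_mem_ne _ hx h, pr_of_mem_ne pc x.2 fun hc => h (by rw [hc, sub_add_cancel])]
    | add x y hx hy => rw [map_add, map_add, hx, hy]
  constructor
  · intro h k m hm
    have h2 : pr (shiftPc pc g) (k + g) m ∈ P := h (k + g) hm
    rwa [key, add_sub_cancel_right] at h2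
  · intro h j m hm
    show pr (shiftPc pc g) j m ∈ P
    rw [key]
    exact h (j - g) hm

end Shift

variable (𝒜 : ι → AddSubgroup R) [GradedRing 𝒜] (p : HomogeneousIdeal 𝒜)

theorem toIdeal_isHomogeneous : Submodule.IsHomogeneous (p.toIdeal : Submodule R R) 𝒜 :=
  p.isHomogeneous

theorem quotGr_isInternal : DirectSum.IsInternal (quotGr 𝒜 p) :=
  quotPc_isInternal 𝒜 (toIdeal_isHomogeneous 𝒜 p)

noncomputable instance quotGrDecomposition : Decomposition (quotGr 𝒜 p) :=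
  (quotGr_isInternal 𝒜 p).chooseDecomposition

instance quotGr_gradedSMul : SetLike.GradedSMul 𝒜 (quotGr 𝒜 p) :=
  ⟨fun {_ _ _ _} hr hm => (quotPc_gradedSMul 𝒜 𝒜 (p.toIdeal : Submodule R R)).smul_mem hr hm⟩

theorem one_mem_quotGr : (1 : R ⧸ p.toIdeal) ∈ quotGr 𝒜 p 0 :=
  ⟨1, SetLike.one_mem_graded 𝒜, rfl⟩

section Maps

variable {N : Type u} [AddCommGroup N] [Module R N]

/-- The map `R ⧸ p → N` sending `1` to an element killed by `p`. -/
noncomputable def liftElem (m : N) (h : ∀ r ∈ p.toIdeal, r • m = 0) : (R ⧸ p.toIdeal) →ₗ[R] N :=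
  (p.toIdeal : Submodule R R).liftQ (LinearMap.toSpanSingleton R N m) fun r hr => h r hr

theorem liftElem_mk (m : N) (h : ∀ r ∈ p.toIdeal, r • m = 0) (r : R) :
    liftElem 𝒜 p m h (Ideal.Quotient.mk p.toIdeal r) = r • m := rfl

theorem liftElem_one (m : N) (h : ∀ r ∈ p.toIdeal, r • m = 0) : liftElem 𝒜 p m h 1 = m := by
  rw [← map_one (Ideal.Quotient.mk p.toIdeal), liftElem_mk, one_smul]

variable (𝒩 : ι → AddSubgroup N) [SetLike.GradedSMul 𝒜 𝒩]

theorem liftElem_isGrHom {g₀ : ι} (m : N) (hm : m ∈ 𝒩 g₀) (h : ∀ r ∈ p.toIdeal, r • m = 0) :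
    IsGrHom (shiftPc (quotGr 𝒜 p) g₀) 𝒩 (liftElem 𝒜 p m h) := by
  rintro j _ ⟨r, hr, rfl⟩
  show r • m ∈ 𝒩 j
  have := SetLike.GradedSMul.smul_mem (A := 𝒜) (B := 𝒩) (show r ∈ 𝒜 (j - g₀) from hr) hm
  rwa [vadd_eq_add, sub_add_cancel] at this

end Maps

theorem exists_linearOrder (ι : Type) [AddCommGroup ι] [Module.Free ℤ ι] [Module.Finite ℤ ι] :
    ∃ l : LinearOrder ι, @IsOrderedCancelAddMonoid ι _ l.toPartialOrder.toPreorder := by
  classical
  let κ := Module.Free.ChooseBasisIndex ℤ ι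
  letI : LinearOrder κ := linearOrderOfSTO WellOrderingRel
  haveI : Fintype κ := Module.Free.ChooseBasisIndex.fintype ℤ ι
  let e : ι ≃ₗ[ℤ] (κ → ℤ) := (Module.Free.chooseBasis ℤ ι).equivFun
  let f : ι → Lex (κ → ℤ) := fun x => toLex (e x)
  let l : LinearOrder ι := LinearOrder.lift' f fun a b h => e.injective (toLex.injective h)
  refine ⟨l, ?_⟩
  letI := l
  have hle : ∀ a b : ι, a ≤ b ↔ f a ≤ f b := fun _ _ => Iff.rfl
  have hadd : ∀ a b : ι, f (a + b) = f a + f b := fun a b => by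
    simp only [f, map_add]
    rfl
  exact
    { add_le_add_left := fun a b h c => by rw [hle, hadd, hadd] at *; exact add_le_add_left h _
      le_of_add_le_add_left := fun a b c h => by
        rw [hle, hadd, hadd] at h
        rw [hle]
        exact le_of_add_le_add_left h }

section Prime

variable [Module.Free ℤ ι] [Module.Finite ℤ ι]

/-- A homogeneous ideal is prime if it is prime on homogeneous elements. -/
theorem isPrime_of_homogeneous {I : Ideal R} (hI : I.IsHomogeneous 𝒜) (hne : I ≠ ⊤)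
    (h : ∀ (a b : ι) (x y : R), x ∈ 𝒜 a → y ∈ 𝒜 b → x * y ∈ I → x ∈ I ∨ y ∈ I) : I.IsPrime := by
  obtain ⟨l, hl⟩ := exists_linearOrder ι
  letI := l
  obtain rfl : (inferInstance : DecidableEq ι) = l.toDecidableEq := Subsingleton.elim _ _
  exact hI.isPrime_of_homogeneous_mem_or_mem hne fun ⟨a, ha⟩ ⟨b, hb⟩ hxy => h a b _ _ ha hb hxy

end Prime

section Envelope

variable [IsNoetherianRing R] [hp : p.toIdeal.IsPrime]
variable {E : Type u} [AddCommGroup E] [Module R E] {𝓔 : ι → AddSubgroup E} [Decomposition 𝓔]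
  [SetLike.GradedSMul 𝒜 𝓔] {e : (R ⧸ p.toIdeal) →ₗ[R] E}

omit hp [IsNoetherianRing R] in
theorem hull_isEssentialInj (he : IsStarInjHull 𝒜 (quotGr 𝒜 p) 𝓔 e) : InjHull.IsEssentialInj e :=
  IsStarEss.isEssentialInj 𝒜 he.toIsStarEss (isHomogeneous_range he.grHom)

omit [IsNoetherianRing R] in
theorem smul_ne_zero_of_notMem (he : IsStarInjHull 𝒜 (quotGr 𝒜 p) 𝓔 e) {r : R}
    (hr : r ∉ p.toIdeal) {x : E} (hx : x ≠ 0) : r • x ≠ 0 := by
  intro h0
  obtain ⟨s, ⟨q, hq⟩, hs⟩ :=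
    GrothMatlis.IsEssentialInj.exists_smul (hull_isEssentialInj 𝒜 p he) hx
  obtain ⟨t, rfl⟩ := Ideal.Quotient.mk_surjective q
  have h1 : Ideal.Quotient.mk p.toIdeal (r * t) = 0 := he.injective (by
    rw [map_zero, show Ideal.Quotient.mk p.toIdeal (r * t) = r • Ideal.Quotient.mk p.toIdeal t
      from rfl, map_smul, hq, smul_comm, h0, smul_zero])
  have ht : t ∈ p.toIdeal :=
    (hp.mem_or_mem (Ideal.Quotient.eq_zero_iff_mem.1 h1)).resolve_left hr
  exact hs (by rw [← hq, Ideal.Quotient.eq_zero_iff_mem.2 ht, map_zero])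

omit [IsNoetherianRing R] in
theorem smul_bijective (he : IsStarInjHull 𝒜 (quotGr 𝒜 p) 𝓔 e) {g : ι} {r : R} (hr : r ∈ 𝒜 g)
    (hrp : r ∉ p.toIdeal) : Function.Bijective (fun x : E => r • x) := by
  let μ : E →ₗ[R] E := LinearMap.lsmul R E r
  have hinj : Function.Injective μ := by
    rw [← LinearMap.ker_eq_bot, Submodule.eq_bot_iff]
    intro x hx
    by_contra h
    exact smul_ne_zero_of_notMem 𝒜 p he hrp h hx
  have hμ : IsGrHom 𝓔 (shiftPc 𝓔 (-g)) μ := fun j x hx => by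
    show r • x ∈ 𝓔 (j - -g)
    rw [sub_neg_eq_add, add_comm]
    exact smul_mem 𝓔 𝒜 hr hx
  refine ⟨hinj, surjective_of_isStarEss 𝒜 𝓔 he.starInj (GMod.of 𝒜 E (shiftPc 𝓔 (-g))) μ ?_⟩
  refine isStarEss_of_exists_smul (𝒩 := shiftPc 𝓔 (-g)) hinj hμ fun j x _ hx => ?_
  exact ⟨r, ⟨x, rfl⟩, smul_ne_zero_of_notMem 𝒜 p he hrp hx⟩

omit [IsNoetherianRing R] in
theorem isStarIndec (he : IsStarInjHull 𝒜 (quotGr 𝒜 p) 𝓔 e) : IsStarIndec R 𝓔 := by
  haveI : Nontrivial (R ⧸ p.toIdeal) := Ideal.Quotient.nontrivial_iff.2 hp.ne_top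
  refine ⟨he.injective.nontrivial, fun P Q hP hQ hPQ => ?_⟩
  by_contra hcon
  push Not at hcon
  obtain ⟨_, ⟨hyP, y, rfl⟩, hy⟩ :=
    Submodule.exists_mem_ne_zero_of_ne_bot (he.essential P hP hcon.1)
  obtain ⟨_, ⟨hzQ, z, rfl⟩, hz⟩ :=
    Submodule.exists_mem_ne_zero_of_ne_bot (he.essential Q hQ hcon.2)
  obtain ⟨a, rfl⟩ := Ideal.Quotient.mk_surjective y
  obtain ⟨b, rfl⟩ := Ideal.Quotient.mk_surjective z
  have h1 : e (Ideal.Quotient.mk p.toIdeal (a * b)) = b • e (Ideal.Quotient.mk p.toIdeal a) := by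
    rw [← map_smul, mul_comm a b]
    rfl
  have h2 : e (Ideal.Quotient.mk p.toIdeal (a * b)) = a • e (Ideal.Quotient.mk p.toIdeal b) := by
    rw [← map_smul]
    rfl
  have h0 : e (Ideal.Quotient.mk p.toIdeal (a * b)) = 0 :=
    Submodule.disjoint_def.1 hPQ.disjoint _ (h1 ▸ P.smul_mem b hyP) (h2 ▸ Q.smul_mem a hzQ)
  rcases hp.mem_or_mem (Ideal.Quotient.eq_zero_iff_mem.1 (he.injective (h0.trans (map_zero e).symm)))
    with h | h
  · exact hy (by rw [Ideal.Quotient.eq_zero_iff_mem.2 h, map_zero])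
  · exact hz (by rw [Ideal.Quotient.eq_zero_iff_mem.2 h, map_zero])

theorem gam_eq_top (he : IsStarInjHull 𝒜 (quotGr 𝒜 p) 𝓔 e) : gam p.toIdeal E = ⊤ := by
  obtain ⟨J, _, _, j, hj⟩ := GrothMatlis.exists_hull R (R ⧸ p.toIdeal)
  obtain ⟨k, hk⟩ := hj.isInjective.out e he.injective j
  have hkinj : Function.Injective k := GrothMatlis.IsEssentialInj.injective_of_comp
    (hull_isEssentialInj 𝒜 p he) fun a b h => hj.injective (by rw [← hk a, ← hk b]; exact h)
  refine Submodule.eq_top_iff'.2 fun x => ?_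
  obtain ⟨n, hn⟩ := GrothMatlis.hull_ptor_eq_top p.toIdeal hj (k x)
  exact ⟨n, fun r hr => hkinj (by rw [map_smul, hn r hr, map_zero])⟩

omit [IsNoetherianRing R] in
theorem eq_of_equiv (he : IsStarInjHull 𝒜 (quotGr 𝒜 p) 𝓔 e) {q : HomogeneousIdeal 𝒜}
    [hq : q.toIdeal.IsPrime] {F : Type u} [AddCommGroup F] [Module R F] {𝓕 : ι → AddSubgroup F}
    [Decomposition 𝓕] [SetLike.GradedSMul 𝒜 𝓕] {f : (R ⧸ q.toIdeal) →ₗ[R] F}
    (hf : IsStarInjHull 𝒜 (quotGr 𝒜 q) 𝓕 f) (φ : E ≃ₗ[R] F) : p = q := by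
  have h1 : φ (e 1) ≠ 0 := by
    intro h
    have h' : (1 : R ⧸ p.toIdeal) = 0 := he.injective (φ.injective (by rw [h, map_zero, map_zero]))
    rw [← map_one (Ideal.Quotient.mk p.toIdeal), Ideal.Quotient.eq_zero_iff_mem] at h'
    exact hp.ne_top ((Ideal.eq_top_iff_one _).2 h')
  obtain ⟨s, ⟨t, ht⟩, hs⟩ :=
    GrothMatlis.IsEssentialInj.exists_smul (hull_isEssentialInj 𝒜 q hf) h1
  obtain ⟨t, rfl⟩ := Ideal.Quotient.mk_surjective t
  have hsp : s ∉ p.toIdeal := fun h => hs (by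
    rw [← map_smul, ← map_smul,
      show s • (1 : R ⧸ p.toIdeal) = Ideal.Quotient.mk p.toIdeal (s * 1) from rfl, mul_one,
      Ideal.Quotient.eq_zero_iff_mem.2 h, map_zero, map_zero])
  have htq : t ∉ q.toIdeal := fun h => hs (by
    rw [← ht, Ideal.Quotient.eq_zero_iff_mem.2 h, map_zero])
  apply HomogeneousIdeal.toIdeal_injective
  refine Ideal.ext fun r => ⟨fun hr => ?_, fun hr => ?_⟩
  · have h0 : Ideal.Quotient.mk q.toIdeal (r * t) = 0 := hf.injective (by
      rw [map_zero, show Ideal.Quotient.mk q.toIdeal (r * t) = r • Ideal.Quotient.mk q.toIdeal t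
        from rfl, map_smul, ht, smul_comm, ← map_smul φ r, ← map_smul e r,
        show r • (1 : R ⧸ p.toIdeal) = Ideal.Quotient.mk p.toIdeal (r * 1) from rfl, mul_one,
        Ideal.Quotient.eq_zero_iff_mem.2 hr, map_zero, map_zero, smul_zero])
    exact (hq.mem_or_mem (Ideal.Quotient.eq_zero_iff_mem.1 h0)).resolve_right htq
  · have h0 : Ideal.Quotient.mk p.toIdeal (r * s) = 0 := he.injective (φ.injective (by
      rw [map_zero, map_zero,
        show Ideal.Quotient.mk p.toIdeal (r * s) = r • s • (1 : R ⧸ p.toIdeal) by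
          rw [← mul_smul]; exact congrArg _ (mul_one (r * s)).symm,
        map_smul, map_smul, map_smul, map_smul, ← ht, ← map_smul,
        show r • Ideal.Quotient.mk q.toIdeal t = Ideal.Quotient.mk q.toIdeal (r * t) from rfl,
        Ideal.Quotient.eq_zero_iff_mem.2 (Ideal.mul_mem_right _ _ hr), map_zero]))
    exact (hp.mem_or_mem (Ideal.Quotient.eq_zero_iff_mem.1 h0)).resolve_right hsp

end Envelope

section Summand

variable {I : Type u} [AddCommGroup I] [Module R I] (ℐ : ι → AddSubgroup I) [Decomposition ℐ]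
  [SetLike.GradedSMul 𝒜 ℐ]

theorem exists_summand (hI : IsStarInj 𝒜 ℐ) (g₀ : ι) (m : I) (hm : m ∈ ℐ g₀)
    (hann : (R ∙ m).annihilator = p.toIdeal) :
    ∃ (X : GMod.{u} 𝒜) (f : (R ⧸ p.toIdeal) →ₗ[R] X.carrier) (ψ : X.carrier →ₗ[R] I)
      (Q : Submodule R I), IsStarInjHull 𝒜 (shiftPc (quotGr 𝒜 p) g₀) X.gr f ∧
        Function.Injective ψ ∧ IsGrHom X.gr ℐ ψ ∧ ψ (f 1) = m ∧ Q.IsHomogeneous ℐ ∧
        IsCompl (LinearMap.range ψ) Q := by
  have hmem : ∀ r, r ∈ p.toIdeal ↔ r • m = 0 := fun r => by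
    rw [← hann, Submodule.mem_annihilator_span_singleton]
  let φ := liftElem 𝒜 p m fun r hr => (hmem r).1 hr
  have hφ : Function.Injective φ := by
    rw [← LinearMap.ker_eq_bot, Submodule.eq_bot_iff]
    intro q hq
    obtain ⟨r, rfl⟩ := Ideal.Quotient.mk_surjective q
    exact Ideal.Quotient.eq_zero_iff_mem.2 ((hmem r).2 hq)
  obtain ⟨X, f, hf⟩ := exists_starInjHull 𝒜 (shiftPc (quotGr 𝒜 p) g₀)
  obtain ⟨ψ, hψ, hψf⟩ := hI (GMod.of 𝒜 _ (shiftPc (quotGr 𝒜 p) g₀)) X f hf.grHom hf.injective φ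
    (liftElem_isGrHom 𝒜 p ℐ m hm fun r hr => (hmem r).1 hr)
  have hψf' : ∀ q, ψ (f q) = φ q := fun q => LinearMap.congr_fun hψf q
  have hψinj : Function.Injective ψ := GrothMatlis.IsEssentialInj.injective_of_comp
    (IsStarEss.isEssentialInj 𝒜 hf.toIsStarEss (isHomogeneous_range hf.grHom))
    fun a b h => hφ (by rw [← hψf' a, ← hψf' b]; exact h)
  obtain ⟨ρ, hρ, hρψ⟩ := hf.starInj X (GMod.of 𝒜 I ℐ) ψ hψ hψinj LinearMap.id (isGrHom_id X.gr)
  refine ⟨X, f, ψ, LinearMap.ker ρ, hf, hψinj, hψ,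
    (hψf' 1).trans (liftElem_one 𝒜 p m _), isHomogeneous_ker hρ, ?_⟩
  have hρψ' : ∀ x, ρ (ψ x) = x := fun x => LinearMap.congr_fun hρψ x
  refine ⟨Submodule.disjoint_def.2 ?_, codisjoint_iff.2 (Submodule.eq_top_iff'.2 fun y => ?_)⟩
  · rintro _ ⟨x, rfl⟩ hx
    have hx' : ρ (ψ x) = 0 := hx
    rw [hρψ'] at hx'
    rw [hx', map_zero]
  · refine Submodule.mem_sup.2 ⟨ψ (ρ y), ⟨_, rfl⟩, y - ψ (ρ y), ?_, add_sub_cancel _ _⟩
    exact LinearMap.mem_ker.2 ((map_sub ρ y (ψ (ρ y))).trans ((congrArg (ρ y - ·) (hρψ' (ρ y))).trans (sub_self _)))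

variable [IsNoetherianRing R] [Module.Free ℤ ι] [Module.Finite ℤ ι]

/-- A nonzero graded module has a homogeneous element with homogeneous prime annihilator. -/
theorem exists_homogeneous_ass [Nontrivial I] :
    ∃ (q : HomogeneousIdeal 𝒜) (g₀ : ι) (m : I), q.toIdeal.IsPrime ∧ m ∈ ℐ g₀ ∧
      (R ∙ m).annihilator = q.toIdeal := by
  let S : Set (Ideal R) := {J | ∃ (g : ι) (m : I), m ∈ ℐ g ∧ m ≠ 0 ∧ (R ∙ m).annihilator = J}
  have hS : S.Nonempty := by
    obtain ⟨x, hx⟩ := exists_ne (0 : I)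
    obtain ⟨g, hg⟩ := exists_pr_ne_zero ℐ hx
    exact ⟨_, g, _, pr_mem ℐ g x, hg, rfl⟩
  obtain ⟨J, ⟨g₀, m, hm, hm0, rfl⟩, hmax⟩ := set_has_maximal_iff_noetherian.2 inferInstance S hS
  have hhom : Ideal.IsHomogeneous 𝒜 (R ∙ m).annihilator := by
    intro i r hr
    rw [Submodule.mem_annihilator_span_singleton] at hr ⊢
    have key : pr ℐ (i + g₀) (r • m) = (decompose 𝒜 r i : R) • m := by
      clear hr
      induction r using DirectSum.Decomposition.inductionOn 𝒜 with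
      | zero => simp
      | @homogeneous a r =>
        rw [pr_smul ℐ 𝒜 r.2]
        by_cases h : a = i
        · subst h
          rw [decompose_of_mem_same 𝒜 r.2, add_sub_cancel_left, pr_of_mem ℐ hm]
        · rw [decompose_of_mem_ne 𝒜 r.2 h, zero_smul, pr_of_mem_ne ℐ hm, smul_zero]
          intro hc
          exact h (eq_of_sub_eq_zero (by
            have := congrArg (fun z => z + a - g₀) hc
            simp at this
            rw [this]
            simp)).symm
      | add r r' h h' =>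
        rw [add_smul, map_add, h, h', decompose_add, DirectSum.add_apply, AddMemClass.coe_add,
          add_smul]
    rw [← key, hr, map_zero]
  have hne : (R ∙ m).annihilator ≠ ⊤ := by
    intro h
    have : (1 : R) ∈ (R ∙ m).annihilator := h ▸ Submodule.mem_top
    rw [Submodule.mem_annihilator_span_singleton, one_smul] at this
    exact hm0 this
  refine ⟨⟨(R ∙ m).annihilator, hhom⟩, g₀, m, ?_, hm, rfl⟩
  refine isPrime_of_homogeneous 𝒜 hhom hne fun a b x y hx hy hxy => ?_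
  by_cases hym : y • m = 0
  · exact Or.inr ((Submodule.mem_annihilator_span_singleton _ _).2 hym)
  refine Or.inl ?_
  have hle : (R ∙ m).annihilator ≤ (R ∙ y • m).annihilator := fun r hr => by
    rw [Submodule.mem_annihilator_span_singleton] at hr ⊢
    rw [smul_comm, hr, smul_zero]
  have heq : (R ∙ y • m).annihilator = (R ∙ m).annihilator := by
    by_contra hne'
    exact hmax _ ⟨b + g₀, y • m, smul_mem ℐ 𝒜 hy hm, hym, rfl⟩ (lt_of_le_of_ne hle (Ne.symm hne'))
  refine heq.le ((Submodule.mem_annihilator_span_singleton _ _).2 ?_)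
  rw [← mul_smul]
  exact (Submodule.mem_annihilator_span_singleton _ _).1 hxy

theorem exists_hull_of_isStarIndec (hI : IsStarInj 𝒜 ℐ) (hind : IsStarIndec R ℐ) :
    ∃ (q : HomogeneousIdeal 𝒜) (g₀ : ι) (f : (R ⧸ q.toIdeal) →ₗ[R] I), q.toIdeal.IsPrime ∧
      IsStarInjHull 𝒜 (shiftPc (quotGr 𝒜 q) g₀) ℐ f := by
  haveI := hind.1
  obtain ⟨q, g₀, m, hq, hm, hann⟩ := exists_homogeneous_ass 𝒜 ℐ
  obtain ⟨X, f, ψ, Q, hf, hψinj, hψ, -, hQ, hc⟩ := exists_summand 𝒜 q ℐ hI g₀ m hm hann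
  refine ⟨q, g₀, ψ ∘ₗ f, hq, ?_⟩
  rcases hind.2 _ _ (isHomogeneous_range hψ) hQ hc with h | h
  · exfalso
    haveI : Nontrivial (R ⧸ q.toIdeal) := Ideal.Quotient.nontrivial_iff.2 hq.ne_top
    refine one_ne_zero (α := R ⧸ q.toIdeal) (hf.injective (hψinj ?_))
    rw [map_zero, map_zero]
    exact LinearMap.congr_fun (LinearMap.range_eq_bot.1 h) _
  · have hsurj : Function.Surjective ψ := LinearMap.range_eq_top.1 (by simpa [h] using hc.sup_eq_top)
    have hess := GrothMatlis.IsEssentialInj.comp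
      (IsStarEss.isEssentialInj 𝒜 hf.toIsStarEss (isHomogeneous_range hf.grHom))
      (GrothMatlis.IsEssentialInj.of_linearEquiv (LinearEquiv.ofBijective ψ ⟨hψinj, hsurj⟩))
    exact ⟨⟨hess.injective, IsGrHom.comp hψ hf.grHom, fun P _ hP => hess.essential P hP⟩, hI⟩

end Summand

end GrothGr
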