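import Groth.Agent.GrMod.Summands
import Groth.Agent.Gorenstein.BassInjective
import Groth.Agent.GrMod.Quot

/-!
# Injective dimension of *injective modules

Helper library (no milestone statements here).
-/

universe u

open DirectSum GrLC IsLocalRing TensorProduct

namespace GrothGr

variable {R : Type u} [CommRing R] [IsNoetherianRing R]

/-- `μ^0(P, M) ≠ 0` exactly at associated primes. -/
theorem bassNum_zero_ne_zero_iff (P : Ideal R) [P.IsPrime] (M : Type u) [AddCommGroup M]
    [Module R M] : bassNum P M 0 ≠ 0 ↔ P ∈ associatedPrimes R M := by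
  rw [bassNum_zero_eq_length P, Ne, Module.length_eq_zero_iff]
  constructor
  · intro h
    by_contra hP
    refine h (subsingleton_of_forall_eq 0 fun ⟨y, hy⟩ => Subtype.ext ?_)
    obtain ⟨z, t, rfl, hz⟩ := exists_clear P.primeCompl P (IsNoetherian.noetherian P) y hy
    obtain ⟨s, hs, hsz⟩ : ∃ s ∉ P, s • z = 0 := by
      by_contra hcon
      push Not at hcon
      refine hP (isAssociatedPrime_iff.2 ⟨‹_›, z, Ideal.ext fun r => ?_⟩)
      rw [Submodule.mem_colon_singleton, Submodule.mem_bot]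
      exact ⟨fun hr => (Submodule.mem_torsionBySet_iff _ _).1 hz ⟨r, hr⟩,
        fun hr => by_contra fun hrP => hcon r hrP hr⟩
    show LocalizedModule.mk z t = 0
    rw [← LocalizedModule.zero_mk (1 : P.primeCompl), LocalizedModule.mk_eq]
    exact ⟨⟨s, hs⟩, by simpa [Submonoid.smul_def] using hsz⟩
  · intro hP hsub
    obtain ⟨-, z, hz⟩ := isAssociatedPrime_iff.1 hP
    have hzt : z ∈ LocCoh.torsionBy P M := (Submodule.mem_torsionBySet_iff _ _).2 fun r => by
      have := r.2
      simp only [hz, SetLike.mem_coe, Submodule.mem_colon_singleton, Submodule.mem_bot] at this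
      exact this
    have h0 : LocalizedModule.mk z (1 : P.primeCompl) = 0 :=
      congrArg Subtype.val (Subsingleton.elim (h := hsub)
        (⟨_, mk_mem_torsion P hzt 1⟩ : LocCoh.torsionBy (P.map (algebraMap R (Localization.AtPrime P)))
          (LocalizedModule P.primeCompl M)) 0)
    rw [← LocalizedModule.zero_mk (1 : P.primeCompl), LocalizedModule.mk_eq] at h0
    obtain ⟨s, hs⟩ := h0
    simp only [one_smul, smul_zero, Submonoid.smul_def] at hs
    refine s.2 ?_
    show (s : R) ∈ P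
    exact (SetLike.ext_iff.1 hz (s : R)).2 (Submodule.mem_colon_singleton.2 hs)

section

variable {ι : Type} [AddCommGroup ι] [DecidableEq ι]
variable (𝒜 : ι → AddSubgroup R) [GradedRing 𝒜]
variable {M : Type u} [AddCommGroup M] [Module R M] (ℳ : ι → AddSubgroup M) [Decomposition ℳ]
  [SetLike.GradedSMul 𝒜 ℳ]

/-- Higher Bass numbers of a *injective module vanish at homogeneous primes. -/
theorem bassNum_eq_zero_of_isStarInj (hM : IsStarInj 𝒜 ℳ) (p : HomogeneousIdeal 𝒜)
    [p.toIdeal.IsPrime] (i : ℕ) : bassNum p.toIdeal M (i + 1) = 0 := by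
  set A := Localization.AtPrime p.toIdeal
  have hE : GrothGoren.ExtZ R (R ⧸ p.toIdeal) M (i + 1) :=
    extZ_of_isStarInj 𝒜 ℳ hM i (GMod.of 𝒜 (R ⧸ p.toIdeal) (quotGr 𝒜 p))
      (Module.Finite.quotient R p.toIdeal)
  have h := GrothGoren.extZ_baseChange (B := A) M (R ⧸ p.toIdeal) hE
  have h' : GrothGoren.ExtZ A (A ⧸ p.toIdeal.map (algebraMap R A))
      (LocalizedModule p.toIdeal.primeCompl M) (i + 1) :=
    GrothGoren.extZ_of_equiv (IsLocalizedModule.isBaseChange p.toIdeal.primeCompl A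
      (LocalizedModule.mkLinearMap p.toIdeal.primeCompl M)).equiv
      (GrothGoren.extZ_of_equiv_left
        (Algebra.TensorProduct.quotIdealMapEquivTensorQuot A p.toIdeal).toLinearEquiv.symm h)
  rw [bassNum_eq_length_extQ p.toIdeal]
  exact Module.length_eq_zero_iff.2 h'

include ℳ in
theorem bassNum_eq_zero_of_isStarInj_of_isHomogeneous (hM : IsStarInj 𝒜 ℳ) (P : Ideal R)
    [hP : P.IsPrime] (h : P.IsHomogeneous 𝒜) (i : ℕ) : bassNum P M (i + 1) = 0 :=
  @bassNum_eq_zero_of_isStarInj R _ _ ι _ _ 𝒜 _ M _ _ ℳ _ _ hM ⟨P, h⟩ hP i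

end

section Int

variable (𝒜 : ℤ → AddSubgroup R) [GradedRing 𝒜]

instance isPrime_core_int (p : Ideal R) [hp : p.IsPrime] : (core 𝒜 p).IsPrime :=
  Ideal.IsPrime.homogeneousCore hp

theorem height_core_eq_one (p : Ideal R) [p.IsPrime] (hp : ¬ p.IsHomogeneous 𝒜) :
    (p.map (Ideal.Quotient.mk (core 𝒜 p))).height = ((1 : ℕ) : ℕ∞) := by
  obtain ⟨-, h₁, h₂⟩ := regular_coreLoc 𝒜 p
  have hker : RingHom.ker (Ideal.Quotient.mk (core 𝒜 p)) ≤ p := by
    rw [Ideal.mk_ker]; exact core_le 𝒜 p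
  have hle : (p.map (Ideal.Quotient.mk (core 𝒜 p))).height ≤ 1 := by
    rw [h₁, Module.finrank_self] at h₂
    exact_mod_cast h₂
  have hne : (p.map (Ideal.Quotient.mk (core 𝒜 p))).height ≠ 0 := by
    rw [Ne, Ideal.height_eq_zero_iff_eq_bot, Ideal.map_eq_bot_iff_le_ker, Ideal.mk_ker]
    intro h
    refine hp ?_
    rw [le_antisymm h (core_le 𝒜 p)]
    exact (p.homogeneousCore 𝒜).isHomogeneous
  exact le_antisymm (by exact_mod_cast hle)
    (by exact_mod_cast Order.one_le_iff_pos.2 (pos_iff_ne_zero.2 hne))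

variable {M : Type u} [AddCommGroup M] [Module R M] (ℳ : ℤ → AddSubgroup M) [Decomposition ℳ]
  [SetLike.GradedSMul 𝒜 ℳ]

include ℳ in
theorem bassNum_succ_of_not_isHomogeneous (p : Ideal R) [p.IsPrime] (hp : ¬ p.IsHomogeneous 𝒜)
    (i : ℕ) : bassNum p M (i + 1) = bassNum (core 𝒜 p) M i := by
  simpa using (bassNum_core_shift 𝒜 ℳ p (height_core_eq_one 𝒜 p hp)).2 (i + 1) (Nat.le_add_left 1 i)

include ℳ in
theorem bassNum_two_eq_zero (hM : IsStarInj 𝒜 ℳ) (p : Ideal R) [p.IsPrime] :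
    bassNum p M 2 = 0 := by
  by_cases hp : p.IsHomogeneous 𝒜
  · exact bassNum_eq_zero_of_isStarInj_of_isHomogeneous 𝒜 ℳ hM p hp 1
  · rw [bassNum_succ_of_not_isHomogeneous 𝒜 ℳ p hp 1]
    exact bassNum_eq_zero_of_isStarInj_of_isHomogeneous 𝒜 ℳ hM _
      (p.homogeneousCore 𝒜).isHomogeneous 0

include ℳ in
/-- A *injective module is injective unless an associated prime is a core of another prime. -/
theorem injective_iff_forall_core (hM : IsStarInj 𝒜 ℳ) :
    Module.Injective R M ↔ ∀ p : Ideal R, p.IsPrime → ¬ p.IsHomogeneous 𝒜 →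
      core 𝒜 p ∉ associatedPrimes R M := by
  constructor
  · intro hi p hp hph hass
    haveI := hp
    have h0 := GrothGoren.bassNum_eq_zero_of_injLT (GrothGoren.injLT_one_iff.2 hi) p (i := 1) one_pos
    rw [bassNum_succ_of_not_isHomogeneous 𝒜 ℳ p hph 0] at h0
    exact (bassNum_zero_ne_zero_iff (core 𝒜 p) M).2 hass h0
  · intro h
    refine GrothGoren.injective_of_bassNum_one M fun p _ => ?_
    by_cases hp : p.IsHomogeneous 𝒜
    · exact bassNum_eq_zero_of_isStarInj_of_isHomogeneous 𝒜 ℳ hM p hp 0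
    · rw [bassNum_succ_of_not_isHomogeneous 𝒜 ℳ p hp 0]
      by_contra h0
      exact h p inferInstance hp ((bassNum_zero_ne_zero_iff (core 𝒜 p) M).1 h0)

end Int

end GrothGr
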