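import Groth.Agent.GrMod.GradedDomain
import Groth.Agent.GrMod.LocCoh
import Groth.Agent.GrMod.Hgr
import Groth.Agent.GrMod.Res
import Groth.Agent.LocCohBase.CdLocal
import Groth.Agent.LocCohBase.Nonvanishing
import Groth.Agent.LocCohTransform.BaseChange
import Groth.Agent.Ega4Algebra1.SuppLoc
import Groth.Agent.DualCore.Normalized

/-!
# The dimension of a graded module at a prime

Helper library (no milestone statements here).
-/

universe u

open DirectSum GrLC TensorProduct IsLocalRing

namespace GrothGr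

variable {ι : Type} [AddCommGroup ι] [DecidableEq ι]
variable {R : Type u} [CommRing R] (𝒜 : ι → AddSubgroup R) [GradedRing 𝒜]

/-- A graded module vanishing at `p*` vanishes at `p`. -/
theorem exists_smul_eq_zero_of_core {N : Type u} [AddCommGroup N] [Module R N]
    (𝒩 : ι → AddSubgroup N) [Decomposition 𝒩] [SetLike.GradedSMul 𝒜 𝒩] (p : Ideal R) [p.IsPrime]
    (h : ∀ z : N, ∃ s ∉ core 𝒜 p, s • z = 0) (z : N) : ∃ s ∉ p, s • z = 0 := by
  induction z using DirectSum.Decomposition.inductionOn 𝒩 with
  | zero => exact ⟨1, fun h => ‹p.IsPrime›.ne_top ((Ideal.eq_top_iff_one _).2 h), smul_zero _⟩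
  | add x y hx hy =>
    obtain ⟨s, hs, hsx⟩ := hx
    obtain ⟨t, ht, hty⟩ := hy
    exact ⟨s * t, fun h => (‹p.IsPrime›.mem_or_mem h).elim hs ht,
      by rw [smul_add, mul_smul, mul_smul, smul_comm, hsx, hty, smul_zero, smul_zero, add_zero]⟩
  | @homogeneous g x =>
    obtain ⟨s, hs, hsx⟩ := h x
    obtain ⟨c, hc⟩ : ∃ c, (decompose 𝒜 s c : R) ∉ core 𝒜 p := by
      by_contra hcon
      push Not at hcon
      exact hs ((Ideal.IsHomogeneous.mem_iff 𝒜 (p.homogeneousCore 𝒜).isHomogeneous).2 hcon)
    refine ⟨_, fun h => hc (mem_core_of_mem 𝒜 (decompose 𝒜 s c).2 h), ?_⟩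
    have h1 := pr_smul_of_mem 𝒜 𝒩 x.2 (c + g) s
    rwa [hsx, map_zero, add_sub_cancel_right, eq_comm] at h1

variable [IsNoetherianRing R]
variable {M : Type u} [AddCommGroup M] [Module R M] (ℳ : ι → AddSubgroup M) [Decomposition ℳ]
  [SetLike.GradedSMul 𝒜 ℳ]

omit [IsNoetherianRing R] in
include ℳ in
theorem core_mem_support {p : Ideal R} [p.IsPrime] [(core 𝒜 p).IsPrime]
    (hsupp : Nontrivial (LocalizedModule p.primeCompl M)) :
    Nontrivial (LocalizedModule (core 𝒜 p).primeCompl M) := by
  rw [← not_subsingleton_iff_nontrivial] at hsupp ⊢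
  intro h
  exact hsupp (LocalizedModule.subsingleton_iff.2 fun z =>
    exists_smul_eq_zero_of_core 𝒜 ℳ p (LocalizedModule.subsingleton_iff.1 h) z)

include ℳ in
/-- Local cohomology with supports in `p*` at `p` vanishes above `dim M_{p*}`. -/
theorem subsingleton_H_core [Module.Finite R M] (p : Ideal R) [p.IsPrime] [(core 𝒜 p).IsPrime]
    {e q : ℕ} (he : Module.supportDim (Localization.AtPrime (core 𝒜 p))
      (LocalizedModule (core 𝒜 p).primeCompl M) = e) (hq : e < q) :
    Subsingleton (LocCoh.H ((core 𝒜 p).map (algebraMap R (Localization.AtPrime p))) q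
      (LocalizedModule p.primeCompl M)) := by
  classical
  set P := core 𝒜 p with hPdef
  let H := LocCoh.H P q M
  have hP : ∀ z : H, ∃ s ∉ P, s • z = 0 := by
    let A := Localization.AtPrime P
    let eM : A ⊗[R] M ≃ₗ[A] LocalizedModule P.primeCompl M :=
      (IsLocalizedModule.isBaseChange P.primeCompl A
        (LocalizedModule.mkLinearMap P.primeCompl M)).equiv
    haveI : Subsingleton (LocCoh.H (P.map (algebraMap R A)) q (A ⊗[R] M)) :=
      (Groth.LocCohBase.subsingleton_H_congr _ q eM).2
        (Groth.LocCohBase.subsingleton_H_of_supportDim_lt _ _ (by rw [he]; exact_mod_cast hq))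
    obtain ⟨e₁⟩ := Groth.LocCohTransform.nonempty_baseChange_equiv A P M q
    haveI : Subsingleton (A ⊗[R] H) := e₁.toEquiv.subsingleton
    haveI : Subsingleton (LocalizedModule P.primeCompl H) :=
      (IsLocalizedModule.isBaseChange P.primeCompl A
        (LocalizedModule.mkLinearMap P.primeCompl H)).equiv.symm.toEquiv.subsingleton
    exact LocalizedModule.subsingleton_iff.1 ‹Subsingleton (LocalizedModule P.primeCompl H)›
  have hp : ∀ z : H, ∃ s ∉ p, s • z = 0 := by
    let E := starRes 𝒜 ℳ
    let a := p.homogeneousCore 𝒜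
    obtain ⟨eH⟩ := nonempty_H_equiv 𝒜 ℳ a E q
    letI := (subPc_isInternal (E.X q).gr (isHomogeneous_cocyc 𝒜 ℳ E a q)).chooseDecomposition
    haveI := subPc_gradedSMul 𝒜 (E.X q).gr (E.cocyc a q)
    have hQ : ((E.cobdy a q).comap (E.cocyc a q).subtype).IsHomogeneous
        (subPc (E.X q).gr (E.cocyc a q)) :=
      isHomogeneous_comap (subtype_isGrHom (E.X q).gr (E.cocyc a q))
        (isHomogeneous_cobdy 𝒜 ℳ E a q)
    letI := (quotPc_isInternal (subPc (E.X q).gr (E.cocyc a q)) hQ).chooseDecomposition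
    haveI := quotPc_gradedSMul 𝒜 (subPc (E.X q).gr (E.cocyc a q))
      ((E.cobdy a q).comap (E.cocyc a q).subtype)
    intro z
    obtain ⟨s, hs, hsz⟩ := exists_smul_eq_zero_of_core 𝒜 (quotPc (subPc (E.X q).gr (E.cocyc a q))
      ((E.cobdy a q).comap (E.cocyc a q).subtype)) p (fun w => by
        obtain ⟨s, hs, hsw⟩ := hP (eH w)
        exact ⟨s, hs, eH.injective (by rw [map_smul, map_zero]; exact hsw)⟩) (eH.symm z)
    exact ⟨s, hs, eH.symm.injective (by rw [map_smul, map_zero]; exact hsz)⟩
  let B := Localization.AtPrime p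
  haveI : Subsingleton (LocalizedModule p.primeCompl H) := LocalizedModule.subsingleton_iff.2 hp
  haveI : Subsingleton (B ⊗[R] H) :=
    (IsLocalizedModule.isBaseChange p.primeCompl B
      (LocalizedModule.mkLinearMap p.primeCompl H)).equiv.toEquiv.subsingleton
  obtain ⟨e₂⟩ := Groth.LocCohTransform.nonempty_baseChange_equiv B P M q
  haveI : Subsingleton (LocCoh.H (P.map (algebraMap R B)) q (B ⊗[R] M)) :=
    e₂.symm.toEquiv.subsingleton
  exact (Groth.LocCohBase.subsingleton_H_congr _ q (IsLocalizedModule.isBaseChange p.primeCompl B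
    (LocalizedModule.mkLinearMap p.primeCompl M)).equiv).1 inferInstance

include ℳ in
/-- `dim M_p = dim M_{p*} + ht (p / p*)`. -/
theorem supportDim_core [Module.Free ℤ ι] [Module.Finite ℤ ι] [Module.Finite R M] (p : Ideal R)
    [p.IsPrime] [(core 𝒜 p).IsPrime] {d : ℕ}
    (hd : (p.map (Ideal.Quotient.mk (core 𝒜 p))).height = d)
    (hsupp : Nontrivial (LocalizedModule p.primeCompl M)) :
    Module.supportDim (Localization.AtPrime p) (LocalizedModule p.primeCompl M) =
      Module.supportDim (Localization.AtPrime (core 𝒜 p))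
        (LocalizedModule (core 𝒜 p).primeCompl M) + (d : WithBot ℕ∞) := by
  classical
  have hsP := core_mem_support 𝒜 ℳ hsupp
  obtain ⟨e, he⟩ : ∃ e : ℕ, Module.supportDim (Localization.AtPrime (core 𝒜 p))
      (LocalizedModule (core 𝒜 p).primeCompl M) = e :=
    Groth.DualCore.exists_supportDim_eq _ _
  rw [he]
  refine le_antisymm ?_ ?_
  · obtain ⟨n, hn⟩ : ∃ n : ℕ, Module.supportDim (Localization.AtPrime p)
        (LocalizedModule p.primeCompl M) = n :=
      Groth.DualCore.exists_supportDim_eq _ _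
    rw [hn]
    obtain ⟨hreg, hdim, -⟩ := regular_coreLoc 𝒜 p
    rw [hd] at hdim
    set A := Localization.AtPrime p
    set J := (core 𝒜 p).map (algebraMap R A)
    have hfr : (maximalIdeal (A ⧸ J)).spanFinrank = d := by
      have h := hreg.spanFinrank_maximalIdeal
      rw [hdim] at h
      exact_mod_cast h
    let G : Set (A ⧸ J) := (maximalIdeal (A ⧸ J)).generators
    have hGfin : G.Finite := (IsNoetherian.noetherian (maximalIdeal (A ⧸ J))).finite_generators
    let s : Finset A := hGfin.toFinset.image (Function.surjInv Ideal.Quotient.mk_surjective)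
    have hs : s.card ≤ d := by
      refine Finset.card_image_le.trans_eq ?_
      rw [← Set.ncard_eq_toFinset_card G hGfin, ← hfr,
        Submodule.FG.generators_ncard (IsNoetherian.noetherian (maximalIdeal (A ⧸ J)))]
    have hm : maximalIdeal A = J ⊔ Ideal.span (s : Set A) := by
      have hmap : (Ideal.span (s : Set A)).map (Ideal.Quotient.mk J) = maximalIdeal (A ⧸ J) := by
        rw [Ideal.map_span, Finset.coe_image, ← Set.image_comp,
          (Function.rightInverse_surjInv Ideal.Quotient.mk_surjective).comp_eq_id, Set.image_id,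
          Set.Finite.coe_toFinset]
        exact Submodule.span_generators _
      have := congrArg (Ideal.comap (Ideal.Quotient.mk J)) hmap
      rw [Ideal.comap_map_of_surjective' _ Ideal.Quotient.mk_surjective, Ideal.mk_ker, sup_comm,
        @IsLocalRing.eq_maximalIdeal A _ _ _
          (Ideal.comap_isMaximal_of_surjective _ Ideal.Quotient.mk_surjective
            (K := maximalIdeal (A ⧸ J)))] at this
      exact this.symm
    by_contra hlt
    push Not at hlt
    have hlt' : e + d < n := by exact_mod_cast hlt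
    have hsub := Groth.LocCohBase.subsingleton_H_sup_of_forall_le J (Ideal.span (s : Set A)) d
      (Groth.LocCohBase.cdLE_mono hs (Groth.LocCohBase.cdLE_span_finset s)) e
      (LocalizedModule p.primeCompl M) (fun q hq => subsingleton_H_core 𝒜 ℳ p he hq) n hlt'
    rw [← hm] at hsub
    exact not_nontrivial_iff_subsingleton.2 hsub
      (Groth.LocCohBase.nontrivial_H_supportDim (LocalizedModule p.primeCompl M) n hn)
  · rw [Groth.Ega4Algebra1.supportDim_localizedModule_atPrime] at he ⊢
    let S := {Q : PrimeSpectrum R // Q ∈ Module.support R M ∧ Q.asIdeal ≤ p}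
    have hP : (⟨core 𝒜 p, inferInstance⟩ : PrimeSpectrum R) ∈ Module.support R M := hsP
    let x : S := ⟨⟨core 𝒜 p, inferInstance⟩, hP, core_le 𝒜 p⟩
    obtain ⟨l₁, hl₁⟩ := Order.le_krullDim_iff.1 (le_of_eq he.symm)
    have h1 : (e : ℕ∞) ≤ Order.height x := by
      rw [← hl₁]
      exact Order.length_le_height (p := l₁.map (fun Q => (⟨Q.1, Q.2.1, Q.2.2.trans (core_le 𝒜 p)⟩ : S))
        (fun _ _ h => h)) (by rw [LTSeries.last_map]; exact l₁.last.2.2)
    have hker : RingHom.ker (Ideal.Quotient.mk (core 𝒜 p)) ≤ p := by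
      rw [Ideal.mk_ker]; exact core_le 𝒜 p
    haveI : (p.map (Ideal.Quotient.mk (core 𝒜 p))).IsPrime :=
      Ideal.map_isPrime_of_surjective Ideal.Quotient.mk_surjective hker
    obtain ⟨l₂, hlast, hlen⟩ := Order.exists_series_of_le_height
      (⟨p.map (Ideal.Quotient.mk (core 𝒜 p)), inferInstance⟩ : PrimeSpectrum (R ⧸ core 𝒜 p))
      (n := d) (by rw [← PrimeSpectrum.height_eq_orderHeight, hd])
    have hle : ∀ i, (l₂ i).asIdeal ≤ p.map (Ideal.Quotient.mk (core 𝒜 p)) := fun i =>
      (le_of_le_of_eq (LTSeries.monotone l₂ (Fin.le_last i)) hlast : _)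
    have hcm : (p.map (Ideal.Quotient.mk (core 𝒜 p))).comap (Ideal.Quotient.mk (core 𝒜 p)) = p := by
      rw [Ideal.comap_map_of_surjective' _ Ideal.Quotient.mk_surjective, sup_eq_left.2 hker]
    let g : Fin (l₂.length + 1) → S := fun i =>
      ⟨PrimeSpectrum.comap (Ideal.Quotient.mk (core 𝒜 p)) (l₂ i),
        Module.mem_support_mono (fun r hr => Ideal.mem_comap.2 (by
          rw [Ideal.Quotient.eq_zero_iff_mem.2 hr]; exact zero_mem _)) hP,
        le_of_le_of_eq (Ideal.comap_mono (hle i)) hcm⟩
    have hg : StrictMono g := fun i j hij => by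
      refine lt_of_le_of_ne (Ideal.comap_mono (LTSeries.monotone l₂ hij.le)) fun h => ?_
      exact (LTSeries.strictMono l₂ hij).ne
        (PrimeSpectrum.comap_injective_of_surjective _ Ideal.Quotient.mk_surjective
          (congrArg Subtype.val h))
    have h2 : (d : ℕ∞) ≤ Order.coheight x := by
      rw [← hlen]
      refine Order.length_le_coheight (p := LTSeries.mk l₂.length g hg) ?_
      exact fun r hr => Ideal.mem_comap.2 (by
        rw [Ideal.Quotient.eq_zero_iff_mem.2 hr]; exact zero_mem _)
    haveI : Nonempty S := ⟨x⟩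
    rw [Order.krullDim_eq_iSup_height_add_coheight_of_nonempty]
    refine le_trans ?_ (WithBot.coe_le_coe.2
      (le_iSup (fun a : S => Order.height a + Order.coheight a) x))
    exact_mod_cast add_le_add h1 h2

end GrothGr
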