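import Groth.Agent.GrMod.RegSeq
import Groth.Agent.GrMod.SupportDim
import Groth.Agent.GrMod.Bass
import Groth.Agent.GrMod.StarInjDim
import Groth.Agent.LocCohBase.CM
import Groth.Agent.Ega4Algebra2.CMEquiv

/-!
# Cohen–Macaulayness of a *local ring is decided at the maximal homogeneous ideal

Helper library (no milestone statements here).
-/

universe u

open DirectSum GrLC

namespace GrothGr

variable {A : Type u} [CommRing A] [IsNoetherianRing A] {𝒜 : ℤ → AddSubgroup A} [GradedRing 𝒜]

/-- A *local ring that is Cohen–Macaulay at its maximal homogeneous ideal is Cohen–Macaulay. -/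
theorem isCohenMacaulayRing_of_starLocal {m : HomogeneousIdeal 𝒜} (hm : IsStarLocal 𝒜 m)
    [m.toIdeal.IsPrime]
    (hCMm : LocCoh.IsCohenMacaulayModule (Localization.AtPrime m.toIdeal) (Localization.AtPrime m.toIdeal)) :
    LocCoh.IsCohenMacaulayRing A := by
  classical
  have eloc : ∀ (p : Ideal A) [p.IsPrime],
      Nonempty (LocalizedModule p.primeCompl A ≃ₗ[Localization.AtPrime p] Localization.AtPrime p) :=
    fun p _ => ⟨((IsLocalizedModule.isBaseChange p.primeCompl (Localization.AtPrime p)
      (LocalizedModule.mkLinearMap p.primeCompl A)).equiv).symm ≪≫ₗ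
      TensorProduct.AlgebraTensorModule.rid A (Localization.AtPrime p) (Localization.AtPrime p)⟩
  obtain ⟨n, hn⟩ := Groth.LocCohBase.exists_depth_eq (R := Localization.AtPrime (m.toIdeal))
    (Localization.AtPrime (m.toIdeal))
  -- homogeneous primes
  have hhom : ∀ (q : Ideal A) [q.IsPrime], q ≤ m.toIdeal →
      LocCoh.IsCohenMacaulayLocalRing (Localization.AtPrime q) := by
    intro q _ hq
    haveI : LocCoh.IsCohenMacaulayLocalRing (Localization.AtPrime (m.toIdeal)) :=
      { supportDim_eq_depth := hCMm }
    let B := Localization.AtPrime (m.toIdeal)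
    let q' : Ideal B := q.map (algebraMap A B)
    have hdisj : Disjoint ((m.toIdeal).primeCompl : Set A) q :=
      Set.disjoint_left.2 fun a ha haq => ha (hq haq)
    haveI : q'.IsPrime :=
      IsLocalization.isPrime_of_isPrime_disjoint _ B q inferInstance hdisj
    have hcomap : q'.comap (algebraMap A B) = q :=
      IsLocalization.under_map_of_isPrime_disjoint _ B inferInstance hdisj
    let B' := Localization.AtPrime q'
    let e' : LocalizedModule q'.primeCompl B ≃ₗ[B'] B' :=
      ((IsLocalizedModule.isBaseChange q'.primeCompl B'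
        (LocalizedModule.mkLinearMap q'.primeCompl B)).equiv).symm ≪≫ₗ
        TensorProduct.AlgebraTensorModule.rid B B' B'
    haveI : Nontrivial (LocalizedModule q'.primeCompl B) := e'.toEquiv.nontrivial
    have h := Groth.LocCohBase.isCM_localized n B hCMm hn q' inferInstance
    haveI : LocCoh.IsCohenMacaulayLocalRing B' :=
      { supportDim_eq_depth := by
          have h' : Module.supportDim B' (LocalizedModule q'.primeCompl B) = _ := h
          rw [Module.supportDim_eq_of_equiv e', LocCoh.depth,
            Groth.LocCohBase.idealDepth_congr e'] at h'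
          exact h' }
    let e : B' ≃+* Localization.AtPrime q := by
      haveI : IsLocalization.AtPrime B' q := by
        have h := IsLocalization.isLocalization_isLocalization_atPrime_isLocalization
          (m.toIdeal).primeCompl B' q'
        simpa [hcomap] using h
      exact (IsLocalization.algEquiv q.primeCompl B' (Localization.AtPrime q)).toRingEquiv
    exact Groth.Ega4b.isCohenMacaulayLocalRing_of_ringEquiv e inferInstance
  refine { isCohenMacaulayLocalRing_localization := fun p _ => ?_ }
  haveI : (core 𝒜 p).IsPrime := isPrime_core_int 𝒜 p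
  have hcore : core 𝒜 p ≤ m.toIdeal := by
    refine le_of_isStarLocal 𝒜 hm ?_ (inferInstance : (core 𝒜 p).IsPrime).ne_top
    exact (p.homogeneousCore 𝒜).isHomogeneous
  by_cases hp : p.IsHomogeneous 𝒜
  · exact hhom p (le_of_isStarLocal 𝒜 hm hp (inferInstance : p.IsPrime).ne_top)
  have hh := height_core_eq_one 𝒜 p hp
  obtain ⟨ep⟩ := eloc p
  obtain ⟨eq⟩ := eloc (core 𝒜 p)
  haveI : Nontrivial (LocalizedModule p.primeCompl A) := ep.toEquiv.nontrivial
  have h1 := supportDim_core 𝒜 𝒜 p hh inferInstance
  have h2 := depth_core_shift 𝒜 𝒜 (M := A) p hh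
  rw [Module.supportDim_eq_of_equiv ep, Module.supportDim_eq_of_equiv eq,
    (hhom _ hcore).supportDim_eq_depth] at h1
  simp only [LocCoh.depth] at h1 h2
  rw [Groth.LocCohBase.idealDepth_congr ep, Groth.LocCohBase.idealDepth_congr eq] at h2
  exact { supportDim_eq_depth := by rw [h1, LocCoh.depth, h2]; rfl }

/-- A *local ring with no local cohomology below its dimension is Cohen–Macaulay. -/
theorem isCohenMacaulayRing_of_subsingleton_H {m : HomogeneousIdeal 𝒜} (hm : IsStarLocal 𝒜 m)
    [m.toIdeal.IsMaximal] {n : ℕ} (hn : ringKrullDim A = n) (I : StarInjRes 𝒜 𝒜)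
    (hvan : ∀ i < n, Subsingleton (I.H m i)) : LocCoh.IsCohenMacaulayRing A := by
  refine isCohenMacaulayRing_of_starLocal hm ?_
  have hm0 : (m.toIdeal : Ideal A) ≠ ⊤ := Ideal.IsMaximal.ne_top inferInstance
  have h1 : (n : ℕ∞) ≤ LocCoh.idealDepth m.toIdeal A :=
    (Groth.LocCohBase.le_idealDepth_iff_localCohomology m.toIdeal n A).2 fun i hi => by
      obtain ⟨e⟩ := nonempty_H_equiv 𝒜 𝒜 m I i
      haveI := hvan i hi
      exact e.symm.toEquiv.subsingleton
  have h2 := h1.trans (Groth.LocCohBase.idealDepth_le_depth_localized m.toIdeal m.toIdeal le_rfl A)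
  rw [LocCoh.depth, Groth.LocCohBase.idealDepth_congr (localizedSelfEquiv m.toIdeal)] at h2
  show Module.supportDim _ _ = _
  refine le_antisymm ?_ (Groth.LocCohBase.depth_le_supportDim _)
  rw [Module.supportDim_self_eq_ringKrullDim, IsLocalization.AtPrime.ringKrullDim_eq_height m.toIdeal
    (Localization.AtPrime m.toIdeal), height_eq_of_ringKrullDim 𝒜 hm hn]
  exact WithBot.coe_le_coe.2 h2

end GrothGr
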