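import Groth.Agent.GrMod.StarLocal
import Groth.Agent.GrMod.SupportDim
import Groth.Agent.GrMod.StarInjDim
import Groth.Agent.Gorenstein.BassInjective

/-!
# From the localization at the graded maximal ideal to the whole graded ring

Finite injective dimension at `m` gives finite injective dimension; `dim R = ht m`.
Helper library (no milestone statements here).
-/

universe u

open DirectSum GrLC CategoryTheory GrothGoren

namespace GrothGr

variable {R : Type u} [CommRing R]

/-- A module injective over a localization is injective. -/
theorem injective_of_localization (S : Submonoid R) (N : Type u) [AddCommGroup N] [Module R N]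
    [Module (Localization S) N] [IsScalarTower R (Localization S) N]
    (h : Module.Injective (Localization S) N) : Module.Injective R N := by
  refine Module.Baer.injective fun I g => ?_
  have hu : ∀ s : S, IsUnit (algebraMap R (Module.End R N) s) := fun s => by
    rw [Module.End.isUnit_iff]
    obtain ⟨u, hu⟩ := IsLocalization.map_units (Localization S) s
    constructor
    · intro a b hab
      have hab' : (u : Localization S) • a = (u : Localization S) • b := by
        rw [hu, algebraMap_smul, algebraMap_smul]; exact hab
      exact u.isUnit.smul_left_cancel.1 hab'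
    · intro b
      refine ⟨((u⁻¹ : (Localization S)ˣ) : Localization S) • b, ?_⟩
      show (s : R) • ((u⁻¹ : (Localization S)ˣ) : Localization S) • b = b
      rw [← algebraMap_smul (Localization S) (s : R), ← hu, ← mul_smul, Units.mul_inv, one_smul]
  let g₁ : LocalizedModule S I →ₗ[Localization S] N :=
    (IsLocalizedModule.lift S (LocalizedModule.mkLinearMap S I) g hu).extendScalarsOfIsLocalization S _
  obtain ⟨h₁, hh₁⟩ := h.out (LocalizedModule.map S I.subtype)
    (LocalizedModule.map_injective S I.subtype I.injective_subtype) g₁
  refine ⟨h₁.restrictScalars R ∘ₗ LocalizedModule.mkLinearMap S R, fun r hr => ?_⟩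
  have := hh₁ (LocalizedModule.mkLinearMap S I ⟨r, hr⟩)
  rw [LocalizedModule.mkLinearMap_apply, LocalizedModule.map_mk] at this
  rw [LinearMap.comp_apply, LocalizedModule.mkLinearMap_apply]
  exact this.trans ((IsLocalizedModule.lift_apply S (LocalizedModule.mkLinearMap S I) g hu ⟨r, hr⟩))

theorem injective_localized_of_le (P : Ideal R) [P.IsPrime] [IsNoetherianRing R] (M : Type u)
    [AddCommGroup M] [Module R M]
    (h : Module.Injective (Localization.AtPrime P) (LocalizedModule P.primeCompl M))
    (q : Ideal R) [q.IsPrime] (hq : q ≤ P) :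
    Module.Injective (Localization.AtPrime q) (LocalizedModule q.primeCompl M) := by
  haveI := injective_of_localization P.primeCompl (LocalizedModule P.primeCompl M) h
  haveI hi := Module.injective_of_isLocalizedModule q.primeCompl
    (LocalizedModule.mkLinearMap q.primeCompl (LocalizedModule P.primeCompl M))
    (Rₛ := Localization.AtPrime q)
  let G := LocalizedModule.map q.primeCompl (LocalizedModule.mkLinearMap P.primeCompl M)
  have hG : Function.Bijective G := by
    constructor
    · rw [injective_iff_map_eq_zero]
      intro z
      induction z using LocalizedModule.induction_on with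
      | h x s =>
        intro hz
        rw [LocalizedModule.map_mk, ← LocalizedModule.zero_mk (1 : q.primeCompl),
          LocalizedModule.mk_eq] at hz
        obtain ⟨u, hu⟩ := hz
        simp only [one_smul, smul_zero, Submonoid.smul_def, LocalizedModule.mkLinearMap_apply,
          LocalizedModule.smul'_mk] at hu
        rw [← LocalizedModule.zero_mk (1 : P.primeCompl), LocalizedModule.mk_eq] at hu
        obtain ⟨v, hv⟩ := hu
        simp only [one_smul, smul_zero, Submonoid.smul_def] at hv
        rw [← LocalizedModule.zero_mk (1 : q.primeCompl), LocalizedModule.mk_eq]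
        refine ⟨⟨(v : R), fun hvq => v.2 (hq hvq)⟩ * u, ?_⟩
        simpa only [one_smul, smul_zero, Submonoid.smul_def, Submonoid.coe_mul, mul_smul] using hv
    · intro z
      induction z using LocalizedModule.induction_on with
      | h w t =>
        induction w using LocalizedModule.induction_on with
        | h x s =>
          let s' : q.primeCompl := ⟨(s : R), fun hsq => s.2 (hq hsq)⟩
          refine ⟨LocalizedModule.mk x (s' * t), ?_⟩
          rw [LocalizedModule.map_mk, ← LocalizedModule.mk_cancel_common_left s' t
            (LocalizedModule.mk x s)]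
          congr 1
          rw [Submonoid.smul_def, LocalizedModule.smul'_mk, LocalizedModule.mkLinearMap_apply,
            show (s' : R) • x = s • x from rfl, LocalizedModule.mk_cancel]
  exact injLT_one_iff.1 (injLT_of_equiv (LinearEquiv.ofBijective G hG).symm (injLT_one_iff.2 hi))

/-- Finite injective dimension at `P` bounds the Bass numbers below `P`. -/
theorem bassNum_eq_zero_of_localized [IsNoetherianRing R] (P : Ideal R) [P.IsPrime] :
    ∀ (n : ℕ) (M : Type u) [AddCommGroup M] [Module R M],
      InjLT (Localization.AtPrime P) (LocalizedModule P.primeCompl M) (n + 1) →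
      ∀ (q : Ideal R) [q.IsPrime], q ≤ P → ∀ i, n < i → GrLC.bassNum q M i = 0 := by
  intro n
  induction n with
  | zero =>
    intro M _ _ h q _ hq i hi
    exact (bassNum_eq_zero_iff q M i).2 ((injLT_one_iff.2
      (injective_localized_of_le P M (injLT_one_iff.1 h) q hq)).extZ _ hi)
  | succ n ih =>
    intro M _ _ h q _ hq i hi
    obtain ⟨J, _, _, j, hj, hJ⟩ := exists_injective_sequence R M
    have hex := LinearMap.exact_map_mkQ_range j
    have hsurj := Submodule.mkQ_surjective (LinearMap.range j)
    have key : ∀ (p : Ideal R) [p.IsPrime],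
        Module.Injective (Localization.AtPrime p) (LocalizedModule p.primeCompl J) := fun p _ =>
      Module.injective_of_isLocalizedModule p.primeCompl (LocalizedModule.mkLinearMap p.primeCompl J)
    haveI := key P
    haveI := key q
    rw [injLT_succ_iff (f := LocalizedModule.map P.primeCompl j)
      (g := LocalizedModule.map P.primeCompl (LinearMap.range j).mkQ)
      (LocalizedModule.map_exact P.primeCompl _ _ hex)
      (LocalizedModule.map_injective P.primeCompl j hj)
      (LocalizedModule.map_surjective P.primeCompl _ hsurj) n] at h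
    obtain ⟨k, rfl⟩ : ∃ k, i = k + 2 := ⟨i - 2, by omega⟩
    have h1 := (bassNum_eq_zero_iff q _ (k + 1)).1 (ih _ h q hq (k + 1) (by omega))
    rw [bassNum_eq_zero_iff]
    exact (extZ_shift (R := Localization.AtPrime q) (f := LocalizedModule.map q.primeCompl j)
      (g := LocalizedModule.map q.primeCompl (LinearMap.range j).mkQ)
      (LocalizedModule.map_exact q.primeCompl _ _ hex)
      (LocalizedModule.map_injective q.primeCompl j hj)
      (LocalizedModule.map_surjective q.primeCompl _ hsurj) k).2 h1

variable [IsNoetherianRing R] (𝒜 : ℤ → AddSubgroup R) [GradedRing 𝒜] {m : HomogeneousIdeal 𝒜}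

/-- A graded module of finite injective dimension at `m` has finite injective dimension. -/
theorem injLT_of_localized_starLocal (hm : IsStarLocal 𝒜 m) [m.toIdeal.IsPrime] {M : Type u}
    [AddCommGroup M] [Module R M] (ℳ : ℤ → AddSubgroup M) [Decomposition ℳ]
    [SetLike.GradedSMul 𝒜 ℳ] {n : ℕ}
    (h : InjLT (Localization.AtPrime m.toIdeal) (LocalizedModule m.toIdeal.primeCompl M) (n + 1)) :
    InjLT R M (n + 2) := by
  refine injLT_of_bassNum (n + 1) M fun p hp => ?_
  haveI := hp
  by_cases hph : p.IsHomogeneous 𝒜
  · exact bassNum_eq_zero_of_localized m.toIdeal n M h p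
      (le_of_isStarLocal 𝒜 hm hph hp.ne_top) _ (by omega)
  · rw [bassNum_succ_of_not_isHomogeneous 𝒜 ℳ p hph (n + 1)]
    exact bassNum_eq_zero_of_localized m.toIdeal n M h _
      (le_of_isStarLocal 𝒜 hm (p.homogeneousCore 𝒜).isHomogeneous
        (isPrime_core_int 𝒜 p).ne_top) _ (Nat.lt_succ_self n)

omit [IsNoetherianRing R] in
/-- `R_P` as a module is `R_P`. -/
noncomputable def localizedSelfEquiv (P : Ideal R) [P.IsPrime] :
    LocalizedModule P.primeCompl R ≃ₗ[Localization.AtPrime P] Localization.AtPrime P :=
  ((IsLocalizedModule.isBaseChange P.primeCompl (Localization.AtPrime P)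
    (LocalizedModule.mkLinearMap P.primeCompl R)).equiv).symm ≪≫ₗ
      TensorProduct.AlgebraTensorModule.rid R (Localization.AtPrime P) (Localization.AtPrime P)

theorem supportDim_localized_self (P : Ideal R) [P.IsPrime] :
    Module.supportDim (Localization.AtPrime P) (LocalizedModule P.primeCompl R) =
      (P.height : WithBot ℕ∞) := by
  rw [Module.supportDim_eq_of_equiv (localizedSelfEquiv P), Module.supportDim_self_eq_ringKrullDim,
    IsLocalization.AtPrime.ringKrullDim_eq_height P (Localization.AtPrime P)]

/-- A non-homogeneous prime is one step above its core. -/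
theorem height_le_of_not_isHomogeneous (p : Ideal R) [p.IsPrime] (hp : ¬ p.IsHomogeneous 𝒜) :
    p.height ≤ (core 𝒜 p).height + 1 := by
  have h := supportDim_core 𝒜 𝒜 p (height_core_eq_one 𝒜 p hp)
    ((localizedSelfEquiv p).toEquiv.nontrivial)
  rw [supportDim_localized_self, supportDim_localized_self] at h
  exact WithBot.coe_le_coe.1 (le_of_eq h)

/-- `ht p ≤ ht m` when `m` is maximal. -/
theorem height_le_height_starLocal (hm : IsStarLocal 𝒜 m) [hmax : m.toIdeal.IsMaximal]
    (p : Ideal R) [hp : p.IsPrime] : p.height ≤ m.toIdeal.height := by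
  by_cases hph : p.IsHomogeneous 𝒜
  · exact Ideal.height_mono (le_of_isStarLocal 𝒜 hm hph hp.ne_top)
  · have hle : core 𝒜 p ≤ m.toIdeal := le_of_isStarLocal 𝒜 hm
      (p.homogeneousCore 𝒜).isHomogeneous (isPrime_core_int 𝒜 p).ne_top
    have hlt : core 𝒜 p < m.toIdeal := lt_of_le_of_ne hle fun heq => by
      have : m.toIdeal = p := hmax.eq_of_le hp.ne_top (heq ▸ core_le 𝒜 p)
      exact hph (this ▸ m.isHomogeneous)
    haveI := hmax.isPrime
    refine (height_le_of_not_isHomogeneous 𝒜 p hph).trans ?_
    exact Ideal.height_add_one_le_of_lt_of_isPrime hlt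

/-- `dim R = ht m` when `m` is maximal. -/
theorem height_eq_of_ringKrullDim (hm : IsStarLocal 𝒜 m) [hmax : m.toIdeal.IsMaximal] {n : ℕ}
    (hn : ringKrullDim R = n) : m.toIdeal.height = n := by
  have h2 := Ideal.height_le_ringKrullDim_of_ne_top hmax.ne_top
  rw [hn] at h2
  refine le_antisymm (by exact_mod_cast h2) ?_
  have h1 : ringKrullDim R ≤ (m.toIdeal.height : WithBot ℕ∞) :=
    ringKrullDim_le_iff_height_le _ |>.2 fun {p} hp => WithBot.coe_le_coe.2
      (height_le_height_starLocal 𝒜 hm p)
  rw [hn] at h1
  exact_mod_cast h1

end GrothGr
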