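import Groth.Agent.GrMod.HullLocal
import Groth.Agent.GrMod.InjDimLocal
import Groth.Agent.CanMod.End

/-!
# The canonical module of a Cohen–Macaulay graded ring, seen at `m`

Helper library (no milestone statements here).
-/

universe u

open DirectSum GrLC CategoryTheory GrothGoren TensorProduct

namespace GrothGr

variable {R : Type u} [CommRing R] [LocCoh.IsCohenMacaulayRing R] (𝒜 : ℤ → AddSubgroup R)
  [GradedRing 𝒜] {m : HomogeneousIdeal 𝒜} (hm : IsStarLocal 𝒜 m) [m.toIdeal.IsMaximal]
  {n : ℕ} (hn : ringKrullDim R = n) {I : StarInjRes 𝒜 𝒜} {E' : Type u} [AddCommGroup E']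
  [Module R E'] {𝓔 : ℤ → AddSubgroup E'} [Decomposition 𝓔] [SetLike.GradedSMul 𝒜 𝓔]
  {e : (R ⧸ m.toIdeal) →ₗ[R] E'} (he : IsStarInjHull 𝒜 (quotGr 𝒜 m) 𝓔 e) {C : Type u}
  [AddCommGroup C] [Module R C] {𝒞 : ℤ → AddSubgroup C} [Decomposition 𝒞]
  [SetLike.GradedSMul 𝒜 𝒞] (hC : IsStarCanonical 𝒜 𝒞 𝓔 m n I)


include hm hn in
theorem ringKrullDim_at_starLocal : ringKrullDim (Localization.AtPrime m.toIdeal) = n := by
  rw [IsLocalization.AtPrime.ringKrullDim_eq_height m.toIdeal (Localization.AtPrime m.toIdeal),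
    height_eq_of_ringKrullDim 𝒜 hm hn]
  rfl

include he hC in
/-- The local data of `C_m`. -/
theorem exists_local_data :
    ∃ (E₀ : Type u) (_ : AddCommGroup E₀) (_ : Module (Localization.AtPrime m.toIdeal) E₀)
      (f : IsLocalRing.ResidueField (Localization.AtPrime m.toIdeal) →ₗ[Localization.AtPrime m.toIdeal] E₀),
      InjHull.IsInjectiveHull f ∧
      Nonempty ((LocalizedModule m.toIdeal.primeCompl C →ₗ[Localization.AtPrime m.toIdeal] E₀)
        ≃ₗ[Localization.AtPrime m.toIdeal]
          LocCoh.H (IsLocalRing.maximalIdeal (Localization.AtPrime m.toIdeal)) n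
            (Localization.AtPrime m.toIdeal)) := by
  obtain ⟨E₀, _, _, f, hf⟩ := GrothMatlis.exists_hull (Localization.AtPrime m.toIdeal)
    (IsLocalRing.ResidueField (Localization.AtPrime m.toIdeal))
  exact ⟨E₀, inferInstance, inferInstance, f, hf, nonempty_canonical_localized 𝒜 n I he hC hf⟩

include hm hn he hC in
theorem canonical_cm_injdim :
    LocCoh.IsCohenMacaulayModule (Localization.AtPrime m.toIdeal)
      (LocalizedModule m.toIdeal.primeCompl C) ∧
    InjLT R C (n + 2) := by
  haveI := hC.1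
  haveI := LocCoh.IsCohenMacaulayRing.isCohenMacaulayLocalRing_localization (R := R) m.toIdeal
  obtain ⟨E₀, _, _, f, hf, ⟨eK⟩⟩ := exists_local_data 𝒜 he hC
  have hd := ringKrullDim_at_starLocal 𝒜 hm hn
  refine ⟨(Groth.CanMod.cm_and_dim inferInstance hd hf eK).1, ?_⟩
  exact injLT_of_localized_starLocal 𝒜 hm 𝒞 (injLT_of_residueField fun i hi =>
    Groth.CanMod.extZ_residueField inferInstance hd hf eK (by omega))

omit [LocCoh.IsCohenMacaulayRing R] in
/-- The residue tensor of `M` has the length of the residue module of `M_m`. -/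
theorem finrank_residue_tensor (P : Ideal R) [P.IsMaximal] (M : Type u) [AddCommGroup M]
    [Module R M] [Module.Finite R M] :
    Module.length (Localization.AtPrime P) (LocalizedModule P.primeCompl M ⧸
        (IsLocalRing.maximalIdeal (Localization.AtPrime P) •
          (⊤ : Submodule (Localization.AtPrime P) (LocalizedModule P.primeCompl M)))) =
      (Module.finrank (R ⧸ P) ((R ⧸ P) ⊗[R] M) : ℕ∞) := by
  letI : Field (R ⧸ P) := Ideal.Quotient.field P
  set A := Localization.AtPrime P
  set 𝔪 := IsLocalRing.maximalIdeal A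
  set V := LocalizedModule P.primeCompl M ⧸ (𝔪 • ⊤ : Submodule A (LocalizedModule P.primeCompl M))
  rw [← Module.length_eq_finrank,
    ← Module.length_eq_of_surjective (S := R) (R := R ⧸ P) (M := (R ⧸ P) ⊗[R] M)
      Ideal.Quotient.mk_surjective,
    (TensorProduct.quotTensorEquivQuotSMul M P).length_eq]
  have hB : Function.Surjective (algebraMap R (A ⧸ 𝔪)) := by
    intro y
    obtain ⟨x, hx⟩ := Ideal.Quotient.mk_surjective ((IsLocalization.AtPrime.equivQuotMaximalIdeal P A).symm y)
    refine ⟨x, ?_⟩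
    rw [show algebraMap R (A ⧸ 𝔪) x = IsLocalization.AtPrime.equivQuotMaximalIdeal P A
      (Ideal.Quotient.mk P x) from
      (IsLocalization.AtPrime.equivQuotMaximalIdeal_apply_mk P A x).symm, hx, RingEquiv.apply_symm_apply]
  let θ : M →ₗ[R] V :=
    (Submodule.mkQ (𝔪 • ⊤ : Submodule A _)).restrictScalars R ∘ₗ LocalizedModule.mkLinearMap P.primeCompl M
  have hunit : ∀ (s : P.primeCompl), ∃ c : R, c * (s : R) - 1 ∈ P := fun s => by
    obtain ⟨c, hc⟩ := Ideal.Quotient.mk_surjective (I := P) (Ideal.Quotient.mk P (s : R))⁻¹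
    refine ⟨c, ?_⟩
    rw [← Ideal.Quotient.eq_zero_iff_mem, map_sub, map_mul, hc, map_one, inv_mul_cancel₀, sub_self]
    rw [Ne, Ideal.Quotient.eq_zero_iff_mem]
    exact s.2
  have hPmem : ∀ (r : R), r ∈ P → ∀ v : V, r • v = 0 := fun r hr v => by
    obtain ⟨w, rfl⟩ := Submodule.mkQ_surjective _ v
    rw [← algebraMap_smul A r, ← map_smul]
    refine (Submodule.Quotient.mk_eq_zero _).2 (Submodule.smul_mem_smul ?_ Submodule.mem_top)
    exact (IsLocalization.AtPrime.map_eq_maximalIdeal P A).le (Ideal.mem_map_of_mem _ hr)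
  have hθs : Function.Surjective θ := by
    intro v
    obtain ⟨w, rfl⟩ := Submodule.mkQ_surjective _ v
    induction w using LocalizedModule.induction_on with
    | h x s =>
      obtain ⟨c, hc⟩ := hunit s
      refine ⟨c • x, ?_⟩
      have h1 := hPmem _ hc (Submodule.mkQ _ (LocalizedModule.mk x s))
      rw [sub_smul, one_smul, sub_eq_zero] at h1
      rw [← h1, mul_smul]
      show Submodule.mkQ _ (LocalizedModule.mk (c • x) 1) = _
      rw [← LocalizedModule.smul'_mk, ← algebraMap_smul A c, map_smul, algebraMap_smul]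
      congr 1
      rw [← algebraMap_smul A (s : R), ← map_smul, algebraMap_smul, LocalizedModule.smul'_mk]
      congr 1
      rw [show (s : R) • x = s • x from rfl, LocalizedModule.mk_cancel]
  have hker : LinearMap.ker θ = (P • ⊤ : Submodule R M) := by
    refine le_antisymm (fun x hx => ?_) ?_
    · have hmem : LocalizedModule.mk x (1 : P.primeCompl) ∈
          (𝔪 • ⊤ : Submodule A (LocalizedModule P.primeCompl M)) := (Submodule.Quotient.mk_eq_zero _).1 hx
      suffices key : ∀ w ∈ (𝔪 • ⊤ : Submodule A (LocalizedModule P.primeCompl M)),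
          ∃ (z : M) (t : P.primeCompl), z ∈ (P • ⊤ : Submodule R M) ∧ LocalizedModule.mk z t = w by
        obtain ⟨z, t, hz, hzt⟩ := key _ hmem
        rw [LocalizedModule.mk_eq] at hzt
        obtain ⟨u, hu⟩ := hzt
        simp only [one_smul, Submonoid.smul_def, ← mul_smul] at hu
        have h2 : ((u * t : P.primeCompl) : R) • x ∈ (P • ⊤ : Submodule R M) := by
          rw [Submonoid.coe_mul, ← hu]
          exact Submodule.smul_mem _ _ hz
        obtain ⟨c, hc⟩ := hunit (u * t)
        rw [show x = c • ((u * t : P.primeCompl) : R) • x - (c * ((u * t : P.primeCompl) : R) - 1) • x by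
          rw [sub_smul, one_smul, mul_smul, sub_sub_cancel]]
        exact sub_mem (Submodule.smul_mem _ _ h2) (Submodule.smul_mem_smul hc Submodule.mem_top)
      intro w hw
      refine Submodule.smul_induction_on hw (fun a ha v _ => ?_) ?_
      · obtain ⟨r, s, rfl⟩ := IsLocalization.exists_mk'_eq P.primeCompl a
        induction v using LocalizedModule.induction_on with
        | h y t =>
          have hr : r ∈ P := (IsLocalization.AtPrime.mk'_mem_maximal_iff A P r s).1 ha
          exact ⟨r • y, s * t, Submodule.smul_mem_smul hr Submodule.mem_top,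
            by rw [← Localization.mk_eq_mk', LocalizedModule.mk_smul_mk]⟩
      · rintro _ _ ⟨z, t, hz, rfl⟩ ⟨z', t', hz', rfl⟩
        refine ⟨(t' : R) • z + (t : R) • z', t * t',
          add_mem (Submodule.smul_mem _ _ hz) (Submodule.smul_mem _ _ hz'), ?_⟩
        rw [LocalizedModule.mk_add_mk]
        rfl
    · refine Submodule.smul_le.2 fun r hr x _ => ?_
      rw [LinearMap.mem_ker, map_smul]
      exact hPmem r hr _
  rw [← hker, θ.quotKerEquivOfSurjective hθs |>.length_eq]
  haveI : IsScalarTower R (A ⧸ 𝔪) V := IsScalarTower.of_algebraMap_smul fun r v => by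
    obtain ⟨w, rfl⟩ := Submodule.mkQ_surjective _ v
    show Submodule.mkQ _ (algebraMap R A r • w) = _
    rw [algebraMap_smul]
    rfl
  rw [Module.length_eq_of_surjective (S := R) (R := A ⧸ 𝔪) (M := V) hB,
    Module.length_eq_of_surjective (S := A) (R := A ⧸ 𝔪) (M := V) Ideal.Quotient.mk_surjective]

include hm hn he hC in
theorem canonical_type :
    GrLC.bassNum m.toIdeal C n = 1 ∧
      GrLC.bassNum m.toIdeal R n =
        (Module.finrank (R ⧸ m.toIdeal) ((R ⧸ m.toIdeal) ⊗[R] C) : ℕ∞) := by
  haveI := hC.1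
  haveI := LocCoh.IsCohenMacaulayRing.isCohenMacaulayLocalRing_localization (R := R) m.toIdeal
  obtain ⟨E₀, _, _, f, hf, ⟨eK⟩⟩ := exists_local_data 𝒜 he hC
  have hd := ringKrullDim_at_starLocal 𝒜 hm hn
  refine ⟨Groth.CanMod.bassNumLocal_eq_one inferInstance hd hf eK, ?_⟩
  rw [← finrank_residue_tensor, ← Groth.CanMod.type_eq hf inferInstance hd eK]
  exact (extQCongr (J := IsLocalRing.maximalIdeal _) (localizedSelfEquiv m.toIdeal) n).length_eq

end GrothGr
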