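import Groth.Agent.GrMod.Positive

/-!
# The irrelevant ideal of a positively graded ring over a field

Helper library (no milestone statements here).
-/

universe u

open DirectSum GrLC

namespace GrothGr

variable {R : Type u} [CommRing R] (𝒜 : ℤ → AddSubgroup R) [GradedRing 𝒜]

/-- `R₊`. -/
def irrIdeal : HomogeneousIdeal 𝒜 :=
  ⟨Ideal.span (⋃ n ∈ Set.Ioi (0 : ℤ), (𝒜 n : Set R)), Ideal.homogeneous_span 𝒜 _ fun x hx => by
    obtain ⟨n, -, hn⟩ := Set.mem_iUnion₂.1 hx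
    exact ⟨n, hn⟩⟩

theorem irrIdeal_toIdeal :
    (irrIdeal 𝒜).toIdeal = Ideal.span (⋃ n ∈ Set.Ioi (0 : ℤ), (𝒜 n : Set R)) := rfl

/-- The degree zero part of a positive element vanishes. -/
theorem pr_zero_of_mem_irrelevant (hpos : ∀ n : ℤ, n < 0 → 𝒜 n = ⊥) {x : R}
    (hx : x ∈ Ideal.span (⋃ n ∈ Set.Ioi (0 : ℤ), (𝒜 n : Set R))) : pr 𝒜 0 x = 0 := by
  induction hx using Submodule.span_induction with
  | mem y hy =>
    obtain ⟨n, hn, hy⟩ := Set.mem_iUnion₂.1 hy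
    exact pr_of_mem_ne 𝒜 hy (Set.mem_Ioi.1 hn).ne'
  | zero => exact map_zero _
  | add a b _ _ ha hb => rw [map_add, ha, hb, add_zero]
  | smul c a ha' ha =>
    classical
    obtain ⟨s, -, hs⟩ := exists_sum_pr 𝒜 c
    rw [← hs, Finset.sum_smul, map_sum]
    refine Finset.sum_eq_zero fun l _ => ?_
    rcases lt_trichotomy l 0 with hl | rfl | hl
    · have h := pr_mem 𝒜 l c
      rw [hpos l hl, AddSubgroup.mem_bot] at h
      rw [h, zero_smul, map_zero]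
    · rw [pr_smul 𝒜 𝒜 (pr_mem 𝒜 0 c), sub_zero, ha, smul_zero]
    · have h := pr_mem 𝒜 (0 - l) a
      rw [hpos _ (by omega), AddSubgroup.mem_bot] at h
      rw [pr_smul 𝒜 𝒜 (pr_mem 𝒜 l c), h, smul_zero]

theorem isStarLocal_irrIdeal (hpos : ∀ n : ℤ, n < 0 → 𝒜 n = ⊥) (h0 : IsField (GrLC.deg0 𝒜)) :
    IsStarLocal 𝒜 (irrIdeal 𝒜) := by
  have hle : ∀ J : HomogeneousIdeal 𝒜, J ≠ ⊤ → J ≤ irrIdeal 𝒜 := by
    intro J hJ x hx
    refine mem_irrelevant_of_decompose_zero 𝒜 hpos ?_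
    by_contra hne
    exact hJ (HomogeneousIdeal.toIdeal_injective (Ideal.eq_top_of_isUnit_mem _ (J.isHomogeneous 0 hx)
      (isUnit_of_mem_zero 𝒜 h0 (decompose 𝒜 x 0).2 hne)))
  have hne : irrIdeal 𝒜 ≠ ⊤ := fun h => by
    have h1 : (1 : R) ∈ (irrIdeal 𝒜).toIdeal := by rw [h]; exact Submodule.mem_top
    have h2 := pr_zero_of_mem_irrelevant 𝒜 hpos h1
    rw [pr_of_mem 𝒜 (SetLike.one_mem_graded 𝒜)] at h2
    exact h0.exists_pair_ne.choose_spec.choose_spec (Subtype.ext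
      (by rw [← one_mul ((h0.exists_pair_ne.choose : GrLC.deg0 𝒜) : R), h2, zero_mul,
        ← one_mul ((h0.exists_pair_ne.choose_spec.choose : GrLC.deg0 𝒜) : R), h2, zero_mul]))
  refine ⟨⟨hne, fun J hJ => ?_⟩, fun J hJ => ?_⟩
  · by_contra hJ'
    exact hJ.not_ge (hle J hJ')
  · rcases (hle J hJ.1).lt_or_eq with h | h
    · exact absurd (hJ.2 _ h) hne
    · exact h

end GrothGr
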