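import Groth.Agent.GrMod.Step
import Groth.Agent.GrMod.CanonicalCM
import Groth.Agent.GrMod.Positive
import Groth.Agent.GrMod.Res

/-!
# `a`-invariants along homogeneous regular sequences

Helper library (no milestone statements here).
-/

universe u

open DirectSum GrLC RingTheory.Sequence
open scoped Pointwise

namespace GrothGr

variable {R : Type u} [CommRing R]

theorem ne_zero_of_isRegular : ∀ (rs : List R) {M : Type u} [AddCommGroup M] [Module R M],
    IsRegular M rs → ∀ r ∈ rs, r ≠ 0 := by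
  intro rs
  induction rs with
  | nil => intro M _ _ _ r hr; simp at hr
  | cons x rs ih =>
    intro M _ _ h r hr
    rw [isRegular_cons_iff] at h
    rcases List.mem_cons.1 hr with rfl | hr
    · intro h0
      haveI : Subsingleton M := ⟨fun a b => h.1 (by simp [h0])⟩
      haveI : Subsingleton (QuotSMulTop r M) := (Submodule.mkQ_surjective _).subsingleton
      exact h.2.top_ne_smul (Subsingleton.elim _ _)
    · exact ih h.2 r hr

variable {𝒜 : ℤ → AddSubgroup R} [GradedRing 𝒜]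

theorem nonneg_deg_of_isRegular (hpos : ∀ n : ℤ, n < 0 → 𝒜 n = ⊥) {t : ℕ} {f : Fin t → R}
    {deg : Fin t → ℤ} (hfdeg : ∀ i, f i ∈ 𝒜 (deg i)) {M : Type u} [AddCommGroup M] [Module R M]
    (hreg : IsRegular M (List.ofFn f)) (i : Fin t) : 0 ≤ deg i := by
  by_contra h
  push Not at h
  have h0 := hfdeg i
  rw [hpos _ h, AddSubgroup.mem_bot] at h0
  exact ne_zero_of_isRegular _ hreg (f i) (List.mem_ofFn.2 ⟨i, rfl⟩) h0

theorem isHomogeneous_smul_top {M : Type u} [AddCommGroup M] [Module R M] (ℳ : ℤ → AddSubgroup M)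
    [Decomposition ℳ] [SetLike.GradedSMul 𝒜 ℳ] {x : R} {d : ℤ} (hx : x ∈ 𝒜 d) :
    (x • (⊤ : Submodule R M)).IsHomogeneous ℳ := by
  intro g w hw
  obtain ⟨v, -, rfl⟩ := (Submodule.mem_smul_pointwise_iff_exists _ _ _).1 hw
  rw [← pr_apply ℳ g, show g = d + (g - d) by rw [add_sub_cancel], pr_smul_add ℳ 𝒜 hx]
  exact Submodule.smul_mem_pointwise_smul _ _ _ Submodule.mem_top

theorem ker_mkQ_smul_top {M : Type u} [AddCommGroup M] [Module R M] (x : R) :
    LinearMap.ker (x • (⊤ : Submodule R M)).mkQ = LinearMap.range (LinearMap.lsmul R M x) := by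
  rw [Submodule.ker_mkQ]
  ext w
  rw [Submodule.mem_smul_pointwise_iff_exists, LinearMap.mem_range]
  simp

theorem mem_smul_top_iff_of_span_insert {M : Type u} [AddCommGroup M] [Module R M] (x : R)
    (s : Set R) (w : M) :
    (x • (⊤ : Submodule R M)).mkQ w ∈ Ideal.span s • (⊤ : Submodule R (M ⧸ x • (⊤ : Submodule R M))) ↔
      w ∈ Ideal.span (insert x s) • (⊤ : Submodule R M) := by
  rw [← (x • (⊤ : Submodule R M)).range_mkQ, ← Submodule.map_top, ← Submodule.map_smul'',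
    ← Submodule.mem_comap, Submodule.comap_map_mkQ, Ideal.span_insert, Submodule.sup_smul,
    Submodule.ideal_span_singleton_smul]

/-- `a(M / f M) = a(M) + deg f` along a homogeneous regular sequence. -/
theorem endDeg_regular_list (a : HomogeneousIdeal 𝒜) :
    ∀ (t : ℕ) (n : ℕ), t ≤ n → ∀ (M : Type u) [AddCommGroup M] [Module R M]
      (ℳ : ℤ → AddSubgroup M) [Decomposition ℳ] [SetLike.GradedSMul 𝒜 ℳ] (EM : StarInjRes 𝒜 ℳ),
      (∀ i, i < n → Subsingleton (EM.H a i)) →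
      ∀ (f : Fin t → R) (deg : Fin t → ℤ), (∀ i, f i ∈ 𝒜 (deg i)) → (∀ i, 0 ≤ deg i) →
      (∀ i, f i ∈ a.toIdeal) → IsWeaklyRegular M (List.ofFn f) →
      ∀ (N : Type u) [AddCommGroup N] [Module R N] (𝒩 : ℤ → AddSubgroup N) [Decomposition 𝒩]
        [SetLike.GradedSMul 𝒜 𝒩] (π : M →ₗ[R] N), IsGrHom ℳ 𝒩 π → Function.Surjective π →
        LinearMap.ker π = Ideal.span (Set.range f) • (⊤ : Submodule R M) →
        ∀ F : StarInjRes 𝒜 𝒩, endDeg (F.Hgr a (n - t)) =
          endDeg (EM.Hgr a n) + ((((Finset.univ : Finset (Fin t)).sum deg : ℤ) : WithTop ℤ) : WithBot (WithTop ℤ)) := by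
  intro t
  induction t with
  | zero =>
    intro n _ M _ _ ℳ _ _ EM _ f deg _ _ _ _ N _ _ 𝒩 _ _ π hπ hπs hπk F
    have hbot : LinearMap.ker π = ⊥ := by
      rw [hπk, Set.range_eq_empty f, Ideal.span_empty, Submodule.bot_smul]
    let e := LinearEquiv.ofBijective π ⟨LinearMap.ker_eq_bot.1 hbot, hπs⟩
    simp only [Finset.univ_eq_empty, Finset.sum_empty, WithTop.coe_zero, WithBot.coe_zero, add_zero,
      Nat.sub_zero]
    exact (endDeg_eq_of_equiv F EM e hπ a n).symm
  | succ t ih =>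
    intro n ht M _ _ ℳ _ _ EM hvan f deg hfdeg hdeg hfa hreg N _ _ 𝒩 _ _ π hπ hπs hπk F
    rw [List.ofFn_succ, isWeaklyRegular_cons_iff] at hreg
    have hhom : (f 0 • (⊤ : Submodule R M)).IsHomogeneous ℳ := isHomogeneous_smul_top ℳ (hfdeg 0)
    letI := (quotPc_isInternal ℳ hhom).chooseDecomposition
    haveI := quotPc_gradedSMul 𝒜 ℳ (f 0 • (⊤ : Submodule R M))
    set P : Submodule R M := f 0 • (⊤ : Submodule R M) with hP
    let EM' := starRes 𝒜 (quotPc ℳ P)
    have hk : LinearMap.ker P.mkQ = LinearMap.range (LinearMap.lsmul R M (f 0)) := ker_mkQ_smul_top (f 0)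
    obtain ⟨m, rfl⟩ : ∃ m, n = m + 1 := ⟨n - 1, by omega⟩
    have hstep : endDeg (EM'.Hgr a m) =
        endDeg (EM.Hgr a (m + 1)) + ((deg 0 : WithTop ℤ) : WithBot (WithTop ℤ)) :=
      endDeg_step EM EM' a (hfdeg 0) (hdeg 0) (hfa 0) hreg.1 P.mkQ (mkQ_isGrHom ℳ P)
        (Submodule.mkQ_surjective P) hk m (hvan m (Nat.lt_succ_self m))
    have hvan' : ∀ i, i < m → Subsingleton (EM'.H a i) := fun i hi => by
      obtain ⟨p, δ, -, -, -, hpδ, hδx, -⟩ := exists_regular_seq EM EM' a (hfdeg 0) hreg.1 P.mkQ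
        (mkQ_isGrHom ℳ P) (Submodule.mkQ_surjective P) hk i
      haveI := hvan i (by omega)
      haveI := hvan (i + 1) (by omega)
      refine subsingleton_of_forall_eq 0 fun z => ?_
      obtain ⟨w, rfl⟩ := (hpδ z).1 (Subsingleton.elim _ _)
      rw [Subsingleton.elim w 0, map_zero]
    have hrange : Set.range f = insert (f 0) (Set.range fun i : Fin t => f i.succ) := by
      rw [← Fin.cons_self_tail f, Fin.range_cons]
      rfl
    have hle : P ≤ LinearMap.ker π := by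
      rw [hπk, hP, ← Submodule.ideal_span_singleton_smul]
      exact Submodule.smul_mono_left (Ideal.span_mono
        (Set.singleton_subset_iff.2 ⟨0, rfl⟩))
    have hgr : IsGrHom (quotPc ℳ P) 𝒩 (P.liftQ π hle) := by
      rintro j _ ⟨w, hw, rfl⟩
      exact hπ j w hw
    have hsurj : Function.Surjective (P.liftQ π hle) := fun y => by
      obtain ⟨w, rfl⟩ := hπs y
      exact ⟨P.mkQ w, rfl⟩
    have hker : LinearMap.ker (P.liftQ π hle) =
        Ideal.span (Set.range fun i : Fin t => f i.succ) • (⊤ : Submodule R (M ⧸ P)) := by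
      ext z
      obtain ⟨w, rfl⟩ := Submodule.mkQ_surjective P z
      rw [LinearMap.mem_ker, mem_smul_top_iff_of_span_insert, ← hrange, ← hπk, LinearMap.mem_ker]
      rfl
    have := ih m (by omega) (M ⧸ P) (quotPc ℳ P) EM' hvan' (fun i => f i.succ)
      (fun i => deg i.succ) (fun i => hfdeg _) (fun i => hdeg _) (fun i => hfa _) hreg.2 N 𝒩
      (P.liftQ π hle) hgr hsurj hker F
    rw [show m + 1 - (t + 1) = m - t by omega, this, hstep, Fin.sum_univ_succ, add_assoc]
    push_cast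
    rfl

/-- `H^i_m(R) = 0` below `dim R` for a Cohen–Macaulay graded ring. -/
theorem subsingleton_H_self_of_lt [LocCoh.IsCohenMacaulayRing R] {m : HomogeneousIdeal 𝒜}
    (hm : IsStarLocal 𝒜 m) [hmax : m.toIdeal.IsMaximal] {n : ℕ} (hn : ringKrullDim R = n)
    (I : StarInjRes 𝒜 𝒜) {i : ℕ} (hi : i < n) : Subsingleton (I.H m i) := by
  obtain ⟨e⟩ := nonempty_H_equiv 𝒜 𝒜 m I i
  suffices h : Subsingleton (LocCoh.H m.toIdeal i R) from e.toEquiv.subsingleton
  refine (Groth.LocCohBase.le_idealDepth_iff_localCohomology m.toIdeal n R).1 ?_ i hi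
  refine Groth.LocCohBase.le_idealDepth_of_forall_depth m.toIdeal n R fun p hp hle => ?_
  obtain rfl : m.toIdeal = p := hmax.eq_of_le hp.ne_top hle
  haveI := LocCoh.IsCohenMacaulayRing.isCohenMacaulayLocalRing_localization (R := R) m.toIdeal
  rw [LocCoh.depth, Groth.LocCohBase.idealDepth_congr (localizedSelfEquiv m.toIdeal)]
  exact le_of_eq (Groth.CanMod.depth_self inferInstance (ringKrullDim_at_starLocal 𝒜 hm hn)).symm

/-- `a(R / f R) = a(R) + deg f` for a Cohen–Macaulay graded ring over a field. -/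
theorem endDeg_quotient_regular [LocCoh.IsCohenMacaulayRing R] (hpos : ∀ n : ℤ, n < 0 → 𝒜 n = ⊥)
    {m : HomogeneousIdeal 𝒜} (hm : IsStarLocal 𝒜 m) [m.toIdeal.IsMaximal] {n : ℕ}
    (hn : ringKrullDim R = n) (I : StarInjRes 𝒜 𝒜) {t : ℕ} (htn : t ≤ n) {f : Fin t → R}
    {deg : Fin t → ℤ} (hfdeg : ∀ i, f i ∈ 𝒜 (deg i)) (hfm : ∀ i, f i ∈ m.toIdeal)
    (hreg : IsRegular R (List.ofFn f)) {N : Type u} [AddCommGroup N] [Module R N]
    (𝒩 : ℤ → AddSubgroup N) [Decomposition 𝒩] [SetLike.GradedSMul 𝒜 𝒩] (π : R →ₗ[R] N)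
    (hπ : IsGrHom 𝒜 𝒩 π) (hπs : Function.Surjective π)
    (hπk : LinearMap.ker π = Ideal.span (Set.range f)) (F : StarInjRes 𝒜 𝒩) :
    endDeg (F.Hgr m (n - t)) =
      endDeg (I.Hgr m n) + ((((Finset.univ : Finset (Fin t)).sum deg : ℤ) : WithTop ℤ) : WithBot (WithTop ℤ)) :=
  endDeg_regular_list m t n htn R 𝒜 I (fun i hi => subsingleton_H_self_of_lt hm hn I hi) f deg
    hfdeg (nonneg_deg_of_isRegular hpos hfdeg hreg) hfm hreg.1 N 𝒩 π hπ hπs
    (by rw [hπk, smul_eq_mul, Ideal.mul_top]) F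

end GrothGr
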