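import Groth.Agent.GrMod.Standard
import Groth.Agent.GrMod.StarInjDim
import Mathlib.Algebra.Polynomial.AlgebraMap
import Mathlib.LinearAlgebra.Dimension.StrongRankCondition

/-!
# Hilbert functions of standard graded Cohen–Macaulay rings

Helper library (no milestone statements here).
-/

universe u

open DirectSum GrLC Polynomial

namespace GrothGr

variable {R : Type u} [CommRing R]

/-- A Cohen–Macaulay ring has no embedded primes. -/
theorem mem_minimalPrimes_of_mem_associatedPrimes_of_isCM [LocCoh.IsCohenMacaulayRing R]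
    {P : Ideal R} (hP : P ∈ associatedPrimes R R) : P ∈ minimalPrimes R := by
  haveI := hP.isPrime
  haveI := LocCoh.IsCohenMacaulayRing.isCohenMacaulayLocalRing_localization (R := R) P
  set A := Localization.AtPrime P
  have h0 : LocCoh.depth A A = 0 := by
    by_contra hne
    have h1 : (1 : ℕ∞) ≤ LocCoh.depth A A := Order.one_le_iff_pos.2 (pos_iff_ne_zero.2 hne)
    let e : LocalizedModule P.primeCompl R ≃ₗ[A] A :=
      ((IsLocalizedModule.isBaseChange P.primeCompl A
        (LocalizedModule.mkLinearMap P.primeCompl R)).equiv).symm ≪≫ₗ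
        TensorProduct.AlgebraTensorModule.rid R A A
    have h2 : ((1 : ℕ) : ℕ∞) ≤ LocCoh.depth A (LocalizedModule P.primeCompl R) := by
      show _ ≤ LocCoh.idealDepth _ _
      rw [Groth.LocCohBase.idealDepth_congr e]
      exact_mod_cast h1
    exact (bassNum_zero_ne_zero_iff P R).2 hP ((le_depth_iff _ 1).1 h2 0 Nat.one_pos)
  have hdim := LocCoh.IsCohenMacaulayLocalRing.supportDim_eq_depth (R := A)
  rw [h0, Module.supportDim_self_eq_ringKrullDim,
    IsLocalization.AtPrime.ringKrullDim_eq_height P A] at hdim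
  exact Ideal.height_eq_zero_iff.1 (by exact_mod_cast hdim)

variable (𝒜 : ℤ → AddSubgroup R) [GradedRing 𝒜] (hpos : ∀ n : ℤ, n < 0 → 𝒜 n = ⊥)
  (hstd : Ideal.span (⋃ n ∈ Set.Ioi (0 : ℤ), (𝒜 n : Set R)) =
    Ideal.span ((𝒜 1 : AddSubgroup R) : Set R))

include hpos in
theorem mem_irrelevant_of_decompose_zero {r : R} (hr : (decompose 𝒜 r 0 : R) = 0) :
    r ∈ Ideal.span (⋃ n ∈ Set.Ioi (0 : ℤ), (𝒜 n : Set R)) := by
  classical
  rw [← sum_support_decompose 𝒜 r]
  refine sum_mem fun c _ => ?_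
  rcases lt_trichotomy c 0 with hc | rfl | hc
  · have := (decompose 𝒜 r c).2
    simp only [hpos c hc, AddSubgroup.mem_bot] at this
    rw [this]
    exact zero_mem _
  · rw [hr]; exact zero_mem _
  · exact Ideal.subset_span (Set.mem_biUnion (Set.mem_Ioi.2 hc) (decompose 𝒜 r c).2)

include hpos hstd in
/-- In dimension at least one nothing nonzero kills `R_1`. -/
theorem eq_zero_of_forall_mul_eq_zero [LocCoh.IsCohenMacaulayRing R] (h0 : IsField (GrLC.deg0 𝒜))
    (h1 : 1 ≤ ringKrullDim R) {c : R} (hc : ∀ s ∈ 𝒜 1, s * c = 0) : c = 0 := by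
  by_contra hne
  obtain ⟨P, hP, hle⟩ := exists_le_isAssociatedPrime_of_isNoetherianRing R c hne
  have hPmin := mem_minimalPrimes_of_mem_associatedPrimes_of_isCM hP
  haveI := hP.isPrime
  have hirr : Ideal.span (⋃ n ∈ Set.Ioi (0 : ℤ), (𝒜 n : Set R)) ≤ P := by
    rw [hstd, Ideal.span_le]
    intro s hs
    exact hle (Submodule.mem_colon_singleton.2 (by rw [Submodule.mem_bot, smul_eq_mul]; exact hc s hs))
  -- modulo `P` every element is congruent to its degree-zero part
  have hcong : ∀ r : R, r - (decompose 𝒜 r 0 : R) ∈ P := fun r => hirr <| by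
    refine mem_irrelevant_of_decompose_zero 𝒜 hpos ?_
    rw [decompose_sub, DirectSum.sub_apply, AddSubgroupClass.coe_sub,
      decompose_of_mem_same 𝒜 (decompose 𝒜 r 0).2, sub_self]
  have hunit : ∀ x ∈ 𝒜 0, x ≠ 0 → IsUnit x := fun x hx hx0 => by
    obtain ⟨y, hy⟩ := h0.mul_inv_cancel (a := ⟨x, hx⟩) fun h => hx0 (congrArg Subtype.val h)
    exact IsUnit.of_mul_eq_one (y : R) (congrArg Subtype.val hy)
  have hall : ∀ Q : Ideal R, Q.IsPrime → P ≤ Q := by
    intro Q hQ
    obtain ⟨P', hP', hP'Q⟩ := Ideal.exists_minimalPrimes_le (I := (⊥ : Ideal R)) (bot_le : ⊥ ≤ Q)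
    haveI := hP'.1.1
    haveI := isPrime_core_int 𝒜 P'
    have heq : core 𝒜 P' = P' :=
      le_antisymm (core_le 𝒜 P') (hP'.2 ⟨inferInstance, bot_le⟩ (core_le 𝒜 P'))
    have hP'P : P' ≤ P := by
      intro r hr
      have hr0 : (decompose 𝒜 r 0 : R) = 0 := by
        by_contra hne0
        refine hP'.1.1.ne_top (Ideal.eq_top_of_isUnit_mem _ ?_ (hunit _ (decompose 𝒜 r 0).2 hne0))
        rw [← heq] at hr ⊢
        exact (P'.homogeneousCore 𝒜).isHomogeneous 0 hr
      exact hirr (mem_irrelevant_of_decompose_zero 𝒜 hpos hr0)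
    exact (hPmin.2 ⟨inferInstance, bot_le⟩ hP'P).trans hP'Q
  have hmax : P.IsMaximal := by
    rw [Ideal.isMaximal_iff]
    refine ⟨fun h => hP.isPrime.ne_top ((Ideal.eq_top_iff_one _).2 h), fun J x hPJ hxP hxJ => ?_⟩
    have hx0 : (decompose 𝒜 x 0 : R) ≠ 0 := fun h => hxP (by simpa [h] using hcong x)
    have hmem : (decompose 𝒜 x 0 : R) ∈ J := by
      simpa using sub_mem hxJ (hPJ (hcong x))
    exact (Ideal.eq_top_iff_one _).1 (Ideal.eq_top_of_isUnit_mem _ hmem
      (hunit _ (decompose 𝒜 x 0).2 hx0))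
  haveI : Ring.KrullDimLE 0 R := Ring.krullDimLE_zero_iff.2 fun Q hQ =>
    (hmax.eq_of_le hQ.ne_top (hall Q hQ)) ▸ hmax
  have : ringKrullDim R ≤ (0 : ℕ) := Ring.krullDimLE_iff.1 inferInstance
  exact absurd (h1.trans this) (by norm_num)

include hstd in
theorem finite_comp [IsNoetherianRing R] {n : ℤ} (hn : 0 ≤ n) :
    Module.Finite (GrLC.deg0 𝒜) (GrLC.comp 𝒜 𝒜 n) := by
  classical
  have hone : Submodule.FG (GrLC.comp 𝒜 𝒜 1) := by
    obtain ⟨G, hG⟩ := (Submodule.fg_span_iff_fg_span_finset_subset (R := R) ((𝒜 1 : AddSubgroup R) : Set R)).1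
      (IsNoetherian.noetherian _)
    refine ⟨G, le_antisymm (Submodule.span_le.2 hG.1) fun x hx => ?_⟩
    have hxG : x ∈ Submodule.span R (G : Set R) := hG.2 ▸ Ideal.subset_span hx
    rw [← pr_of_mem 𝒜 (show x ∈ 𝒜 1 from hx)]
    suffices key : ∀ r : R, pr 𝒜 1 (r * x) ∈ Submodule.span (GrLC.deg0 𝒜) (G : Set R) by
      simpa using key 1
    clear hx
    induction hxG using Submodule.span_induction with
    | mem s hs =>
      intro r
      rw [← smul_eq_mul, pr_smul_of_mem 𝒜 𝒜 (hG.1 hs), sub_self]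
      exact Submodule.smul_mem _ (⟨_, (decompose 𝒜 r 0).2⟩ : GrLC.deg0 𝒜) (Submodule.subset_span hs)
    | zero => intro r; rw [mul_zero, map_zero]; exact zero_mem _
    | add a b _ _ ha hb => intro r; rw [mul_add, map_add]; exact add_mem (ha r) (hb r)
    | smul c a _ ha => intro r; rw [smul_eq_mul, ← mul_assoc]; exact ha _
  obtain ⟨m, rfl⟩ : ∃ m : ℕ, n = m := ⟨n.toNat, (Int.toNat_of_nonneg hn).symm⟩
  refine Module.Finite.iff_fg.2 ?_
  induction m with
  | zero =>
    refine ⟨{1}, le_antisymm (Submodule.span_le.2 ?_) fun x hx => ?_⟩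
    · intro y hy
      rw [Finset.coe_singleton, Set.mem_singleton_iff] at hy
      subst hy
      show (1 : R) ∈ 𝒜 ((0 : ℕ) : ℤ)
      rw [Nat.cast_zero]
      exact SetLike.GradedOne.one_mem
    · rw [Finset.coe_singleton]
      have hx' : x ∈ 𝒜 0 := by rw [← Nat.cast_zero (R := ℤ)]; exact hx
      exact Submodule.mem_span_singleton.2 ⟨⟨x, hx'⟩, mul_one x⟩
  | succ m ih =>
    obtain ⟨F, hF⟩ := ih (by omega)
    obtain ⟨G, hG⟩ := hone
    have hFs : ∀ f ∈ F, f ∈ 𝒜 (m : ℤ) := fun f hf =>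
      (hF.le (Submodule.subset_span hf) : f ∈ GrLC.comp 𝒜 𝒜 (m : ℤ))
    have hGs : ∀ f ∈ G, f ∈ 𝒜 1 := fun f hf =>
      (hG.le (Submodule.subset_span hf) : f ∈ GrLC.comp 𝒜 𝒜 1)
    refine ⟨(F ×ˢ G).image fun x => x.1 * x.2, le_antisymm (Submodule.span_le.2 ?_) fun x hx => ?_⟩
    · intro y hy
      obtain ⟨⟨f, g⟩, hfg, rfl⟩ := Finset.mem_image.1 hy
      rw [Finset.mem_product] at hfg
      show f * g ∈ 𝒜 ((m + 1 : ℕ) : ℤ)
      rw [Nat.cast_succ]
      exact SetLike.mul_mem_graded (hFs f hfg.1) (hGs g hfg.2)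
    · set T := Submodule.span (GrLC.deg0 𝒜) (((F ×ˢ G).image fun x => x.1 * x.2 : Finset R) : Set R)
      refine AddSubgroup.closure_induction (p := fun z _ => z ∈ T) (fun z hz => ?_) (zero_mem _)
        (fun a b _ _ ha hb => add_mem ha hb) (fun a _ ha => neg_mem ha)
        (mem_prodClosure_one 𝒜 hstd (Int.natCast_nonneg m)
          (show x ∈ 𝒜 ((m : ℤ) + 1) from by
            rw [show ((m : ℤ) + 1) = ((m + 1 : ℕ) : ℤ) by push_cast; ring]; exact hx))
      obtain ⟨y, hy, s, hs, rfl⟩ := hz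
      have hy' : y ∈ Submodule.span (GrLC.deg0 𝒜) (F : Set R) := hF.ge hy
      have hs' : s ∈ Submodule.span (GrLC.deg0 𝒜) (G : Set R) := hG.ge hs
      induction hy' using Submodule.span_induction with
      | mem f hf =>
        induction hs' using Submodule.span_induction with
        | mem g hg =>
          exact Submodule.subset_span
            (Finset.mem_image.2 ⟨(f, g), Finset.mem_product.2 ⟨hf, hg⟩, rfl⟩)
        | zero => rw [mul_zero]; exact zero_mem _
        | add a b _ _ ha hb =>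
          rw [mul_add]
          exact add_mem (ha (hG.le ‹_›)) (hb (hG.le ‹_›))
        | smul c a _ ha => rw [mul_smul_comm]; exact T.smul_mem c (ha (hG.le ‹_›))
      | zero => rw [zero_mul]; exact zero_mem _
      | add a b _ _ ha hb =>
        rw [add_mul]
        exact add_mem (ha (hF.le ‹_›)) (hb (hF.le ‹_›))
      | smul c a _ ha => rw [smul_mul_assoc]; exact T.smul_mem c (ha (hF.le ‹_›))

include hpos hstd in
/-- The Hilbert function does not decrease. -/
theorem finrank_comp_le_succ [LocCoh.IsCohenMacaulayRing R] (h0 : IsField (GrLC.deg0 𝒜))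
    (h1 : 1 ≤ ringKrullDim R) (n : ℤ) :
    Module.finrank (GrLC.deg0 𝒜) (GrLC.comp 𝒜 𝒜 n) ≤
      Module.finrank (GrLC.deg0 𝒜) (GrLC.comp 𝒜 𝒜 (n + 1)) := by
  classical
  letI : Field (GrLC.deg0 𝒜) := h0.toField
  rcases lt_or_ge n 0 with hn | hn
  · haveI : Subsingleton (GrLC.comp 𝒜 𝒜 n) := subsingleton_of_forall_eq 0 fun x => Subtype.ext (by
      have : (x : R) ∈ 𝒜 n := x.2
      rwa [hpos n hn, AddSubgroup.mem_bot] at this)
    rw [Module.finrank_zero_of_subsingleton]
    exact Nat.zero_le _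
  haveI := finite_comp 𝒜 hstd hn
  haveI := finite_comp 𝒜 hstd (show (0 : ℤ) ≤ n + 1 by omega)
  haveI := finite_comp 𝒜 hstd (show (0 : ℤ) ≤ 1 by omega)
  let b := Module.finBasis (GrLC.deg0 𝒜) (GrLC.comp 𝒜 𝒜 n)
  let c := Module.finBasis (GrLC.deg0 𝒜) (GrLC.comp 𝒜 𝒜 (n + 1))
  let s := Module.finBasis (GrLC.deg0 𝒜) (GrLC.comp 𝒜 𝒜 1)
  letI : Algebra (GrLC.deg0 𝒜)[X] R[X] := (Polynomial.mapRingHom (GrLC.deg0 𝒜).subtype).toAlgebra
  let e₁ := Fintype.linearCombination (GrLC.deg0 𝒜)[X] fun i => C ((b i : GrLC.comp 𝒜 𝒜 n) : R)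
  let e₂ := Fintype.linearCombination (GrLC.deg0 𝒜)[X] fun i => C ((c i : GrLC.comp 𝒜 𝒜 (n + 1)) : R)
  have hcoeff : ∀ {κ : Type} [Fintype κ] (v : κ → R) (f : κ → (GrLC.deg0 𝒜)[X]) (j : ℕ),
      (Fintype.linearCombination (GrLC.deg0 𝒜)[X] (fun i => C (v i)) f).coeff j =
        ∑ i, ((f i).coeff j : R) * v i := by
    intro κ _ v f j
    rw [Fintype.linearCombination_apply, finset_sum_coeff]
    refine Finset.sum_congr rfl fun i _ => ?_
    show ((Polynomial.mapRingHom (GrLC.deg0 𝒜).subtype) (f i) * C (v i)).coeff j = _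
    rw [coe_mapRingHom, coeff_mul_C, coeff_map]
    rfl
  have hinj : ∀ {m : ℤ} {κ : Type} [Fintype κ]
      (v : Module.Basis κ (GrLC.deg0 𝒜) (GrLC.comp 𝒜 𝒜 m)),
      Function.Injective (Fintype.linearCombination (GrLC.deg0 𝒜)[X] fun i => C ((v i : GrLC.comp 𝒜 𝒜 m) : R)) := by
    intro m κ _ v
    refine (injective_iff_map_eq_zero _).2 fun f hf => funext fun i => Polynomial.ext fun j => ?_
    have h2 := congrArg (fun p => Polynomial.coeff p j) hf
    rw [hcoeff, coeff_zero] at h2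
    have h3 := Fintype.linearIndependent_iff.1 v.linearIndependent (fun i => (f i).coeff j)
      (Subtype.ext (by rw [Submodule.coe_sum]; exact h2)) i
    rw [Pi.zero_apply, coeff_zero]
    exact h3
  let L : R[X] := ∑ i, C ((s i : GrLC.comp 𝒜 𝒜 1) : R) * X ^ (i : ℕ)
  have hL : L ∈ nonZeroDivisors R[X] := by
    by_contra hL
    obtain ⟨a, ha, haL⟩ := Polynomial.notMem_nonZeroDivisors_iff.1 hL
    refine ha (eq_zero_of_forall_mul_eq_zero 𝒜 hpos hstd h0 h1 fun x hx => ?_)
    have hs : ∀ i, a * ((s i : GrLC.comp 𝒜 𝒜 1) : R) = 0 := fun i => by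
      have h2 := congrArg (fun p => Polynomial.coeff p (i : ℕ)) haL
      simp only [L, coeff_smul, finset_sum_coeff, coeff_C_mul_X_pow, coeff_zero, smul_eq_mul] at h2
      rwa [Finset.sum_eq_single i (fun j _ hj => if_neg fun h => hj (Fin.ext h.symm))
        (fun h => absurd (Finset.mem_univ _) h), if_pos rfl] at h2
    have hx' := congrArg Subtype.val (s.sum_repr ⟨x, hx⟩)
    rw [Submodule.coe_sum] at hx'
    rw [← show _ = x from hx', Finset.sum_mul]
    refine Finset.sum_eq_zero fun i _ => ?_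
    show ((s.repr ⟨x, hx⟩ i : R) * ((s i : GrLC.comp 𝒜 𝒜 1) : R)) * a = 0
    rw [mul_assoc, mul_comm _ a, hs, mul_zero]
  have hC : ∀ x : R, x ∈ 𝒜 (n + 1) → C x ∈ LinearMap.range e₂ := by
    intro x hx
    refine ⟨fun i => C (c.repr ⟨x, hx⟩ i), Polynomial.ext fun j => ?_⟩
    rw [hcoeff]
    rcases eq_or_ne j 0 with rfl | hj
    · simp only [coeff_C_zero]
      have h2 := congrArg Subtype.val (c.sum_repr ⟨x, hx⟩)
      rw [Submodule.coe_sum] at h2
      exact h2
    · simp [coeff_C, hj]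
  have hrange : ∀ f, L * e₁ f ∈ LinearMap.range e₂ := by
    intro f
    rw [show e₁ f = ∑ i, f i • C ((b i : GrLC.comp 𝒜 𝒜 n) : R) from Fintype.linearCombination_apply _ _ f,
      Finset.mul_sum]
    refine sum_mem fun i _ => ?_
    rw [mul_smul_comm]
    refine Submodule.smul_mem _ _ ?_
    rw [Finset.sum_mul]
    refine sum_mem fun j _ => ?_
    have hX : X ^ (j : ℕ) = algebraMap (GrLC.deg0 𝒜)[X] R[X] (X ^ (j : ℕ)) := by
      rw [RingHom.algebraMap_toAlgebra, map_pow, coe_mapRingHom, map_X]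
    rw [mul_right_comm, ← map_mul, mul_comm, hX, ← Algebra.smul_def]
    refine Submodule.smul_mem _ _ (hC _ ?_)
    rw [add_comm n 1]
    exact SetLike.mul_mem_graded (s j).2 (b i).2
  let Φ := (LinearEquiv.ofInjective e₂ (hinj c)).symm.toLinearMap ∘ₗ
    LinearMap.codRestrict (LinearMap.range e₂) (LinearMap.mulLeft (GrLC.deg0 𝒜)[X] L ∘ₗ e₁) hrange
  have hΦ : Function.Injective Φ := by
    intro f g hfg
    have := congrArg Subtype.val ((LinearEquiv.ofInjective e₂ (hinj c)).symm.injective hfg)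
    exact hinj b ((mul_cancel_left_mem_nonZeroDivisors hL).1 this)
  have := LinearMap.finrank_le_finrank_of_injective hΦ
  rwa [Module.finrank_fintype_fun_eq_card, Module.finrank_fintype_fun_eq_card, Fintype.card_fin,
    Fintype.card_fin] at this

end GrothGr
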