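import Groth.Prelude.Def_GrLC
import Mathlib.LinearAlgebra.Prod

/-!
# Graded modules over a graded ring: components, homogeneous submodules, constructions

Helper library for the statements about `GrLC`. No milestone statements here.
-/

universe u

open DirectSum GrLC

namespace GrothGr

variable {ι : Type} [AddCommGroup ι] [DecidableEq ι]
variable {R : Type u} [CommRing R]
variable {M : Type u} [AddCommGroup M] [Module R M]
variable {N : Type u} [AddCommGroup N] [Module R N]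

section Components

variable (ℳ : ι → AddSubgroup M) [Decomposition ℳ]

/-- The component of degree `g`. -/
def pr (g : ι) : M →+ M where
  toFun m := (decompose ℳ m g : M)
  map_zero' := by simp
  map_add' x y := by simp

omit [AddCommGroup ι] in
theorem pr_apply (g : ι) (m : M) : pr ℳ g m = (decompose ℳ m g : M) := rfl

omit [AddCommGroup ι] in
theorem pr_mem (g : ι) (m : M) : pr ℳ g m ∈ ℳ g := (decompose ℳ m g).2

omit [AddCommGroup ι] in
theorem pr_of_mem {g : ι} {m : M} (h : m ∈ ℳ g) : pr ℳ g m = m := decompose_of_mem_same ℳ h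

omit [AddCommGroup ι] in
theorem pr_of_mem_ne {g j : ι} {m : M} (h : m ∈ ℳ g) (hne : g ≠ j) : pr ℳ j m = 0 :=
  decompose_of_mem_ne ℳ h hne

omit [AddCommGroup ι] in
open Classical in
theorem exists_sum_pr (m : M) : ∃ s : Finset ι, (∀ g, g ∉ s → pr ℳ g m = 0) ∧
    ∑ g ∈ s, pr ℳ g m = m :=
  ⟨(decompose ℳ m).support, fun g hg => by
    rw [pr_apply, DFinsupp.notMem_support_iff.1 hg, ZeroMemClass.coe_zero],
    sum_support_decompose ℳ m⟩

omit [AddCommGroup ι] in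
theorem pr_ext {x y : M} (h : ∀ g, pr ℳ g x = pr ℳ g y) : x = y :=
  (decompose ℳ).injective (DFinsupp.ext fun g => Subtype.ext (h g))

omit [AddCommGroup ι] in
theorem eq_zero_of_pr {x : M} (h : ∀ g, pr ℳ g x = 0) : x = 0 :=
  pr_ext ℳ fun g => by rw [h g, map_zero]

omit [AddCommGroup ι] in
theorem exists_pr_ne_zero {x : M} (hx : x ≠ 0) : ∃ g, pr ℳ g x ≠ 0 := by
  by_contra h
  push Not at h
  exact hx (eq_zero_of_pr ℳ h)

variable {σ : Type u} [SetLike σ R] [AddSubgroupClass σ R] (𝒜 : ι → σ) [SetLike.GradedSMul 𝒜 ℳ]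

omit [AddSubgroupClass σ R] in
theorem smul_mem {a g : ι} {r : R} {m : M} (hr : r ∈ 𝒜 a) (hm : m ∈ ℳ g) : r • m ∈ ℳ (a + g) :=
  SetLike.GradedSMul.smul_mem hr hm

omit [AddSubgroupClass σ R] in
theorem pr_smul {a : ι} {r : R} (hr : r ∈ 𝒜 a) (g : ι) (m : M) :
    pr ℳ g (r • m) = r • pr ℳ (g - a) m := by
  induction m using DirectSum.Decomposition.inductionOn ℳ with
  | zero => simp
  | @homogeneous j m =>
    by_cases h : j = g - a
    · subst h
      rw [pr_of_mem ℳ m.2, pr_of_mem ℳ]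
      have := smul_mem ℳ 𝒜 hr m.2
      rwa [add_sub_cancel] at this
    · rw [pr_of_mem_ne ℳ m.2 h, smul_zero, pr_of_mem_ne ℳ (smul_mem ℳ 𝒜 hr m.2)]
      intro hcon
      exact h (by rw [← hcon]; abel)
  | add x y hx hy => rw [smul_add, map_add, hx, hy, map_add, smul_add]

omit [AddSubgroupClass σ R] in
theorem pr_smul_add {a : ι} {r : R} (hr : r ∈ 𝒜 a) (g : ι) (m : M) :
    pr ℳ (a + g) (r • m) = r • pr ℳ g m := by
  rw [pr_smul ℳ 𝒜 hr, add_sub_cancel_left]

end Components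

section Maps

variable (ℳ : ι → AddSubgroup M) [Decomposition ℳ] (𝒩 : ι → AddSubgroup N) [Decomposition 𝒩]

omit [AddCommGroup ι] in
theorem map_pr {f : M →ₗ[R] N} (hf : IsGrHom ℳ 𝒩 f) (g : ι) (m : M) :
    f (pr ℳ g m) = pr 𝒩 g (f m) := by
  induction m using DirectSum.Decomposition.inductionOn ℳ with
  | zero => simp
  | @homogeneous j m =>
    by_cases h : j = g
    · subst h
      rw [pr_of_mem ℳ m.2, pr_of_mem 𝒩 (hf j m m.2)]
    · rw [pr_of_mem_ne ℳ m.2 h, pr_of_mem_ne 𝒩 (hf j m m.2) h, map_zero]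
  | add x y hx hy => rw [map_add, map_add, hx, hy, map_add, map_add]

theorem map_pr_deg {f : M →ₗ[R] N} {d : ι} (hf : IsGrHomDeg ℳ 𝒩 f d) (g : ι) (m : M) :
    f (pr ℳ g m) = pr 𝒩 (g + d) (f m) := by
  induction m using DirectSum.Decomposition.inductionOn ℳ with
  | zero => simp
  | @homogeneous j m =>
    by_cases h : j = g
    · subst h
      rw [pr_of_mem ℳ m.2, pr_of_mem 𝒩 (hf j m m.2)]
    · rw [pr_of_mem_ne ℳ m.2 h, pr_of_mem_ne 𝒩 (hf j m m.2) (fun hc => h (add_right_cancel hc)),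
        map_zero]
  | add x y hx hy => rw [map_add, map_add, hx, hy, map_add, map_add]

end Maps

omit [AddCommGroup ι] [DecidableEq ι] in
theorem isGrHom_id (ℳ : ι → AddSubgroup M) : IsGrHom ℳ ℳ (LinearMap.id : M →ₗ[R] M) :=
  fun _ _ h => h

omit [AddCommGroup ι] [DecidableEq ι] in
theorem IsGrHom.comp {P : Type u} [AddCommGroup P] [Module R P] {ℳ : ι → AddSubgroup M}
    {𝒩 : ι → AddSubgroup N} {𝒬 : ι → AddSubgroup P} {f : M →ₗ[R] N} {g : N →ₗ[R] P}
    (hg : IsGrHom 𝒩 𝒬 g) (hf : IsGrHom ℳ 𝒩 f) : IsGrHom ℳ 𝒬 (g ∘ₗ f) :=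
  fun i m hm => hg i _ (hf i m hm)

omit [AddCommGroup ι] in
theorem isGrHom_symm {ℳ : ι → AddSubgroup M} [Decomposition ℳ] {𝒩 : ι → AddSubgroup N}
    [Decomposition 𝒩] (e : M ≃ₗ[R] N) (he : IsGrHom ℳ 𝒩 e.toLinearMap) :
    IsGrHom 𝒩 ℳ e.symm.toLinearMap := by
  intro g n hn
  have h := map_pr ℳ 𝒩 he g (e.symm n)
  rw [LinearEquiv.coe_coe, e.apply_symm_apply, pr_of_mem 𝒩 hn] at h
  show e.symm n ∈ ℳ g
  rw [← e.injective (h.trans (e.apply_symm_apply n).symm)]
  exact pr_mem ℳ g _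

section Submodules

variable {ℳ : ι → AddSubgroup M} [Decomposition ℳ] {𝒩 : ι → AddSubgroup N} [Decomposition 𝒩]

omit [AddCommGroup ι] in
theorem pr_mem_of_isHomogeneous {P : Submodule R M} (hP : P.IsHomogeneous ℳ) {m : M} (hm : m ∈ P)
    (g : ι) : pr ℳ g m ∈ P := hP g hm

omit [AddCommGroup ι] in
theorem isHomogeneous_ker {f : M →ₗ[R] N} (hf : IsGrHom ℳ 𝒩 f) :
    (LinearMap.ker f).IsHomogeneous ℳ := fun g m hm => by
  rw [LinearMap.mem_ker] at hm ⊢
  rw [← pr_apply ℳ g m, map_pr ℳ 𝒩 hf, hm, map_zero]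

omit [AddCommGroup ι] in
theorem isHomogeneous_map {f : M →ₗ[R] N} (hf : IsGrHom ℳ 𝒩 f) {P : Submodule R M}
    (hP : P.IsHomogeneous ℳ) : (P.map f).IsHomogeneous 𝒩 := by
  rintro g _ ⟨m, hm, rfl⟩
  exact ⟨pr ℳ g m, hP g hm, map_pr ℳ 𝒩 hf g m⟩

omit [AddCommGroup ι] in
theorem isHomogeneous_comap {f : M →ₗ[R] N} (hf : IsGrHom ℳ 𝒩 f) {P : Submodule R N}
    (hP : P.IsHomogeneous 𝒩) : (P.comap f).IsHomogeneous ℳ := fun g m hm => by
  show f (pr ℳ g m) ∈ P
  rw [map_pr ℳ 𝒩 hf]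
  exact hP g hm

omit [AddCommGroup ι] in
theorem isHomogeneous_top : (⊤ : Submodule R M).IsHomogeneous ℳ := fun _ _ _ => Submodule.mem_top

omit [AddCommGroup ι] in
theorem isHomogeneous_bot : (⊥ : Submodule R M).IsHomogeneous ℳ := fun g m hm => by
  rw [Submodule.mem_bot] at hm ⊢
  rw [hm, ← pr_apply, map_zero]

omit [AddCommGroup ι] in
theorem isHomogeneous_range {f : M →ₗ[R] N} (hf : IsGrHom ℳ 𝒩 f) :
    (LinearMap.range f).IsHomogeneous 𝒩 := by
  rw [LinearMap.range_eq_map]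
  exact isHomogeneous_map hf isHomogeneous_top

omit [AddCommGroup ι] in
theorem isHomogeneous_inf {P Q : Submodule R M} (hP : P.IsHomogeneous ℳ)
    (hQ : Q.IsHomogeneous ℳ) : (P ⊓ Q).IsHomogeneous ℳ := fun g _ hm => ⟨hP g hm.1, hQ g hm.2⟩

omit [AddCommGroup ι] in
theorem isHomogeneous_sup {P Q : Submodule R M} (hP : P.IsHomogeneous ℳ)
    (hQ : Q.IsHomogeneous ℳ) : (P ⊔ Q).IsHomogeneous ℳ := by
  intro g m hm
  obtain ⟨p, hp, q, hq, rfl⟩ := Submodule.mem_sup.1 hm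
  rw [← pr_apply, map_add]
  exact add_mem (Submodule.mem_sup_left (hP g hp)) (Submodule.mem_sup_right (hQ g hq))

omit [AddCommGroup ι] in
theorem isHomogeneous_iSup {κ : Sort*} {P : κ → Submodule R M}
    (hP : ∀ k, (P k).IsHomogeneous ℳ) : (⨆ k, P k).IsHomogeneous ℳ := by
  intro g m hm
  rw [← pr_apply]
  refine Submodule.iSup_induction (motive := fun x => pr ℳ g x ∈ ⨆ k, P k) P hm
    (fun k x hx => Submodule.mem_iSup_of_mem k (hP k g hx)) (by simp) fun x y hx hy => ?_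
  rw [map_add]
  exact add_mem hx hy

omit [AddCommGroup ι] in
/-- A submodule meets only zero homogeneously iff it is zero, for homogeneous submodules. -/
theorem eq_bot_iff_homogeneous {P : Submodule R M} (hP : P.IsHomogeneous ℳ) :
    P = ⊥ ↔ ∀ (g : ι) (m : M), m ∈ ℳ g → m ∈ P → m = 0 := by
  refine ⟨fun h g m _ hm => by rw [h] at hm; exact (Submodule.mem_bot R).1 hm,
    fun h => (Submodule.eq_bot_iff _).2 fun m hm => eq_zero_of_pr ℳ fun g => ?_⟩
  exact h g _ (pr_mem ℳ g m) (hP g hm)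

variable {σ : Type u} [SetLike σ R] [AddSubgroupClass σ R] (𝒜 : ι → σ) [GradedRing 𝒜]
  [SetLike.GradedSMul 𝒜 ℳ]

include 𝒜 in
theorem isHomogeneous_span {s : Set M} (hs : ∀ m ∈ s, ∃ g, m ∈ ℳ g) :
    (Submodule.span R s).IsHomogeneous ℳ := by
  intro g m hm
  rw [← pr_apply]
  induction hm using Submodule.span_induction generalizing g with
  | mem x hx =>
    obtain ⟨j, hj⟩ := hs x hx
    by_cases h : j = g
    · subst h
      rw [pr_of_mem ℳ hj]
      exact Submodule.subset_span hx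
    · rw [pr_of_mem_ne ℳ hj h]
      exact zero_mem _
  | zero => rw [map_zero]; exact zero_mem _
  | add x y _ _ hx hy => rw [map_add]; exact add_mem (hx g) (hy g)
  | smul r x _ hx =>
    induction r using DirectSum.Decomposition.inductionOn 𝒜 with
    | zero => rw [zero_smul, map_zero]; exact zero_mem _
    | @homogeneous a r =>
      rw [pr_smul ℳ 𝒜 r.2]
      exact Submodule.smul_mem _ _ (hx _)
    | add r r' h h' => rw [add_smul, map_add]; exact add_mem h h'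

include 𝒜 in
theorem isHomogeneous_span_singleton {m : M} {g : ι} (hm : m ∈ ℳ g) :
    (R ∙ m).IsHomogeneous ℳ :=
  isHomogeneous_span 𝒜 fun x hx => ⟨g, Set.mem_singleton_iff.1 hx ▸ hm⟩

end Submodules

section Constructions

variable {σ : Type u} [SetLike σ R] [AddSubgroupClass σ R] (𝒜 : ι → σ) [GradedRing 𝒜]

omit [AddCommGroup ι] in
open Classical in
theorem isInternal_of (pc : ι → AddSubgroup M) (hspan : ∀ x, x ∈ ⨆ g, pc g)
    (hindep : ∀ (s : Finset ι) (v : ι → M), (∀ g, v g ∈ pc g) → ∑ g ∈ s, v g = 0 →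
      ∀ g ∈ s, v g = 0) : DirectSum.IsInternal pc := by
  refine ⟨?_, ?_⟩
  · rw [injective_iff_map_eq_zero]
    intro x hx
    have hx' : ∑ g ∈ x.support, (x g : M) = 0 := by
      rw [← hx]
      conv_rhs => rw [← DirectSum.sum_support_of x]
      rw [map_sum]
      exact Finset.sum_congr rfl fun g _ => (DirectSum.coeAddMonoidHom_of pc g (x g)).symm
    ext g
    by_cases hg : g ∈ x.support
    · rw [hindep x.support (fun g => (x g : M)) (fun g => (x g).2) hx' g hg]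
      rfl
    · rw [DFinsupp.notMem_support_iff.1 hg]
      rfl
  · intro m
    refine AddSubgroup.iSup_induction pc (C := fun y => ∃ a, DirectSum.coeAddMonoidHom pc a = y)
      (hspan m) (fun g y hy => ⟨DirectSum.of (fun g => pc g) g ⟨y, hy⟩,
        DirectSum.coeAddMonoidHom_of pc g _⟩) ⟨0, map_zero _⟩ ?_
    rintro _ _ ⟨a, rfl⟩ ⟨c, rfl⟩
    exact ⟨a + c, map_add _ _ _⟩

/-- A graded module from pieces. -/
noncomputable def mkGMod (M : Type u) [AddCommGroup M] [Module R M] (pc : ι → AddSubgroup M)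
    (hint : DirectSum.IsInternal pc)
    (hsmul : ∀ (a g : ι) (r : R) (m : M), r ∈ 𝒜 a → m ∈ pc g → r • m ∈ pc (a + g)) :
    GMod.{u} 𝒜 :=
  { carrier := M
    gr := pc
    dec := hint.chooseDecomposition
    gsmul := ⟨fun {a g r m} hr hm => hsmul a g r m hr hm⟩ }

variable (ℳ : ι → AddSubgroup M) [Decomposition ℳ]

/-- Pieces of a quotient. -/
def quotPc (P : Submodule R M) : ι → AddSubgroup (M ⧸ P) := fun g =>
  (ℳ g).map P.mkQ.toAddMonoidHom

omit [AddCommGroup ι] in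
open Classical in
theorem quotPc_isInternal {P : Submodule R M} (hP : P.IsHomogeneous ℳ) :
    DirectSum.IsInternal (quotPc ℳ P) := by
  refine isInternal_of _ (fun x => ?_) fun s v hv hsum g hg => ?_
  · obtain ⟨m, rfl⟩ := Submodule.mkQ_surjective P x
    obtain ⟨s, -, hs⟩ := exists_sum_pr ℳ m
    rw [← hs, map_sum]
    exact sum_mem fun g _ => AddSubgroup.mem_iSup_of_mem g ⟨_, pr_mem ℳ g m, rfl⟩
  · choose w hw hw' using hv
    have hmem : ∑ i ∈ s, w i ∈ P := by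
      rw [← Submodule.Quotient.mk_eq_zero, ← hsum]
      exact (map_sum P.mkQ w s).trans (Finset.sum_congr rfl fun i _ => hw' i)
    have h1 : pr ℳ g (∑ i ∈ s, w i) = w g := by
      rw [map_sum, Finset.sum_eq_single g (fun i _ hne => pr_of_mem_ne ℳ (hw i) hne)
        (fun h => absurd hg h), pr_of_mem ℳ (hw g)]
    rw [← hw' g]
    refine (Submodule.Quotient.mk_eq_zero P).2 ?_
    rw [← h1]
    exact hP g hmem

/-- Pieces of a submodule. -/
def subPc (P : Submodule R M) : ι → AddSubgroup P := fun g =>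
  (ℳ g).comap P.subtype.toAddMonoidHom

omit [AddCommGroup ι] in
open Classical in
theorem subPc_isInternal {P : Submodule R M} (hP : P.IsHomogeneous ℳ) :
    DirectSum.IsInternal (subPc ℳ P) := by
  refine isInternal_of _ (fun x => ?_) fun s v hv hsum g hg => ?_
  · obtain ⟨s, -, hs⟩ := exists_sum_pr ℳ (x : M)
    have : x = ∑ g ∈ s, (⟨pr ℳ g (x : M), hP g x.2⟩ : P) := Subtype.ext (by
      rw [AddSubmonoidClass.coe_finsetSum]; exact hs.symm)
    rw [this]
    exact sum_mem fun g _ => AddSubgroup.mem_iSup_of_mem g (pr_mem ℳ g (x : M))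
  · apply Subtype.ext
    have h0 : ∑ i ∈ s, (v i : M) = 0 := by
      rw [← AddSubmonoidClass.coe_finsetSum, hsum, ZeroMemClass.coe_zero]
    have hv' : ∀ i, (v i : M) ∈ ℳ i := hv
    have h1 : pr ℳ g (∑ i ∈ s, (v i : M)) = (v g : M) := by
      rw [map_sum, Finset.sum_eq_single g (fun i _ hne => pr_of_mem_ne ℳ (hv' i) hne)
        (fun h => absurd hg h), pr_of_mem ℳ (hv' g)]
    rw [h0, map_zero] at h1
    exact h1.symm

variable [SetLike.GradedSMul 𝒜 ℳ]

/-- The quotient of a graded module by a homogeneous submodule. -/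
noncomputable abbrev quot {P : Submodule R M} (hP : P.IsHomogeneous ℳ) : GMod.{u} 𝒜 :=
  mkGMod 𝒜 (M ⧸ P) (quotPc ℳ P) (quotPc_isInternal ℳ hP) (by
    rintro a g r _ hr ⟨m, hm, rfl⟩
    exact ⟨r • m, smul_mem ℳ 𝒜 hr hm, map_smul P.mkQ r m⟩)

omit [AddCommGroup ι] [DecidableEq ι] [Decomposition ℳ] in
theorem mkQ_isGrHom (P : Submodule R M) : IsGrHom ℳ (quotPc ℳ P) P.mkQ :=
  fun _ m hm => ⟨m, hm, rfl⟩


theorem quotPc_gradedSMul (P : Submodule R M) : SetLike.GradedSMul 𝒜 (quotPc ℳ P) := by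
  refine ⟨fun {a g r _} hr hm => ?_⟩
  obtain ⟨m, hm, rfl⟩ := hm
  exact ⟨r • m, smul_mem ℳ 𝒜 hr hm, map_smul P.mkQ r m⟩


theorem subPc_gradedSMul (P : Submodule R M) : SetLike.GradedSMul 𝒜 (subPc ℳ P) :=
  ⟨fun {_ _ _ _} hr hm => smul_mem ℳ 𝒜 hr hm⟩

/-- A homogeneous submodule as a graded module. -/
noncomputable abbrev sub {P : Submodule R M} (hP : P.IsHomogeneous ℳ) : GMod.{u} 𝒜 :=
  mkGMod 𝒜 P (subPc ℳ P) (subPc_isInternal ℳ hP) (fun a g r m hr hm => smul_mem ℳ 𝒜 hr hm)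

omit [AddCommGroup ι] [DecidableEq ι] [Decomposition ℳ] in
theorem subtype_isGrHom (P : Submodule R M) : IsGrHom (subPc ℳ P) ℳ P.subtype :=
  fun _ _ hm => hm

variable (𝒩 : ι → AddSubgroup N) [Decomposition 𝒩] [SetLike.GradedSMul 𝒜 𝒩]

/-- Pieces of a product. -/
def prodPc : ι → AddSubgroup (M × N) := fun g => (ℳ g).prod (𝒩 g)

omit [AddCommGroup ι] in
open Classical in
theorem prodPc_isInternal : DirectSum.IsInternal (prodPc ℳ 𝒩) := by
  refine isInternal_of _ (fun x => ?_) fun s v hv hsum g hg => ?_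
  · obtain ⟨x, y⟩ := x
    have hx : ((x, 0) : M × N) ∈ ⨆ g, prodPc ℳ 𝒩 g := by
      obtain ⟨s, -, hs⟩ := exists_sum_pr ℳ x
      rw [← hs, show ((∑ g ∈ s, pr ℳ g x, 0) : M × N) = ∑ g ∈ s, (pr ℳ g x, 0) by
        ext <;> simp [Prod.fst_sum, Prod.snd_sum]]
      exact sum_mem fun g _ => AddSubgroup.mem_iSup_of_mem g ⟨pr_mem ℳ g x, zero_mem _⟩
    have hy : ((0, y) : M × N) ∈ ⨆ g, prodPc ℳ 𝒩 g := by
      obtain ⟨s, -, hs⟩ := exists_sum_pr 𝒩 y
      rw [← hs, show ((0, ∑ g ∈ s, pr 𝒩 g y) : M × N) = ∑ g ∈ s, (0, pr 𝒩 g y) by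
        ext <;> simp [Prod.fst_sum, Prod.snd_sum]]
      exact sum_mem fun g _ => AddSubgroup.mem_iSup_of_mem g ⟨zero_mem _, pr_mem 𝒩 g y⟩
    simpa using add_mem hx hy
  · have h1 : pr ℳ g (∑ i ∈ s, (v i).1) = (v g).1 := by
      rw [map_sum, Finset.sum_eq_single g (fun i _ hne => pr_of_mem_ne ℳ (hv i).1 hne)
        (fun h => absurd hg h), pr_of_mem ℳ (hv g).1]
    have h2 : pr 𝒩 g (∑ i ∈ s, (v i).2) = (v g).2 := by
      rw [map_sum, Finset.sum_eq_single g (fun i _ hne => pr_of_mem_ne 𝒩 (hv i).2 hne)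
        (fun h => absurd hg h), pr_of_mem 𝒩 (hv g).2]
    rw [← Prod.fst_sum, hsum, Prod.fst_zero, map_zero] at h1
    rw [← Prod.snd_sum, hsum, Prod.snd_zero, map_zero] at h2
    exact Prod.ext h1.symm h2.symm

noncomputable instance prodPcDecomposition : Decomposition (prodPc ℳ 𝒩) :=
  (prodPc_isInternal ℳ 𝒩).chooseDecomposition

instance prodPc_gradedSMul : SetLike.GradedSMul 𝒜 (prodPc ℳ 𝒩) :=
  ⟨fun {_ _ _ _} hr hm => ⟨smul_mem ℳ 𝒜 hr hm.1, smul_mem 𝒩 𝒜 hr hm.2⟩⟩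

/-- The product of two graded modules. -/
noncomputable abbrev prod : GMod.{u} 𝒜 :=
  mkGMod 𝒜 (M × N) (prodPc ℳ 𝒩) (prodPc_isInternal ℳ 𝒩)
    (fun a g r m hr hm => ⟨smul_mem ℳ 𝒜 hr hm.1, smul_mem 𝒩 𝒜 hr hm.2⟩)

end Constructions

end GrothGr
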