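import Groth.Agent.GrMod.HullDual
import Groth.Agent.GrMod.Irrelevant
import Groth.Agent.GrMod.StarLocal
import Groth.Agent.LocCohBase.Nonvanishing
import Groth.Agent.LocCohTransform.BaseChange
import Mathlib.RingTheory.Localization.BaseChange
import Mathlib.RingTheory.Localization.AtPrime.Basic

/-!
# Positively graded *local rings: Artinian graded modules and the local cohomology at `m`

Helper library (no milestone statements here).
-/

universe u

open DirectSum GrLC

namespace GrothGr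

section general

variable {R : Type u} [CommRing R]

/-- An `m`-power torsion module which is Artinian after localizing at the maximal ideal `m`. -/
theorem isArtinian_of_localized {m : Ideal R} [m.IsMaximal] (H : Type u) [AddCommGroup H] [Module R H]
    (hH : LocCoh.IsPowerTorsion m H)
    [IsArtinian (Localization.AtPrime m) (LocalizedModule m.primeCompl H)] : IsArtinian R H := by
  let f : Submodule R H → Submodule (Localization.AtPrime m) (LocalizedModule m.primeCompl H) :=
    fun N => N.localized m.primeCompl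
  have hback : ∀ (N : Submodule R H) (x : H),
      LocalizedModule.mkLinearMap m.primeCompl H x ∈ f N → x ∈ N := by
    intro N x hx
    obtain ⟨n, hn, s, hs⟩ := (Submodule.mem_localized' ..).1 hx
    rw [IsLocalizedModule.mk'_eq_iff, Submonoid.smul_def, ← map_smul,
      IsLocalizedModule.eq_iff_exists m.primeCompl] at hs
    obtain ⟨c, hc⟩ := hs
    obtain ⟨k, hk⟩ := hH x
    have htop : Ideal.span {((c : R) * (s : R))} ⊔ m ^ k = ⊤ := by
      refine Ideal.sup_pow_eq_top ?_
      by_contra hne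
      have hle : Ideal.span {((c : R) * (s : R))} ≤ m :=
        le_sup_left.trans ((Ideal.IsMaximal.eq_of_le ‹_› hne le_sup_right).ge)
      exact (c * s : m.primeCompl).2 (hle (Ideal.mem_span_singleton_self _))
    obtain ⟨a, ha, b, hb, hab⟩ := Submodule.mem_sup.1 ((Ideal.eq_top_iff_one _).1 htop)
    obtain ⟨t, rfl⟩ := Ideal.mem_span_singleton'.1 ha
    rw [← one_smul R x, ← hab, add_smul, hk b hb, add_zero, mul_smul, mul_smul]
    simp only [Submonoid.smul_def] at hc
    first | rw [← hc] | rw [hc]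
    exact N.smul_mem _ (N.smul_mem _ hn)
  have hmono : StrictMono f := fun N N' h => by
    refine lt_of_le_of_ne (fun z hz => ?_) fun he => h.ne (le_antisymm h.le fun x hx => hback N x ?_)
    · obtain ⟨n, hn, s, hs⟩ := (Submodule.mem_localized' ..).1 hz
      exact (Submodule.mem_localized' ..).2 ⟨n, h.le hn, s, hs⟩
    · rw [he]
      exact (Submodule.mem_localized' ..).2 ⟨x, hx, 1, IsLocalizedModule.mk'_one _ _ _⟩
  exact hmono.wellFoundedLT

variable [IsNoetherianRing R]

/-- Local cohomology of a finite module at a maximal ideal is Artinian. -/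
theorem isArtinian_H_maximal (m : Ideal R) [m.IsMaximal] (M : Type u) [AddCommGroup M] [Module R M]
    [Module.Finite R M] (i : ℕ) : IsArtinian R (LocCoh.H m i M) := by
  haveI : IsNoetherianRing (Localization.AtPrime m) :=
    IsLocalization.isNoetherianRing m.primeCompl _ inferInstance
  haveI : Module.Flat R (Localization.AtPrime m) :=
    IsLocalization.flat (Localization.AtPrime m) m.primeCompl
  obtain ⟨e⟩ := Groth.LocCohTransform.nonempty_baseChange_equiv (Localization.AtPrime m) m M i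
  let e' := (LocalizedModule.equivTensorProduct m.primeCompl _ ≪≫ₗ e) ≪≫ₗ
    ((localCohomology (Ideal.map (algebraMap R (Localization.AtPrime m)) m) i).mapIso
      (LinearEquiv.toModuleIso (LocalizedModule.equivTensorProduct m.primeCompl M).symm)).toLinearEquiv
  haveI : Module.Finite (Localization.AtPrime m) (LocalizedModule m.primeCompl M) :=
    Module.Finite.of_isLocalizedModule m.primeCompl (LocalizedModule.mkLinearMap m.primeCompl M)
  haveI : IsArtinian (Localization.AtPrime m) (LocalizedModule m.primeCompl (LocCoh.H m i M)) := by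
    haveI : IsArtinian (Localization.AtPrime m)
        (LocCoh.H (Ideal.map (algebraMap R (Localization.AtPrime m)) m) i
          (LocalizedModule m.primeCompl M)) := by
      rw [Localization.AtPrime.map_eq_maximalIdeal]
      exact Groth.LocCohBase.isArtinian_H _ i
    exact isArtinian_of_linearEquiv e'.symm
  exact isArtinian_of_localized _ fun x => Groth.LocCohBase.exists_pow_smul_eq_zero i _ x

end general

variable {R : Type u} [CommRing R] {𝒜 : ℤ → AddSubgroup R} [GradedRing 𝒜]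
  (hpos : ∀ n : ℤ, n < 0 → 𝒜 n = ⊥)

include hpos in
/-- `R₊ ≠ ⊤` below `m`. -/
theorem irrelevant_le_of_isStarLocal [IsNoetherianRing R] {m : HomogeneousIdeal 𝒜}
    (hm : IsStarLocal 𝒜 m) :
    Ideal.span (⋃ n ∈ Set.Ioi (0 : ℤ), (𝒜 n : Set R)) ≤ m.toIdeal := by
  refine le_of_isStarLocal 𝒜 hm (irrIdeal 𝒜).isHomogeneous fun h => ne_top_of_isStarLocal 𝒜 hm ?_
  have h1 : (1 : R) ∈ Ideal.span (⋃ n ∈ Set.Ioi (0 : ℤ), (𝒜 n : Set R)) := by
    rw [show Ideal.span (⋃ n ∈ Set.Ioi (0 : ℤ), (𝒜 n : Set R)) = ⊤ from h]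
    exact Submodule.mem_top
  have h2 := pr_zero_of_mem_irrelevant 𝒜 hpos h1
  rw [pr_of_mem 𝒜 (SetLike.one_mem_graded 𝒜)] at h2
  rw [Ideal.eq_top_iff_one, h2]
  exact zero_mem _

include hpos in
/-- The graded maximal ideal of a positively graded *local ring is maximal. -/
theorem isMaximal_of_isStarLocal [IsNoetherianRing R] {m : HomogeneousIdeal 𝒜}
    (hm : IsStarLocal 𝒜 m) : m.toIdeal.IsMaximal := by
  refine Ideal.isMaximal_iff.2
    ⟨fun h => ne_top_of_isStarLocal 𝒜 hm ((Ideal.eq_top_iff_one _).2 h), fun J x hJ hxm hxJ => ?_⟩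
  have hcong : x - pr 𝒜 0 x ∈ m.toIdeal := by
    refine irrelevant_le_of_isStarLocal hpos hm (mem_irrelevant_of_decompose_zero 𝒜 hpos ?_)
    show pr 𝒜 0 (x - pr 𝒜 0 x) = 0
    rw [map_sub, pr_of_mem 𝒜 (pr_mem 𝒜 0 x), sub_self]
  have hx0 : pr 𝒜 0 x ∉ m.toIdeal := fun h => hxm (by simpa using add_mem hcong h)
  obtain ⟨c, b, hb, hcb⟩ := exists_mul_add_eq_one 𝒜 hm (pr_mem 𝒜 0 x) hx0 1
  rw [pow_one] at hb
  have hmem : pr 𝒜 0 x ∈ J := by simpa using sub_mem hxJ (hJ hcong)
  rw [← hcb]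
  exact add_mem (J.mul_mem_left c hmem) (hJ hb)

variable {H : Type u} [AddCommGroup H] [Module R H] (ℋ : ℤ → AddSubgroup H) [Decomposition ℋ]
  [SetLike.GradedSMul 𝒜 ℋ]

/-- The pieces of a graded Artinian module are Artinian over `R₀`. -/
theorem isArtinian_piece [IsArtinian R H] (j : ℤ) :
    IsArtinian (GrLC.deg0 𝒜) (GrLC.comp 𝒜 ℋ j) := by
  classical
  let f : Submodule (GrLC.deg0 𝒜) (GrLC.comp 𝒜 ℋ j) → Submodule R H := fun W =>
    Submodule.span R (Subtype.val '' (W : Set (GrLC.comp 𝒜 ℋ j)))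
  have hback : ∀ (W : Submodule (GrLC.deg0 𝒜) (GrLC.comp 𝒜 ℋ j)) (x : GrLC.comp 𝒜 ℋ j),
      (x : H) ∈ f W → x ∈ W := by
    intro W x hx
    suffices key : ∀ z ∈ f W, ∀ r : R, ∃ w ∈ W, (w : H) = pr ℋ j (r • z) by
      obtain ⟨w, hw, hwe⟩ := key _ hx 1
      rw [one_smul, pr_of_mem ℋ (show (x : H) ∈ ℋ j from x.2)] at hwe
      rwa [Subtype.ext hwe] at hw
    intro z hz
    induction hz using Submodule.span_induction with
    | mem y hy =>
      obtain ⟨y, hy, rfl⟩ := hy
      intro r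
      refine ⟨(⟨pr 𝒜 0 r, pr_mem 𝒜 0 r⟩ : GrLC.deg0 𝒜) • y, W.smul_mem _ hy, ?_⟩
      rw [pr_smul_of_mem 𝒜 ℋ (show (y : H) ∈ ℋ j from y.2), sub_self]
      rfl
    | zero => intro r; exact ⟨0, zero_mem _, by rw [smul_zero, map_zero]; rfl⟩
    | add a b _ _ ha hb =>
      intro r
      obtain ⟨w, hw, hwa⟩ := ha r
      obtain ⟨w', hw', hwb⟩ := hb r
      exact ⟨w + w', add_mem hw hw', by rw [smul_add, map_add, ← hwa, ← hwb]; rfl⟩
    | smul c a _ ha => intro r; rw [smul_smul]; exact ha _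
  have hmono : StrictMono f := fun W W' h => by
    refine lt_of_le_of_ne (Submodule.span_mono (Set.image_mono h.le)) fun he =>
      h.ne (le_antisymm h.le fun x hx => hback W x ?_)
    rw [he]
    exact Submodule.subset_span ⟨x, hx, rfl⟩
  exact hmono.wellFoundedLT

include hpos in
/-- An Artinian graded module over a positively graded ring is bounded above. -/
theorem exists_bound_of_isArtinian [IsArtinian R H] : ∃ B : ℤ, ∀ j, B ≤ j → ℋ j = ⊥ := by
  classical
  let D : ℕ → Submodule R H := fun n =>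
    { carrier := {c | ∀ k, k < (n : ℤ) → pr ℋ k c = 0}
      add_mem' := fun {a b} ha hb k hk => by rw [map_add, ha k hk, hb k hk, add_zero]
      zero_mem' := fun k _ => map_zero _
      smul_mem' := fun r c hc k hk => by
        obtain ⟨s, -, hs⟩ := exists_sum_pr 𝒜 r
        rw [← hs, Finset.sum_smul, map_sum]
        refine Finset.sum_eq_zero fun l _ => ?_
        rcases lt_or_ge l 0 with hl | hl
        · have h := pr_mem 𝒜 l r
          rw [hpos l hl, AddSubgroup.mem_bot] at h
          rw [h, zero_smul, map_zero]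
        · rw [pr_smul ℋ 𝒜 (pr_mem 𝒜 l r), hc (k - l) (by omega), smul_zero] }
  let F : ℕ →o (Submodule R H)ᵒᵈ :=
    ⟨fun n => OrderDual.toDual (D n), fun a b hab c hc k hk => hc k (by omega)⟩
  obtain ⟨n₀, hn₀⟩ := IsArtinian.monotone_stabilizes F
  refine ⟨n₀, fun j hj => eq_bot_iff.2 fun x hx => AddSubgroup.mem_bot.2 ?_⟩
  obtain ⟨n, rfl⟩ : ∃ n : ℕ, j = n := ⟨j.toNat, (Int.toNat_of_nonneg (by omega)).symm⟩
  have h1 : x ∈ D n := fun k hk => pr_of_mem_ne ℋ hx hk.ne'
  have h2 : D n = D (n + 1) :=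
    (show D n₀ = D n from congrArg OrderDual.ofDual (hn₀ n (by omega))).symm.trans
      (congrArg OrderDual.ofDual (hn₀ (n + 1) (by omega)))
  have h3 := (h2 ▸ h1 : x ∈ D (n + 1)) (n : ℤ) (by push_cast; omega)
  rwa [pr_of_mem ℋ hx] at h3

variable {M : Type u} [AddCommGroup M] [Module R M] {ℳ : ℤ → AddSubgroup M} [Decomposition ℳ]
  [SetLike.GradedSMul 𝒜 ℳ]

include hpos in
/-- The graded local cohomology of a finite module at `m` is Artinian. -/
theorem isArtinian_H_starLocal [IsNoetherianRing R] [Module.Finite R M] {m : HomogeneousIdeal 𝒜}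
    (hm : IsStarLocal 𝒜 m) (E : StarInjRes 𝒜 ℳ) (i : ℕ) : IsArtinian R (E.H m i) := by
  haveI := isMaximal_of_isStarLocal hpos hm
  obtain ⟨e⟩ := nonempty_H_equiv 𝒜 ℳ m E i
  haveI := isArtinian_H_maximal m.toIdeal M i
  exact isArtinian_of_linearEquiv e.symm

include hpos in
theorem isArtinian_Hcomp_starLocal [IsNoetherianRing R] [Module.Finite R M] {m : HomogeneousIdeal 𝒜}
    (hm : IsStarLocal 𝒜 m) (E : StarInjRes 𝒜 ℳ) (i : ℕ) (j : ℤ) :
    IsArtinian (GrLC.deg0 𝒜) (E.Hcomp m i j) := by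
  letI := (Hgr_isInternal 𝒜 ℳ E m i).chooseDecomposition
  haveI := Hgr_gradedSMul 𝒜 E m i
  haveI := isArtinian_H_starLocal hpos hm E i
  exact isArtinian_piece (𝒜 := 𝒜) (E.Hgr m i) j

include hpos in
theorem exists_bound_Hgr_starLocal [IsNoetherianRing R] [Module.Finite R M] {m : HomogeneousIdeal 𝒜}
    (hm : IsStarLocal 𝒜 m) (E : StarInjRes 𝒜 ℳ) (i : ℕ) :
    ∃ B : ℤ, ∀ j, B ≤ j → E.Hgr m i j = ⊥ := by
  letI := (Hgr_isInternal 𝒜 ℳ E m i).chooseDecomposition
  haveI := Hgr_gradedSMul 𝒜 E m i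
  haveI := isArtinian_H_starLocal hpos hm E i
  exact exists_bound_of_isArtinian (𝒜 := 𝒜) hpos (E.Hgr m i)

/-- A piece is `⊥` as an `R₀`-module when it is `⊥` as a group. -/
theorem Hcomp_eq_bot_of_Hgr (E : StarInjRes 𝒜 ℳ) (a : HomogeneousIdeal 𝒜) (i : ℕ) {j : ℤ}
    (h : E.Hgr a i j = ⊥) : E.Hcomp a i j = ⊥ := by
  refine eq_bot_iff.2 fun x hx => ?_
  have hx' : x ∈ E.Hgr a i j := hx
  rw [h, AddSubgroup.mem_bot] at hx'
  rw [Submodule.mem_bot]
  exact hx'

end GrothGr
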