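import Groth.Agent.CanMod.Basic
import Groth.Agent.LocDual.DualCancel
import Groth.Agent.LocCohTransform.Independence
import Groth.Agent.Gorenstein.PolyInjective

/-!
# Canonical modules of finite local algebras over Cohen–Macaulay local rings

Helper library (no milestone statements here).
-/

set_option autoImplicit false

universe u

open CategoryTheory IsLocalRing InjHull Groth.PolyInj

namespace GrothGr.CanFinite

variable {A B : Type u} [CommRing A] [CommRing B] [IsNoetherianRing A] [IsLocalRing A]
  [IsNoetherianRing B] [IsLocalRing B] [Algebra A B] [Module.Finite A B]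
  {E : Type u} [AddCommGroup E] [Module A E] {f : ResidueField A →ₗ[A] E}

omit [IsNoetherianRing B] in
/-- Coinduction of the hull of the residue field, for a finite local algebra without residue
field extension. -/
theorem exists_hull_coind (hf : IsInjectiveHull f)
    (hrad : ((maximalIdeal A).map (algebraMap A B)).radical = maximalIdeal B)
    (hres : ∀ b : B, ∃ a : A, b - algebraMap A B a ∈ maximalIdeal B)
    [IsNoetherianRing B] :
    ∃ g : ResidueField B →ₗ[B] Coind A B E, IsInjectiveHull g := by
  classical
  have hmB : ∀ a ∈ maximalIdeal A, algebraMap A B a ∈ maximalIdeal B := fun a ha =>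
    hrad ▸ Ideal.le_radical (Ideal.mem_map_of_mem _ ha)
  let σ : A →ₗ[A] ResidueField B :=
    { toFun := fun a => residue B (algebraMap A B a)
      map_add' := fun a b => by rw [map_add, map_add]
      map_smul' := fun a b => by
        show residue B (algebraMap A B (a * b)) = a • residue B (algebraMap A B b)
        rw [map_mul, map_mul, Algebra.smul_def]
        rfl }
  have hσ : Function.Surjective σ := fun q => by
    obtain ⟨b, rfl⟩ := residue_surjective q
    obtain ⟨a, ha⟩ := hres b
    refine ⟨a, (sub_eq_zero.1 ?_).symm⟩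
    show residue B b - residue B (algebraMap A B a) = 0
    rw [← map_sub]
    exact (residue_eq_zero_iff _).2 ha
  have hσker : (maximalIdeal A : Submodule A A) = LinearMap.ker σ := by
    ext a
    show a ∈ maximalIdeal A ↔ residue B (algebraMap A B a) = 0
    rw [residue_eq_zero_iff]
    refine ⟨hmB a, fun h => ?_⟩
    by_contra ha
    have h1 : IsUnit a := by simpa [mem_maximalIdeal] using ha
    exact (maximalIdeal.isMaximal B).ne_top
      (Ideal.eq_top_of_isUnit_mem _ h (h1.map (algebraMap A B)))
  let ψ : ResidueField A ≃ₗ[A] ResidueField B :=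
    (Submodule.quotEquivOfEq _ _ hσker).trans (σ.quotKerEquivOfSurjective hσ)
  let res : B →ₗ[A] ResidueField B :=
    { toFun := residue B
      map_add' := map_add _
      map_smul' := fun a b => by
        rw [Algebra.smul_def, map_mul]
        exact (Algebra.smul_def a (residue B b)).symm }
  let ρ : B →ₗ[A] ResidueField A := ψ.symm.toLinearMap ∘ₗ res
  have hρ : ∀ a : A, ρ (algebraMap A B a) = residue A a := fun a => by
    show ψ.symm (residue B (algebraMap A B a)) = residue A a
    rw [LinearEquiv.symm_apply_eq]
    rfl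
  have hρ0 : ∀ q ∈ maximalIdeal B, ρ q = 0 := fun q hq => by
    show ψ.symm (residue B q) = 0
    rw [(residue_eq_zero_iff q).2 hq, map_zero]
  have hρmod : ∀ (b : B) (a : A), b - algebraMap A B a ∈ maximalIdeal B → ρ b = residue A a :=
    fun b a h => by
      have h1 := hρ0 _ h
      rwa [map_sub, hρ, sub_eq_zero] at h1
  let y : Coind A B E := (f ∘ₗ ρ : B →ₗ[A] E)
  have hykill : maximalIdeal B ≤ LinearMap.ker (LinearMap.toSpanSingleton B _ y) := fun q hq => by
    rw [LinearMap.mem_ker, LinearMap.toSpanSingleton_apply]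
    refine coind_ext fun b => ?_
    show f (ρ (q * b)) = 0
    rw [hρ0 _ (Ideal.mul_mem_right _ _ hq), map_zero]
  let g : ResidueField B →ₗ[B] Coind A B E := Submodule.liftQ _ (LinearMap.toSpanSingleton B _ y) hykill
  have hg : ∀ b : B, g (residue B b) = b • y := fun b => rfl
  refine ⟨g, { isInjective := injective_coind hf.isInjective
               toIsEssentialInj := GrothMatlis.essential_iff.2 ⟨?_, ?_⟩ }⟩
  · rw [injective_iff_map_eq_zero]
    intro q hq
    obtain ⟨b, rfl⟩ := residue_surjective q
    rw [residue_eq_zero_iff]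
    intro hu
    have h1 : y = 0 := hu.smul_left_cancel.1 ((hg b).symm.trans (hq.trans (smul_zero b).symm))
    have h2 : (f ∘ₗ ρ) 1 = 0 := congrArg (fun φ : Coind A B E => φ 1) h1
    rw [LinearMap.comp_apply, ← map_one (algebraMap A B), hρ, map_one] at h2
    exact one_ne_zero (hf.injective (h2.trans (map_zero f).symm))
  · intro h hh
    obtain ⟨n, x, hx⟩ := Module.Finite.exists_fin (R := A) (M := B)
    choose N hN using fun i => GrothMatlis.hull_isPowerTorsion hf ((h : B →ₗ[A] E) (x i))
    set k := Finset.univ.sup N
    have hk : ∀ a ∈ maximalIdeal A ^ k, algebraMap A B a • h = 0 := fun a ha => coind_ext fun b => by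
      show (h : B →ₗ[A] E) (algebraMap A B a * b) = 0
      rw [← Algebra.smul_def, map_smul]
      let h₀ : B →ₗ[A] E := h
      have : a • h₀ = 0 := LinearMap.ext_on_range hx fun i =>
        hN i a (Ideal.pow_le_pow_right (Finset.le_sup (Finset.mem_univ i)) ha)
      exact LinearMap.congr_fun this b
    have hk' : ∀ q ∈ (maximalIdeal A).map (algebraMap A B) ^ k, q • h = 0 := by
      rw [← Ideal.map_pow]
      intro q hq
      refine Submodule.span_induction (fun z hz => ?_) (zero_smul B h)
        (fun z z' _ _ e e' => by rw [add_smul, e, e', add_zero])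
        (fun c z _ e => by rw [smul_eq_mul, mul_smul, e, smul_zero]) hq
      obtain ⟨a, ha, rfl⟩ := hz
      exact hk a ha
    obtain ⟨e, he⟩ := Ideal.exists_radical_pow_le_of_fg ((maximalIdeal A).map (algebraMap A B))
      (IsNoetherian.noetherian _)
    rw [hrad] at he
    have hkill : ∀ q ∈ maximalIdeal B ^ (e * k), q • h = 0 := fun q hq => hk' q (by
      rw [pow_mul] at hq
      exact Ideal.pow_right_mono he k hq)
    obtain ⟨r, hr, hr'⟩ := GrothMatlis.exists_smul_torsion (e * k) hh hkill
    set w := r • h
    have hw1 : (w : B →ₗ[A] E) 1 ∈ LocCoh.torsionBy (maximalIdeal A) E := by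
      rw [Submodule.mem_torsionBySet_iff]
      rintro ⟨a, ha⟩
      show a • (w : B →ₗ[A] E) 1 = 0
      rw [← map_smul, Algebra.smul_def, mul_one]
      have := congrArg (fun φ : Coind A B E => φ 1) (hr' _ (hmB a ha))
      rw [← mul_one (algebraMap A B a)]
      exact this
    rw [GrothMatlis.socle_eq hf.toIsEssentialInj] at hw1
    obtain ⟨c, hc⟩ := hw1
    obtain ⟨c, rfl⟩ := residue_surjective c
    refine ⟨r, ⟨residue B (algebraMap A B c), ?_⟩, hr⟩
    rw [hg]
    refine coind_ext fun b => ?_
    obtain ⟨a, ha⟩ := hres b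
    show f (ρ (algebraMap A B c * b)) = (w : B →ₗ[A] E) b
    have h1 : (w : B →ₗ[A] E) b = (w : B →ₗ[A] E) (algebraMap A B a) := by
      rw [← sub_eq_zero, ← map_sub]
      have := congrArg (fun φ : Coind A B E => φ 1) (hr' _ ha)
      rw [← mul_one (b - algebraMap A B a)]
      exact this
    have h2 : ρ (algebraMap A B c * b) = residue A (c * a) := hρmod _ _ (by
      rw [map_mul, ← mul_sub]
      exact Ideal.mul_mem_left _ _ ha)
    rw [h1, Algebra.algebraMap_eq_smul_one a, map_smul, ← hc, ← map_smul, h2, mul_comm, map_mul]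
    exact congrArg f (Algebra.smul_def a (residue A c)).symm

/-- `K_B ≅ Ext^(dim A - dim B)_A(B, K_A)` for a finite local algebra `B` over a Cohen–Macaulay
local ring `A`, without residue field extension. -/
theorem nonempty_canonical_ext (hA : LocCoh.IsCohenMacaulayLocalRing A) {n : ℕ}
    (hn : ringKrullDim A = n) (hf : IsInjectiveHull f) {K : Type u} [AddCommGroup K] [Module A K]
    [Module.Finite A K] (eK : (K →ₗ[A] E) ≃ₗ[A] LocCoh.H (maximalIdeal A) n A)
    (hrad : ((maximalIdeal A).map (algebraMap A B)).radical = maximalIdeal B)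
    (hres : ∀ b : B, ∃ a : A, b - algebraMap A B a ∈ maximalIdeal B) {n' : ℕ} (hn' : n' ≤ n)
    {EB : Type u} [AddCommGroup EB] [Module B EB] {fB : ResidueField B →ₗ[B] EB}
    (hfB : IsInjectiveHull fB) {K' : Type u} [AddCommGroup K'] [Module B K'] [Module A K']
    [IsScalarTower A B K'] [Module.Finite A K']
    (eK' : (K' →ₗ[B] EB) ≃ₗ[B] LocCoh.H (maximalIdeal B) n' B)
    [Module.Finite A (Abelian.Ext (ModuleCat.of A B) (ModuleCat.of A K) (n - n'))] :
    Nonempty (K' ≃ₗ[A] Abelian.Ext (ModuleCat.of A B) (ModuleCat.of A K) (n - n')) := by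
  obtain ⟨g, hg⟩ := exists_hull_coind hf hrad hres
  obtain ⟨eE, -⟩ := GrothMatlis.hull_unique hg hfB
  let U : (K' →ₗ[A] E) ≃+ (K' →ₗ[B] Coind A B E) :=
    { toFun := fun φ =>
        { toFun := fun x => (φ ∘ₗ (LinearMap.toSpanSingleton B K' x).restrictScalars A : B →ₗ[A] E)
          map_add' := fun x y => coind_ext fun b => by
            show φ (b • (x + y)) = φ (b • x) + φ (b • y)
            rw [smul_add, map_add]
          map_smul' := fun q x => coind_ext fun b => by
            show φ (b • q • x) = φ ((q * b) • x)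
            rw [smul_smul, mul_comm] }
      invFun := fun Φ =>
        { toFun := fun x => (Φ x : B →ₗ[A] E) 1
          map_add' := fun x y => by
            rw [map_add]
            rfl
          map_smul' := fun a x => by
            show (Φ (a • x) : B →ₗ[A] E) 1 = a • (Φ x : B →ₗ[A] E) 1
            rw [← algebraMap_smul B a x, map_smul, ← map_smul (Φ x : B →ₗ[A] E), Algebra.smul_def]
            rfl }
      left_inv := fun φ => LinearMap.ext fun x => by
        show φ ((1 : B) • x) = φ x
        rw [one_smul]
      right_inv := fun Φ => LinearMap.ext fun x => coind_ext fun b => by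
        show (Φ (b • x) : B →ₗ[A] E) 1 = (Φ x : B →ₗ[A] E) b
        rw [map_smul]
        show (Φ x : B →ₗ[A] E) (b * 1) = _
        rw [mul_one]
      map_add' := fun φ φ' => LinearMap.ext fun x => coind_ext fun b => rfl }
  have hU : ∀ (a : A) φ, U (a • φ) = algebraMap A B a • U φ := fun a φ =>
    LinearMap.ext fun x => coind_ext fun b => by
      show a • φ (b • x) = φ ((algebraMap A B a * b) • x)
      rw [mul_smul, algebraMap_smul B a (b • x), φ.map_smul a (b • x)]
  obtain ⟨φ, hφ⟩ := Groth.LocCohTransform.exists_restrict_addEquiv (R := A) (R' := B)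
    (maximalIdeal A) B n'
  have hrad' : ((maximalIdeal A).map (algebraMap A B)).radical = (maximalIdeal B).radical := by
    rw [hrad]
    exact ((maximalIdeal.isMaximal B).isPrime.radical).symm
  let eR : LocCoh.H (maximalIdeal B) n' B ≃ₗ[B]
      LocCoh.H ((maximalIdeal A).map (algebraMap A B)) n' B :=
    ((localCohomology.isoOfSameRadical hrad' n').app (ModuleCat.of B B)).toLinearEquiv.symm
  let eB : (K' →ₗ[B] Coind A B E) ≃ₗ[B] LocCoh.H ((maximalIdeal A).map (algebraMap A B)) n' B :=
    (LinearEquiv.congrRight eE).trans (eK'.trans eR)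
  let L : (K' →ₗ[A] E) ≃ₗ[A] LocCoh.H (maximalIdeal A) n' B :=
    { (U.trans eB.toAddEquiv).trans φ with
      map_smul' := fun a χ => by
        show φ (eB (U (a • χ))) = a • φ (eB (U χ))
        rw [hU, map_smul, hφ] }
  obtain ⟨D⟩ := Groth.CanMod.nonempty_duality' hA hn hf eK B (i := n') (j := n - n') (by omega)
  exact Groth.LocDual.nonempty_equiv_of_dual_equiv hf (L.trans D)

end GrothGr.CanFinite
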