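import Groth.Agent.GrMod.CanonicalEnd
import Groth.Agent.GrMod.CanonicalCM
import Groth.Agent.LocCohBase.CM
import Mathlib.RingTheory.Ideal.KrullsHeightTheorem

/-!
# The Hilbert function of the canonical module

Helper library (no milestone statements here).
-/

universe u

open DirectSum GrLC

namespace GrothGr

variable {R : Type u} [CommRing R] {𝒜 : ℤ → AddSubgroup R} [GradedRing 𝒜]

/-- In a local ring with `dim A/P ≥ 2` no power of the maximal ideal lies in `P + (u)`. -/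
theorem false_of_pow_le_sup_span {A : Type u} [CommRing A] [IsLocalRing A] [IsNoetherianRing A]
    (P : Ideal A) [P.IsPrime] (hP : ((2 : ℕ) : WithBot ℕ∞) ≤ ringKrullDim (A ⧸ P)) {u : A}
    (hu : u ∈ IsLocalRing.maximalIdeal A) {i : ℕ}
    (h : IsLocalRing.maximalIdeal A ^ i ≤ P ⊔ Ideal.span {u}) : False := by
  haveI : Nontrivial (A ⧸ P) := Ideal.Quotient.nontrivial_iff.2 ‹P.IsPrime›.ne_top
  haveI : IsLocalRing (A ⧸ P) :=
    IsLocalRing.of_surjective' (Ideal.Quotient.mk P) Ideal.Quotient.mk_surjective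
  have hM : IsLocalRing.maximalIdeal (A ⧸ P) ≤
      (IsLocalRing.maximalIdeal A).map (Ideal.Quotient.mk P) := by
    intro y hy
    obtain ⟨x, rfl⟩ := Ideal.Quotient.mk_surjective y
    refine Ideal.mem_map_of_mem _ ((IsLocalRing.mem_maximalIdeal x).2 fun hx => ?_)
    exact (IsLocalRing.mem_maximalIdeal _).1 hy (hx.map _)
  set J := Ideal.span {Ideal.Quotient.mk P u}
  have hpow : IsLocalRing.maximalIdeal (A ⧸ P) ^ i ≤ J := by
    refine (Ideal.pow_right_mono hM i).trans ?_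
    rw [← Ideal.map_pow]
    refine (Ideal.map_mono h).trans ?_
    rw [Ideal.map_sup, Ideal.map_quotient_self, bot_sup_eq, Ideal.map_span, Set.image_singleton]
  have hJ : J ≤ IsLocalRing.maximalIdeal (A ⧸ P) := by
    refine (Ideal.span_singleton_le_iff_mem _).2 ((IsLocalRing.mem_maximalIdeal _).2 fun h' => ?_)
    obtain ⟨v, hv⟩ := h'.exists_right_inv
    obtain ⟨v, rfl⟩ := Ideal.Quotient.mk_surjective v
    rw [← map_mul, ← map_one (Ideal.Quotient.mk P), Ideal.Quotient.eq] at hv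
    have : (1 : A) ∈ IsLocalRing.maximalIdeal A := by
      rw [show (1 : A) = u * v - (u * v - 1) by ring]
      exact sub_mem (Ideal.mul_mem_right _ _ hu) (IsLocalRing.le_maximalIdeal ‹P.IsPrime›.ne_top hv)
    exact (IsLocalRing.maximalIdeal.isMaximal A).ne_top ((Ideal.eq_top_iff_one _).2 this)
  have hmin : IsLocalRing.maximalIdeal (A ⧸ P) ∈ J.minimalPrimes :=
    ⟨⟨inferInstance, hJ⟩, fun Q hQ _ => by
      haveI := hQ.1
      exact Ideal.IsPrime.le_of_pow_le (hpow.trans hQ.2)⟩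
  have h1 := Ideal.height_le_one_of_isPrincipal_of_mem_minimalPrimes J _ hmin
  rw [← IsLocalRing.maximalIdeal_height_eq_ringKrullDim] at hP
  exact absurd (le_trans (WithBot.coe_le_coe.1 hP) h1) (by norm_num)

/-- A finitely generated graded module has finite-dimensional pieces over a standard graded ring. -/
theorem finite_comp_module [IsNoetherianRing R] (hpos : ∀ n : ℤ, n < 0 → 𝒜 n = ⊥)
    (hstd : Ideal.span (⋃ n ∈ Set.Ioi (0 : ℤ), (𝒜 n : Set R)) =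
      Ideal.span ((𝒜 1 : AddSubgroup R) : Set R))
    {C : Type u} [AddCommGroup C] [Module R C] (𝒞 : ℤ → AddSubgroup C) [Decomposition 𝒞]
    [SetLike.GradedSMul 𝒜 𝒞] [Module.Finite R C] (j : ℤ) :
    Module.Finite (GrLC.deg0 𝒜) (GrLC.comp 𝒜 𝒞 j) := by
  classical
  obtain ⟨S, hS⟩ := Module.Finite.fg_top (R := R) (M := C)
  let T : Finset (ℤ × C) := S.biUnion fun s => (decompose 𝒞 s).support.image fun d => (d, s)
  have hfin : ∀ t : ℤ × C, ((GrLC.comp 𝒜 𝒜 (j - t.1)).map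
      ((LinearMap.toSpanSingleton R C (pr 𝒞 t.1 t.2)).restrictScalars (GrLC.deg0 𝒜))).FG := fun t => by
    refine Submodule.FG.map _ ?_
    rcases lt_or_ge (j - t.1) 0 with h | h
    · refine ⟨∅, ?_⟩
      rw [Finset.coe_empty, Submodule.span_empty, eq_comm, eq_bot_iff]
      intro x hx
      exact (Submodule.mem_bot _).2 (AddSubgroup.mem_bot.1 (hpos _ h ▸ hx))
    · exact Module.Finite.iff_fg.1 (finite_comp 𝒜 hstd h)
  refine Module.Finite.iff_fg.2 ?_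
  have hle : GrLC.comp 𝒜 𝒞 j = T.sup fun t => (GrLC.comp 𝒜 𝒜 (j - t.1)).map
      ((LinearMap.toSpanSingleton R C (pr 𝒞 t.1 t.2)).restrictScalars (GrLC.deg0 𝒜)) := by
    refine le_antisymm (fun c hc => ?_) (Finset.sup_le fun t _ => ?_)
    · set V := T.sup fun t => (GrLC.comp 𝒜 𝒜 (j - t.1)).map
        ((LinearMap.toSpanSingleton R C (pr 𝒞 t.1 t.2)).restrictScalars (GrLC.deg0 𝒜))
      suffices key : ∀ c ∈ Submodule.span R (S : Set C), ∀ r : R, pr 𝒞 j (r • c) ∈ V by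
        have := key c (hS ▸ Submodule.mem_top) 1
        rwa [one_smul, pr_of_mem 𝒞 (show c ∈ 𝒞 j from hc)] at this
      intro c hc
      induction hc using Submodule.span_induction with
      | mem s hs =>
        intro r
        rw [← sum_support_decompose 𝒞 s, Finset.smul_sum, map_sum]
        refine sum_mem fun d hd => ?_
        rw [pr_smul_of_mem 𝒜 𝒞 (decompose 𝒞 s d).2]
        refine (Finset.le_sup (f := fun t : ℤ × C => (GrLC.comp 𝒜 𝒜 (j - t.1)).map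
          ((LinearMap.toSpanSingleton R C (pr 𝒞 t.1 t.2)).restrictScalars (GrLC.deg0 𝒜)))
          (b := (d, s)) (Finset.mem_biUnion.2 ⟨s, hs, Finset.mem_image.2 ⟨d, hd, rfl⟩⟩)) ?_
        exact ⟨_, (decompose 𝒜 r (j - d)).2, rfl⟩
      | zero => intro r; rw [smul_zero, map_zero]; exact zero_mem _
      | add a b _ _ ha hb => intro r; rw [smul_add, map_add]; exact add_mem (ha r) (hb r)
      | smul a c _ hc => intro r; rw [smul_smul]; exact hc _
    · rintro _ ⟨r, hr, rfl⟩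
      have h := smul_mem 𝒞 𝒜 (show r ∈ 𝒜 (j - t.1) from hr) (pr_mem 𝒞 t.1 t.2)
      rwa [sub_add_cancel] at h
  rw [hle]
  induction T using Finset.induction with
  | empty => rw [Finset.sup_empty]; exact Submodule.fg_bot
  | insert a s _ ih => rw [Finset.sup_insert]; exact (hfin a).sup ih

variable {m : HomogeneousIdeal 𝒜}

theorem irrelevant_pow_le (hmsp : m.toIdeal = Ideal.span (⋃ n ∈ Set.Ioi (0 : ℤ), (𝒜 n : Set R)))
    (hstd : Ideal.span (⋃ n ∈ Set.Ioi (0 : ℤ), (𝒜 n : Set R)) =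
      Ideal.span ((𝒜 1 : AddSubgroup R) : Set R)) (i : ℕ) :
    m.toIdeal ^ i ≤ Ideal.span (𝒜 (i : ℤ) : Set R) := by
  induction i with
  | zero =>
    rw [pow_zero, Ideal.one_eq_top, Nat.cast_zero]
    exact (Ideal.eq_top_iff_one _).2 (Ideal.subset_span (SetLike.one_mem_graded 𝒜)) |>.ge
  | succ i ih =>
    rw [pow_succ]
    refine (Ideal.mul_mono ih (hmsp.trans hstd).le).trans ?_
    rw [Ideal.span_mul_span', Ideal.span_le]
    rintro _ ⟨a, ha, b, hb, rfl⟩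
    refine Ideal.subset_span ?_
    show a * b ∈ 𝒜 ((i + 1 : ℕ) : ℤ)
    rw [Nat.cast_succ]
    exact SetLike.mul_mem_graded ha hb

/-- The canonical module is nonzero in some degree `≤ -a(R)`. -/
theorem exists_mem_canonical_le (hpos : ∀ n : ℤ, n < 0 → 𝒜 n = ⊥)
    (hmsp : m.toIdeal = Ideal.span (⋃ n ∈ Set.Ioi (0 : ℤ), (𝒜 n : Set R)))
    {n : ℕ} {I : StarInjRes 𝒜 𝒜} {E' : Type u}
    [AddCommGroup E'] [Module R E'] {𝓔 : ℤ → AddSubgroup E'} [Decomposition 𝓔]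
    [SetLike.GradedSMul 𝒜 𝓔] {e : (R ⧸ m.toIdeal) →ₗ[R] E'}
    (he : IsStarInjHull 𝒜 (quotGr 𝒜 m) 𝓔 e) {C : Type u} [AddCommGroup C] [Module R C]
    {𝒞 : ℤ → AddSubgroup C} [Decomposition 𝒞] [SetLike.GradedSMul 𝒜 𝒞]
    (hC : IsStarCanonical 𝒜 𝒞 𝓔 m n I) {a : ℤ}
    (ha : endDeg (I.Hgr m n) = ((a : WithTop ℤ) : WithBot (WithTop ℤ))) :
    ∃ (j : ℤ) (x : C), x ∈ 𝒞 j ∧ x ≠ 0 ∧ j ≤ -a := by
  obtain ⟨hfin, φ, hφ⟩ := hC
  haveI := hfin
  letI := (Hgr_isInternal 𝒜 𝒜 I m n).chooseDecomposition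
  obtain ⟨d, hd, had⟩ : ∃ d : ℤ, I.Hgr m n d ≠ ⊥ ∧ a ≤ d := by
    by_contra h
    push Not at h
    have h1 : endDeg (I.Hgr m n) ≤ (((a - 1 : ℤ) : WithTop ℤ) : WithBot (WithTop ℤ)) :=
      iSup₂_le fun d hd => WithBot.coe_le_coe.2 (WithTop.coe_le_coe.2 (by have := h d hd; omega))
    rw [ha] at h1
    have := WithTop.coe_le_coe.1 (WithBot.coe_le_coe.1 h1)
    omega
  obtain ⟨z, hz, hz0⟩ := (AddSubgroup.bot_or_exists_ne_zero _).resolve_left hd
  obtain ⟨D, hD⟩ := exists_sum_degPart 𝒜 𝒞 𝓔 (φ.symm z)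
  have hdeg : ∀ d, IsGrHomDeg 𝒞 𝓔 (degPart 𝒜 𝒞 𝓔 (φ.symm z) d) d := fun d i c hc' =>
    degPart_isGrHom 𝒜 𝒞 𝓔 (φ.symm z) d (i + d) c (by
      show c ∈ 𝒞 (i + d - d)
      rwa [add_sub_cancel_right])
  have h1 : z = ∑ d ∈ D, φ (degPart 𝒜 𝒞 𝓔 (φ.symm z) d) := by
    rw [← map_sum, hD, φ.apply_symm_apply]
  set g := degPart 𝒜 𝒞 𝓔 (φ.symm z) d
  have hg : g ≠ 0 := fun hg => hz0 (by
    rw [← pr_of_mem (I.Hgr m n) hz, h1, map_sum]
    refine Finset.sum_eq_zero fun i _ => ?_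
    rcases eq_or_ne i d with rfl | hid
    · rw [show degPart 𝒜 𝒞 𝓔 (φ.symm z) i = 0 from hg, map_zero, map_zero]
    · exact pr_of_mem_ne (I.Hgr m n) (hφ i _ (hdeg i)) hid)
  obtain ⟨c, hc⟩ : ∃ c, g c ≠ 0 := by
    by_contra h
    push Not at h
    exact hg (LinearMap.ext h)
  obtain ⟨k, hk⟩ : ∃ k, g (pr 𝒞 k c) ≠ 0 := by
    by_contra h
    push Not at h
    obtain ⟨s, -, hs⟩ := exists_sum_pr 𝒞 c
    exact hc (by rw [← hs, map_sum]; exact Finset.sum_eq_zero fun k _ => h k)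
  refine ⟨k, pr 𝒞 k c, pr_mem 𝒞 k c, fun h => hk (by rw [h, map_zero]), ?_⟩
  by_contra hlt
  have hw := hdeg d k (pr 𝒞 k c) (pr_mem 𝒞 k c)
  rw [hull_piece_eq_bot hpos hmsp he (by omega), AddSubgroup.mem_bot] at hw
  exact hk hw

/-- `dim (K_R)_j ≥ 2` above the initial degree, in dimension at least two. -/
theorem two_le_finrank_canonical [LocCoh.IsCohenMacaulayRing R]
    (hpos : ∀ n : ℤ, n < 0 → 𝒜 n = ⊥) (h0 : IsField (GrLC.deg0 𝒜)) (hm : IsStarLocal 𝒜 m)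
    (hmsp : m.toIdeal = Ideal.span (⋃ n ∈ Set.Ioi (0 : ℤ), (𝒜 n : Set R)))
    (hstd : Ideal.span (⋃ n ∈ Set.Ioi (0 : ℤ), (𝒜 n : Set R)) =
      Ideal.span ((𝒜 1 : AddSubgroup R) : Set R))
    {n : ℕ} (hn : ringKrullDim R = n) (h2 : 2 ≤ n) {I : StarInjRes 𝒜 𝒜} {a : ℤ}
    (ha : endDeg (I.Hgr m n) = ((a : WithTop ℤ) : WithBot (WithTop ℤ))) {E' : Type u}
    [AddCommGroup E'] [Module R E'] {𝓔 : ℤ → AddSubgroup E'} [Decomposition 𝓔]
    [SetLike.GradedSMul 𝒜 𝓔] {e : (R ⧸ m.toIdeal) →ₗ[R] E'}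
    (he : IsStarInjHull 𝒜 (quotGr 𝒜 m) 𝓔 e) {C : Type u} [AddCommGroup C] [Module R C]
    {𝒞 : ℤ → AddSubgroup C} [Decomposition 𝒞] [SetLike.GradedSMul 𝒜 𝒞]
    (hC : IsStarCanonical 𝒜 𝒞 𝓔 m n I) {j : ℤ} (hj : -a < j) :
    2 ≤ Module.finrank (GrLC.deg0 𝒜) (GrLC.comp 𝒜 𝒞 j) := by
  classical
  letI : Field (GrLC.deg0 𝒜) := h0.toField
  haveI := isMaximal_irrelevant 𝒜 hpos h0 hm hmsp
  haveI : Module.Finite R C := hC.1
  have hcm := (canonical_cm_injdim 𝒜 hm hn he hC).1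
  obtain ⟨j₀, x, hx, hx0, hj₀⟩ := exists_mem_canonical_le hpos hmsp he hC ha
  obtain ⟨i, hi, rfl⟩ : ∃ i : ℕ, 0 < i ∧ j = (i : ℤ) + j₀ :=
    ⟨(j - j₀).toNat, by omega, by rw [Int.toNat_of_nonneg (by omega)]; omega⟩
  haveI := finite_comp_module hpos hstd 𝒞 ((i : ℤ) + j₀)
  by_contra hlt
  haveI : Module.Free (GrLC.deg0 𝒜) (GrLC.comp 𝒜 𝒞 ((i : ℤ) + j₀)) :=
    Module.Free.of_divisionRing ..
  obtain ⟨v, hv⟩ := (finrank_le_one_iff (K := GrLC.deg0 𝒜)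
    (V := GrLC.comp 𝒜 𝒞 ((i : ℤ) + j₀))).1 (by omega)
  have hmul : ∀ r ∈ 𝒜 (i : ℤ), ∃ c : GrLC.deg0 𝒜, (c : R) • (v : C) = r • x := fun r hr => by
    obtain ⟨c, hc⟩ := hv ⟨r • x, smul_mem 𝒞 𝒜 hr hx⟩
    exact ⟨c, congrArg Subtype.val hc⟩
  obtain ⟨u, hspan⟩ : ∃ u : GrLC.comp 𝒜 𝒜 (i : ℤ), ∀ r ∈ 𝒜 (i : ℤ),
      r ∈ Ideal.span {(u : R)} ⊔ (⊥ : Submodule R C).colon {x} := by
    by_cases h : ∀ r ∈ 𝒜 (i : ℤ), r • x = 0
    · exact ⟨0, fun r hr => Submodule.mem_sup_right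
        (by rw [Submodule.mem_colon_singleton, Submodule.mem_bot]; exact h r hr)⟩
    push Not at h
    obtain ⟨u, hu, hux⟩ := h
    obtain ⟨d, hd⟩ := hmul u hu
    have hd0 : d ≠ 0 := fun h0' => hux (by rw [← hd, h0', ZeroMemClass.coe_zero, zero_smul])
    obtain ⟨d', hd'⟩ := h0.mul_inv_cancel hd0
    refine ⟨⟨u, hu⟩, fun r hr => ?_⟩
    obtain ⟨c, hc⟩ := hmul r hr
    have h1 : (((c : R) * (d' : R)) * u) • x = r • x := by
      have hdd : (d' : R) * (d : R) = 1 := by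
        rw [mul_comm]; exact congrArg Subtype.val hd'
      rw [mul_smul, ← hd, smul_smul, mul_assoc, hdd, mul_one, hc]
    rw [show r = ((c : R) * (d' : R)) * u + (r - ((c : R) * (d' : R)) * u) by ring]
    refine Submodule.add_mem_sup (Ideal.mem_span_singleton'.2 ⟨_, rfl⟩) ?_
    rw [Submodule.mem_colon_singleton, Submodule.mem_bot, sub_smul, h1, sub_self]
  have hmi : m.toIdeal ^ i ≤ Ideal.span {(u : R)} ⊔ (⊥ : Submodule R C).colon {x} :=
    (irrelevant_pow_le hmsp hstd i).trans (Ideal.span_le.2 hspan)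
  have hx1 : LocalizedModule.mkLinearMap m.toIdeal.primeCompl C x ≠ 0 := fun h => by
    obtain ⟨s, hs⟩ := (IsLocalizedModule.eq_zero_iff m.toIdeal.primeCompl
      (LocalizedModule.mkLinearMap m.toIdeal.primeCompl C)).1 h
    have h2 : pr 𝒞 j₀ ((s : R) • x) = 0 := by rw [← Submonoid.smul_def, hs, map_zero]
    rw [pr_smul_of_mem 𝒜 𝒞 hx, sub_self] at h2
    by_cases hs0 : (decompose 𝒜 (s : R) 0 : R) = 0
    · exact s.2 (hmsp.ge (mem_irrelevant_of_decompose_zero 𝒜 hpos hs0))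
    · exact hx0 ((isUnit_of_mem_zero 𝒜 h0 (decompose 𝒜 (s : R) 0).2 hs0).smul_eq_zero.1 h2)
  set A := Localization.AtPrime m.toIdeal
  obtain ⟨P, hP, hle⟩ := exists_le_isAssociatedPrime_of_isNoetherianRing A _ hx1
  haveI := hP.isPrime
  have hd : ((2 : ℕ) : WithBot ℕ∞) ≤ ringKrullDim (A ⧸ P) := by
    have h1 := Groth.LocCohBase.depth_le_ringKrullDim_quotient hP
    obtain ⟨E₀, _, _, f₀, hf₀, ⟨eK⟩⟩ := exists_local_data 𝒜 he hC
    have h3 : Module.supportDim A (LocalizedModule m.toIdeal.primeCompl C) = n :=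
      (Groth.CanMod.cm_and_dim (LocCoh.IsCohenMacaulayRing.isCohenMacaulayLocalRing_localization
        m.toIdeal) (ringKrullDim_at_starLocal 𝒜 hm hn) hf₀ eK).2
    rw [← show Module.supportDim A (LocalizedModule m.toIdeal.primeCompl C) = _ from hcm, h3] at h1
    exact le_trans (by exact_mod_cast h2) h1
  refine false_of_pow_le_sup_span P hd (u := algebraMap R A (u : R)) (i := i) ?_ ?_
  · rw [← IsLocalization.AtPrime.map_eq_maximalIdeal m.toIdeal A]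
    exact Ideal.mem_map_of_mem _ (hmsp ▸ Ideal.subset_span
      (Set.mem_biUnion (Set.mem_Ioi.2 (by exact_mod_cast hi)) u.2))
  rw [← IsLocalization.AtPrime.map_eq_maximalIdeal m.toIdeal A, ← Ideal.map_pow]
  refine (Ideal.map_mono hmi).trans ?_
  rw [Ideal.map_sup, Ideal.map_span, Set.image_singleton, sup_comm]
  refine sup_le_sup_right (Ideal.map_le_iff_le_comap.2 fun r hr => hle ?_) _
  rw [Submodule.mem_colon_singleton, Submodule.mem_bot] at hr ⊢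
  rw [algebraMap_smul, ← map_smul, hr, map_zero]

end GrothGr
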