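import Groth.Agent.GrMod.Res
import Groth.Agent.GrMod.Hgr

/-!
# Graded local cohomology does not depend on the resolution

Helper library (no milestone statements here).
-/

universe u

open DirectSum GrLC

namespace GrothGr

variable {ι : Type} [AddCommGroup ι] [DecidableEq ι]
variable {R : Type u} [CommRing R] (𝒜 : ι → AddSubgroup R) [GradedRing 𝒜]

/-- A graded map killing the kernel of another factors through it. -/
theorem exists_lift_of_ker_le {A B I : Type u} [AddCommGroup A] [Module R A] [AddCommGroup B]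
    [Module R B] [AddCommGroup I] [Module R I] (𝒢 : ι → AddSubgroup A) [Decomposition 𝒢]
    [SetLike.GradedSMul 𝒜 𝒢] (ℬ : ι → AddSubgroup B) [Decomposition ℬ] [SetLike.GradedSMul 𝒜 ℬ]
    (ℐ : ι → AddSubgroup I) [Decomposition ℐ] [SetLike.GradedSMul 𝒜 ℐ] (hI : IsStarInj 𝒜 ℐ)
    {g : A →ₗ[R] B} (hg : IsGrHom 𝒢 ℬ g) {f : A →ₗ[R] I} (hf : IsGrHom 𝒢 ℐ f)
    (hker : LinearMap.ker g ≤ LinearMap.ker f) :
    ∃ h : B →ₗ[R] I, IsGrHom ℬ ℐ h ∧ h ∘ₗ g = f := by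
  letI := (quotPc_isInternal 𝒢 (isHomogeneous_ker hg)).chooseDecomposition
  haveI := quotPc_gradedSMul 𝒜 𝒢 (LinearMap.ker g)
  let g' := (LinearMap.ker g).liftQ g le_rfl
  let f' := (LinearMap.ker g).liftQ f hker
  have hg' : IsGrHom (quotPc 𝒢 (LinearMap.ker g)) ℬ g' := by
    rintro j _ ⟨a, ha, rfl⟩
    exact hg j a ha
  have hf' : IsGrHom (quotPc 𝒢 (LinearMap.ker g)) ℐ f' := by
    rintro j _ ⟨a, ha, rfl⟩
    exact hf j a ha
  have hinj : Function.Injective g' :=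
    LinearMap.ker_eq_bot.1 (Submodule.ker_liftQ_eq_bot _ g le_rfl le_rfl)
  obtain ⟨h, hh, hhg⟩ := hI (GMod.of 𝒜 _ (quotPc 𝒢 (LinearMap.ker g))) (GMod.of 𝒜 B ℬ) g' hg' hinj
    f' hf'
  exact ⟨h, hh, LinearMap.ext fun a => LinearMap.congr_fun hhg (Submodule.Quotient.mk a)⟩

variable {M : Type u} [AddCommGroup M] [Module R M] {ℳ : ι → AddSubgroup M} [Decomposition ℳ]
  [SetLike.GradedSMul 𝒜 ℳ]

/-- A chain map over the identity of `M`. -/
structure ResHom (E F : StarInjRes 𝒜 ℳ) where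
  f : ∀ n, (E.X n).carrier →ₗ[R] (F.X n).carrier
  grHom : ∀ n, IsGrHom (E.X n).gr (F.X n).gr (f n)
  comm_ε : ∀ m, f 0 (E.ε m) = F.ε m
  comm : ∀ n x, f (n + 1) (E.d n x) = F.d n (f n x)

theorem nonempty_resHom (E F : StarInjRes 𝒜 ℳ) : Nonempty (ResHom 𝒜 E F) := by
  have hz : ∀ {k}, ∀ f : (E.X k).carrier →ₗ[R] (F.X k).carrier, IsGrHom (E.X k).gr (F.X k).gr f →
      LinearMap.ker (E.d k) ≤ LinearMap.ker (F.d k ∘ₗ f) →
      ∃ g : (E.X (k + 1)).carrier →ₗ[R] (F.X (k + 1)).carrier,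
        IsGrHom (E.X (k + 1)).gr (F.X (k + 1)).gr g ∧ g ∘ₗ E.d k = F.d k ∘ₗ f := fun {k} f hf h =>
    exists_lift_of_ker_le 𝒜 (E.X k).gr (E.X (k + 1)).gr (F.X (k + 1)).gr (F.starInj (k + 1))
      (E.d_grHom k) (IsGrHom.comp (F.d_grHom k) hf) h
  obtain ⟨f₀, hf₀, hf₀ε⟩ := F.starInj 0 (GMod.of 𝒜 M ℳ) (E.X 0) E.ε E.ε_grHom E.ε_injective F.ε
    F.ε_grHom
  have hf₀ε' : ∀ m, f₀ (E.ε m) = F.ε m := fun m => LinearMap.congr_fun hf₀ε m
  let P : ∀ n, ((E.X n).carrier →ₗ[R] (F.X n).carrier) → Prop := fun n f =>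
    IsGrHom (E.X n).gr (F.X n).gr f ∧ LinearMap.ker (E.d n) ≤ LinearMap.ker (F.d n ∘ₗ f)
  have h0 : P 0 f₀ := by
    refine ⟨hf₀, fun x hx => ?_⟩
    rw [E.exact_zero] at hx
    obtain ⟨m, rfl⟩ := hx
    show F.d 0 (f₀ (E.ε m)) = 0
    rw [hf₀ε']
    exact LinearMap.mem_ker.1 (F.exact_zero.ge ⟨m, rfl⟩)
  have hstep : ∀ n f, P n f → ∃ g, P (n + 1) g ∧ g ∘ₗ E.d n = F.d n ∘ₗ f := by
    intro n f hf
    obtain ⟨g, hg, hgd⟩ := hz f hf.1 hf.2
    refine ⟨g, ⟨hg, fun x hx => ?_⟩, hgd⟩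
    rw [E.exact_succ] at hx
    obtain ⟨y, rfl⟩ := hx
    show F.d (n + 1) (g (E.d n y)) = 0
    rw [show g (E.d n y) = F.d n (f y) from LinearMap.congr_fun hgd y]
    exact LinearMap.mem_ker.1 ((F.exact_succ n).ge ⟨f y, rfl⟩)
  choose g hg hgd using hstep
  let seq : ∀ n, {f // P n f} := fun n => Nat.rec (motive := fun n => {f // P n f}) ⟨f₀, h0⟩
    (fun k a => ⟨g k a.1 a.2, hg k a.1 a.2⟩) n
  exact ⟨⟨fun n => (seq n).1, fun n => (seq n).2.1, hf₀ε',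
    fun n x => LinearMap.congr_fun (hgd n (seq n).1 (seq n).2) x⟩⟩

variable {𝒜}

theorem map_gam {A B : Type u} [AddCommGroup A] [Module R A] [AddCommGroup B] [Module R B]
    (f : A →ₗ[R] B) (a : Ideal R) {x : A} (hx : x ∈ gam a A) : f x ∈ gam a B := by
  obtain ⟨n, hn⟩ := hx
  exact ⟨n, fun r hr => by rw [← map_smul, hn r hr, map_zero]⟩

variable {E F : StarInjRes 𝒜 ℳ} (a : HomogeneousIdeal 𝒜)

/-- The map on cocycles. -/
def ResHom.cyc (φ : ResHom 𝒜 E F) (i : ℕ) : E.cocyc a i →ₗ[R] F.cocyc a i :=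
  (φ.f i).restrict fun x hx => ⟨map_gam _ _ hx.1, by
    show F.d i (φ.f i x) = 0
    rw [← φ.comm, show E.d i x = 0 from hx.2, map_zero]⟩

theorem ResHom.cyc_mapsTo (φ : ResHom 𝒜 E F) (i : ℕ) :
    (E.cobdy a i).comap (E.cocyc a i).subtype ≤
      ((F.cobdy a i).comap (F.cocyc a i).subtype).comap (φ.cyc a i) := by
  intro z hz
  cases i with
  | zero =>
    have h0 : (z : (E.X 0).carrier) = 0 := hz
    show φ.f 0 (z : (E.X 0).carrier) ∈ (⊥ : Submodule R (F.X 0).carrier)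
    rw [h0, map_zero]
    exact zero_mem _
  | succ n =>
    obtain ⟨x, hx, hxz⟩ := hz
    refine ⟨φ.f n x, map_gam _ _ hx, ?_⟩
    rw [← φ.comm, hxz]
    rfl

/-- The induced map on cohomology. -/
def ResHom.mapH (φ : ResHom 𝒜 E F) (i : ℕ) : E.H a i →ₗ[R] F.H a i :=
  Submodule.mapQ _ _ (φ.cyc a i) (φ.cyc_mapsTo a i)

theorem ResHom.mapH_mk (φ : ResHom 𝒜 E F) (i : ℕ) (z : E.cocyc a i) :
    φ.mapH a i (Submodule.Quotient.mk z) = Submodule.Quotient.mk (φ.cyc a i z) := rfl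

/-- A chain endomorphism over the identity is homotopic to it. -/
theorem ResHom.exists_homotopy (φ : ResHom 𝒜 E E) :
    ∃ s : ∀ n, (E.X (n + 1)).carrier →ₗ[R] (E.X n).carrier,
      (∀ x, φ.f 0 x - x = s 0 (E.d 0 x)) ∧
        ∀ n x, φ.f (n + 1) x - x = E.d n (s n x) + s (n + 1) (E.d (n + 1) x) := by
  let δ : ∀ n, (E.X n).carrier →ₗ[R] (E.X n).carrier := fun n => φ.f n - LinearMap.id
  have hδ : ∀ n, IsGrHom (E.X n).gr (E.X n).gr (δ n) := fun n g m hm =>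
    sub_mem (φ.grHom n g m hm) hm
  have hδd : ∀ n x, δ (n + 1) (E.d n x) = E.d n (δ n x) := fun n x => by
    show φ.f (n + 1) (E.d n x) - E.d n x = E.d n (φ.f n x - x)
    rw [φ.comm, map_sub]
  let P : ∀ n, ((E.X (n + 1)).carrier →ₗ[R] (E.X n).carrier) → Prop := fun n s =>
    IsGrHom (E.X (n + 1)).gr (E.X n).gr s ∧ ∀ x, E.d n (δ n x) = E.d n (s (E.d n x))
  obtain ⟨s₀, hs₀, hs₀d⟩ := exists_lift_of_ker_le 𝒜 (E.X 0).gr (E.X 1).gr (E.X 0).gr (E.starInj 0)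
    (E.d_grHom 0) (hδ 0) (fun x hx => by
      rw [E.exact_zero] at hx
      obtain ⟨m, rfl⟩ := hx
      show φ.f 0 (E.ε m) - E.ε m = 0
      rw [φ.comm_ε, sub_self])
  have hs₀d' : ∀ x, s₀ (E.d 0 x) = δ 0 x := fun x => LinearMap.congr_fun hs₀d x
  have h0 : P 0 s₀ := ⟨hs₀, fun x => by rw [hs₀d']⟩
  have hstep : ∀ n s, P n s → ∃ t, P (n + 1) t ∧
      ∀ x, δ (n + 1) x = E.d n (s x) + t (E.d (n + 1) x) := by
    intro n s hs
    obtain ⟨t, ht, htd⟩ := exists_lift_of_ker_le 𝒜 (E.X (n + 1)).gr (E.X (n + 1 + 1)).gr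
      (E.X (n + 1)).gr (E.starInj (n + 1)) (E.d_grHom (n + 1))
      (f := δ (n + 1) - E.d n ∘ₗ s)
      (fun g m hm => sub_mem (hδ (n + 1) g m hm) (E.d_grHom n g _ (hs.1 g m hm))) (fun x hx => by
        rw [E.exact_succ] at hx
        obtain ⟨y, rfl⟩ := hx
        show δ (n + 1) (E.d n y) - E.d n (s (E.d n y)) = 0
        rw [hδd, hs.2, sub_self])
    have htd' : ∀ x, t (E.d (n + 1) x) = δ (n + 1) x - E.d n (s x) := fun x =>
      LinearMap.congr_fun htd x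
    refine ⟨t, ⟨ht, fun x => ?_⟩, fun x => by rw [htd', add_sub_cancel]⟩
    rw [htd', map_sub, show E.d (n + 1) (E.d n (s x)) = 0 from
      LinearMap.mem_ker.1 ((E.exact_succ n).ge ⟨s x, rfl⟩), sub_zero]
  choose t ht htd using hstep
  let seq : ∀ n, {s // P n s} := fun n => Nat.rec (motive := fun n => {s // P n s}) ⟨s₀, h0⟩
    (fun k a => ⟨t k a.1 a.2, ht k a.1 a.2⟩) n
  exact ⟨fun n => (seq n).1, fun x => (hs₀d' x).symm, fun n x => htd n (seq n).1 (seq n).2 x⟩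

theorem ResHom.mapH_self (φ : ResHom 𝒜 E E) (i : ℕ) (z : E.H a i) : φ.mapH a i z = z := by
  obtain ⟨s, hs0, hs⟩ := φ.exists_homotopy
  obtain ⟨⟨z, hz⟩, rfl⟩ := Submodule.Quotient.mk_surjective _ z
  rw [φ.mapH_mk, Submodule.Quotient.eq, Submodule.mem_comap]
  cases i with
  | zero =>
    show φ.f 0 z - z ∈ E.cobdy a 0
    rw [hs0, show E.d 0 z = 0 from hz.2, map_zero]
    exact zero_mem _
  | succ n =>
    show φ.f (n + 1) z - z ∈ E.cobdy a (n + 1)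
    rw [hs, show E.d (n + 1) z = 0 from hz.2, map_zero, add_zero]
    exact ⟨s n z, map_gam _ _ hz.1, rfl⟩

/-- Composition. -/
def ResHom.comp {G : StarInjRes 𝒜 ℳ} (ψ : ResHom 𝒜 F G) (φ : ResHom 𝒜 E F) : ResHom 𝒜 E G where
  f n := ψ.f n ∘ₗ φ.f n
  grHom n := IsGrHom.comp (ψ.grHom n) (φ.grHom n)
  comm_ε m := by rw [LinearMap.comp_apply, φ.comm_ε, ψ.comm_ε]
  comm n x := by rw [LinearMap.comp_apply, φ.comm, ψ.comm]; rfl

variable (E F) in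
/-- Any two resolutions give the same graded local cohomology. -/
theorem exists_H_equiv (i : ℕ) :
    ∃ ψ : E.H a i ≃ₗ[R] F.H a i, IsGrHom (E.Hgr a i) (F.Hgr a i) ψ.toLinearMap := by
  obtain ⟨φ⟩ := nonempty_resHom 𝒜 E F
  obtain ⟨χ⟩ := nonempty_resHom 𝒜 F E
  have h1 : χ.mapH a i ∘ₗ φ.mapH a i = LinearMap.id := by
    ext z
    exact (χ.comp φ).mapH_self a i (Submodule.Quotient.mk z)
  have h2 : φ.mapH a i ∘ₗ χ.mapH a i = LinearMap.id := by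
    ext z
    exact (φ.comp χ).mapH_self a i (Submodule.Quotient.mk z)
  refine ⟨LinearEquiv.ofLinearMap (φ.mapH a i) (χ.mapH a i) h2 h1, ?_⟩
  rintro g _ ⟨z, hz, rfl⟩
  exact ⟨φ.cyc a i z, φ.grHom i g _ hz, rfl⟩

end GrothGr
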