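import Groth.Agent.GrMod.LocCoh
import Groth.Agent.GrMod.StarLocal
import Groth.Agent.GrMod.Positive
import Groth.Agent.LocCohBase.TopDegree
import Groth.Agent.LocCohTransform.HMap

/-!
# Top local cohomology of a standard graded ring is generated upwards by `R₁`

Helper library (no milestone statements here).
-/

universe u

open DirectSum GrLC CategoryTheory

namespace GrothGr

/-- `H^n_I(R) = I · H^n_I(R)` when `dim R ≤ n` and `H^n_I(R/I) = 0`. -/
theorem exists_sum_smul_top {R : Type u} [CommRing R] [IsNoetherianRing R] (I : Ideal R) {N : ℕ}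
    (r : Fin N → R) (hr : Ideal.span (Set.range r) = I) {n : ℕ} (hn : ringKrullDim R ≤ (n : WithBot ℕ∞))
    (hI : Subsingleton (LocCoh.H I n (R ⧸ I))) (x : LocCoh.H I n R) :
    ∃ y : Fin N → LocCoh.H I n R, x = ∑ t, r t • y t := by
  classical
  let G : (Fin N → R) →ₗ[R] R := Fintype.linearCombination R r
  let g : (Fin N → R) →ₗ[R] LinearMap.range G := G.rangeRestrict
  have hrange : LinearMap.range G = I := by
    rw [Fintype.range_linearCombination]; exact hr
  have hdim : Module.supportDim R (Fin N → R) ≤ (n : WithBot ℕ∞) :=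
    (Module.supportDim_le_ringKrullDim R _).trans hn
  have hg := Groth.LocCohBase.H_top_map_surjective I g G.surjective_rangeRestrict hdim
  have hS := GrothGoren.seqCx_shortExact (LinearMap.range G).subtype (LinearMap.range G).mkQ
    (LinearMap.exact_subtype_mkQ _) (Submodule.injective_subtype _) (Submodule.mkQ_surjective _)
  haveI : Subsingleton (Groth.LocCohBase.HH' I n (ModuleCat.of R (R ⧸ LinearMap.range G))) := by
    rw [hrange]; exact hI
  obtain ⟨w, hw⟩ := (Groth.LocCohBase.exact₂ (I := I) hS n x).1 (Subsingleton.elim _ _)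
  obtain ⟨u, hu⟩ := hg w
  have hcomp : ((localCohomology I n).map (ModuleCat.ofHom G)).hom u = x := by
    rw [show ModuleCat.ofHom G = ModuleCat.ofHom g ≫ ModuleCat.ofHom (LinearMap.range G).subtype from
      ModuleCat.hom_ext rfl, Groth.LocCohTransform.map_comp', hu]
    exact hw
  refine ⟨fun t => ((localCohomology I n).map
    (ModuleCat.ofHom (LinearMap.proj t : (Fin N → R) →ₗ[R] R))).hom u, ?_⟩
  let Φ : (ModuleCat.of R (Fin N → R) ⟶ ModuleCat.of R R) →+ LocCoh.H I n R :=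
    AddMonoidHom.mk' (fun f => ((localCohomology I n).map f).hom u)
      fun f f' => Groth.LocCohTransform.map_add' I n f f' u
  have hG : ModuleCat.ofHom G = ∑ t : Fin N,
      ModuleCat.ofHom (LinearMap.proj t : (Fin N → R) →ₗ[R] R) ≫ (r t • 𝟙 (ModuleCat.of R R)) := by
    refine ModuleCat.hom_ext (LinearMap.ext fun v => ?_)
    rw [ModuleCat.hom_sum, LinearMap.sum_apply]
    show Fintype.linearCombination R r v = _
    rw [Fintype.linearCombination_apply]
    exact Finset.sum_congr rfl fun t _ => by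
      show v t • r t = r t • v t
      rw [smul_eq_mul, smul_eq_mul, mul_comm]
  show x = ∑ t, r t • _
  rw [← hcomp]
  show Φ (ModuleCat.ofHom G) = _
  rw [hG, map_sum]
  exact Finset.sum_congr rfl fun t _ =>
    (Groth.LocCohTransform.map_comp' I n _ _ u).trans
      (Groth.LocCohBase.smul_eq_map (I := I) n (ModuleCat.of R R) (r t) _).symm

variable {R : Type u} [CommRing R] [IsNoetherianRing R] {𝒜 : ℤ → AddSubgroup R} [GradedRing 𝒜]
variable {m : HomogeneousIdeal 𝒜} [m.toIdeal.IsMaximal]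
  (hmsp : m.toIdeal = Ideal.span (⋃ n ∈ Set.Ioi (0 : ℤ), (𝒜 n : Set R)))
  (hstd : Ideal.span (⋃ n ∈ Set.Ioi (0 : ℤ), (𝒜 n : Set R)) = Ideal.span ((𝒜 1 : AddSubgroup R) : Set R))
  {n : ℕ} (hn : ringKrullDim R = n) (h1 : 1 ≤ n) (I : StarInjRes 𝒜 𝒜)

include hmsp hstd hn h1 in
/-- `H^n_m(R)_i = R₁ · H^n_m(R)_{i-1}`. -/
theorem exists_sum_smul_Hgr {i : ℤ} {x : I.H m n} (hx : x ∈ I.Hgr m n i) :
    ∃ (N : ℕ) (r : Fin N → R) (y : Fin N → I.H m n), (∀ t, r t ∈ 𝒜 1) ∧
      (∀ t, y t ∈ I.Hgr m n (i - 1)) ∧ x = ∑ t, r t • y t := by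
  classical
  obtain ⟨S, hS1, hS⟩ := (Submodule.fg_span_iff_fg_span_finset_subset (R := R)
    ((𝒜 1 : AddSubgroup R) : Set R)).1 (IsNoetherian.noetherian _)
  let r : Fin S.card → R := fun t => (S.equivFin.symm t : R)
  have hr1 : ∀ t, r t ∈ 𝒜 1 := fun t => hS1 (S.equivFin.symm t).2
  have hrange : Ideal.span (Set.range r) = m.toIdeal := by
    rw [hmsp, hstd]
    refine Eq.trans ?_ hS.symm
    congr 1
    ext z
    simp only [Set.mem_range, r, SetLike.mem_coe]
    exact ⟨fun ⟨t, ht⟩ => ht ▸ (S.equivFin.symm t).2, fun hz => ⟨S.equivFin ⟨z, hz⟩, by simp⟩⟩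
  obtain ⟨e⟩ := nonempty_H_equiv 𝒜 𝒜 m I n
  have hquot : Subsingleton (LocCoh.H m.toIdeal n (R ⧸ m.toIdeal)) := by
    obtain ⟨k, rfl⟩ : ∃ k, n = k + 1 := ⟨n - 1, by omega⟩
    refine Groth.LocCohBase.subsingleton_succ_of_isPowerTorsion m.toIdeal k (R ⧸ m.toIdeal) fun z =>
      ⟨1, fun a ha => ?_⟩
    rw [pow_one] at ha
    rw [Algebra.smul_def, Ideal.Quotient.algebraMap_eq, Ideal.Quotient.eq_zero_iff_mem.2 ha, zero_mul]
  obtain ⟨y, hy⟩ := exists_sum_smul_top m.toIdeal r hrange hn.le hquot (e x)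
  letI := (Hgr_isInternal 𝒜 𝒜 I m n).chooseDecomposition
  haveI := Hgr_gradedSMul 𝒜 I m n
  refine ⟨S.card, r, fun t => pr (I.Hgr m n) (i - 1) (e.symm (y t)), hr1, fun t => pr_mem _ _ _, ?_⟩
  have hx' : x = ∑ t, r t • e.symm (y t) := by
    apply e.injective
    rw [hy, map_sum]
    exact Finset.sum_congr rfl fun t _ => by rw [map_smul, e.apply_symm_apply]
  conv_lhs => rw [← pr_of_mem (I.Hgr m n) hx, hx', map_sum]
  exact Finset.sum_congr rfl fun t _ => pr_smul (I.Hgr m n) 𝒜 (hr1 t) i _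

include hmsp hstd hn h1 in
/-- `H^n_m(R)_{j+k}` is spanned by `R_k · H^n_m(R)_j`. -/
theorem mem_closure_Hgr (j : ℤ) (k : ℕ) {x : I.H m n} (hx : x ∈ I.Hgr m n (j + k)) :
    x ∈ AddSubgroup.closure {z | ∃ r ∈ 𝒜 (k : ℤ), ∃ y ∈ I.Hgr m n j, r • y = z} := by
  induction k generalizing x with
  | zero =>
    rw [Nat.cast_zero, add_zero] at hx
    exact AddSubgroup.subset_closure
      ⟨1, by rw [Nat.cast_zero]; exact SetLike.one_mem_graded 𝒜, x, hx, one_smul _ _⟩
  | succ k ih =>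
    obtain ⟨N, r, y, hr, hy, rfl⟩ := exists_sum_smul_Hgr hmsp hstd hn h1 I hx
    refine sum_mem fun t _ => ?_
    have hyt := ih (x := y t) (by
      have := hy t
      rwa [show j + ((k + 1 : ℕ) : ℤ) - 1 = j + k by push_cast; ring] at this)
    refine AddSubgroup.closure_induction
      (p := fun z _ => r t • z ∈ AddSubgroup.closure
        {z | ∃ s ∈ 𝒜 ((k + 1 : ℕ) : ℤ), ∃ y ∈ I.Hgr m n j, s • y = z})
      (fun z hz => ?_) (by rw [smul_zero]; exact zero_mem _)
      (fun a b _ _ ha hb => by rw [smul_add]; exact add_mem ha hb)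
      (fun a _ ha => by rw [smul_neg]; exact neg_mem ha) hyt
    obtain ⟨s, hs, w, hw, rfl⟩ := hz
    refine AddSubgroup.subset_closure ⟨r t * s, ?_, w, hw, mul_smul _ _ _⟩
    rw [Nat.cast_succ, add_comm]
    exact SetLike.mul_mem_graded (hr t) hs

include hmsp hstd hn h1 in
/-- The nonvanishing degrees of `H^n_m(R)` form a down-set. -/
theorem Hgr_ne_bot_of_le {i j : ℤ} (hi : I.Hgr m n i ≠ ⊥) (hj : j ≤ i) : I.Hgr m n j ≠ ⊥ := by
  intro h
  refine hi (eq_bot_iff.2 fun x hx => ?_)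
  obtain ⟨k, rfl⟩ : ∃ k : ℕ, i = j + k := ⟨(i - j).toNat, by omega⟩
  refine AddSubgroup.closure_le _ |>.2 ?_ (mem_closure_Hgr hmsp hstd hn h1 I j k hx)
  rintro _ ⟨s, -, y, hy, rfl⟩
  rw [h, AddSubgroup.mem_bot] at hy
  rw [hy, smul_zero]
  exact zero_mem _

end GrothGr
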