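import Groth.Agent.GrMod.HullDual
import Groth.Agent.GrMod.TopSpan
import Groth.Agent.GrMod.Step
import Groth.Agent.GrMod.SupportDim
import Groth.Agent.GrMod.CanonicalHilbert
import Groth.Agent.GrMod.Res
import Mathlib.RingTheory.KrullDimension.Regular
import Mathlib.RingTheory.Polynomial.Basic
import Mathlib.Algebra.Polynomial.AlgebraMap
import Mathlib.RingTheory.Coprime.Lemmas
import Mathlib.NumberTheory.Bertrand

/-!
# The difference between the Hilbert function and the top local cohomology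

For a standard graded ring over a field and a graded module with local cohomology in a single
degree `k`, the function `j ↦ dim M_j - (-1)^k dim H^k_m(M)_j` is killed by `(S - 1)^k` (`S` the
shift). Helper library (no milestone statements here).
-/

universe u

open DirectSum GrLC Polynomial
open scoped Pointwise

namespace GrothGr

variable {R : Type u} [CommRing R] {𝒜 : ℤ → AddSubgroup R} [GradedRing 𝒜]

/-- The dimension of a piece. -/
noncomputable abbrev plen (𝒜 : ℤ → AddSubgroup R) [GradedRing 𝒜] {M : Type u} [AddCommGroup M] [Module R M]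
    (ℳ : ℤ → AddSubgroup M) [SetLike.GradedSMul 𝒜 ℳ] (j : ℤ) : ℕ∞ :=
  Module.length (GrLC.deg0 𝒜) (GrLC.comp 𝒜 ℳ j)

/-- Dimensions add along a graded exact sequence. -/
theorem plen_add_of_exact {A B C : Type u} [AddCommGroup A] [Module R A] [AddCommGroup B] [Module R B]
    [AddCommGroup C] [Module R C] {𝒳 : ℤ → AddSubgroup A} [Decomposition 𝒳] [SetLike.GradedSMul 𝒜 𝒳]
    {𝒴 : ℤ → AddSubgroup B} [Decomposition 𝒴] [SetLike.GradedSMul 𝒜 𝒴]
    {𝒵 : ℤ → AddSubgroup C} [Decomposition 𝒵] [SetLike.GradedSMul 𝒜 𝒵]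
    {f : A →ₗ[R] B} {a : ℤ} (hf : IsGrHomDeg 𝒳 𝒴 f a) (hfi : Function.Injective f)
    {g : B →ₗ[R] C} {b : ℤ} (hg : IsGrHomDeg 𝒴 𝒵 g b) (hex : Function.Exact f g)
    (hgs : Function.Surjective g) {i j l : ℤ} (hij : i + a = j) (hjl : j + b = l) :
    plen 𝒜 𝒴 j = plen 𝒜 𝒳 i + plen 𝒜 𝒵 l := by
  subst hij hjl
  refine Module.length_eq_add_of_exact
    ((f.restrictScalars (GrLC.deg0 𝒜)).restrict (p := GrLC.comp 𝒜 𝒳 i) (q := GrLC.comp 𝒜 𝒴 (i + a))
      fun x hx => hf i x hx)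
    ((g.restrictScalars (GrLC.deg0 𝒜)).restrict (p := GrLC.comp 𝒜 𝒴 (i + a))
      (q := GrLC.comp 𝒜 𝒵 (i + a + b)) fun x hx => hg (i + a) x hx)
    (fun x y h => Subtype.ext (hfi (congrArg Subtype.val h))) (fun z => ?_) fun y => ?_
  · obtain ⟨w, hw⟩ := hgs (z : C)
    refine ⟨⟨pr 𝒴 (i + a) w, pr_mem 𝒴 _ w⟩, Subtype.ext ?_⟩
    show g (pr 𝒴 (i + a) w) = (z : C)
    rw [map_pr_deg 𝒴 𝒵 hg, hw, pr_of_mem 𝒵 (show (z : C) ∈ 𝒵 (i + a + b) from z.2)]
  · constructor
    · intro hy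
      obtain ⟨x, hx⟩ := (hex (y : B)).1 (congrArg Subtype.val hy)
      refine ⟨⟨pr 𝒳 i x, pr_mem 𝒳 _ x⟩, Subtype.ext ?_⟩
      show f (pr 𝒳 i x) = (y : B)
      rw [map_pr_deg 𝒳 𝒴 hf, hx, pr_of_mem 𝒴 (show (y : B) ∈ 𝒴 (i + a) from y.2)]
    · rintro ⟨x, rfl⟩
      exact Subtype.ext (hex.apply_apply_eq_zero (x : A))

/-- Finitely generated graded modules have finite-dimensional pieces. -/
theorem plen_ne_top [IsNoetherianRing R] (hpos : ∀ n : ℤ, n < 0 → 𝒜 n = ⊥) (h0 : IsField (GrLC.deg0 𝒜))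
    {M : Type u} [AddCommGroup M] [Module R M] [Module.Finite R M] (ℳ : ℤ → AddSubgroup M)
    [Decomposition ℳ] [SetLike.GradedSMul 𝒜 ℳ] (j : ℤ) : plen 𝒜 ℳ j ≠ ⊤ := by
  haveI := finite_piece hpos ℳ j
  haveI : IsArtinianRing (GrLC.deg0 𝒜) := by
    letI := h0.toField
    exact inferInstance
  haveI : IsNoetherianRing (GrLC.deg0 𝒜) := by
    letI := h0.toField
    exact inferInstance
  haveI : IsFiniteLength (GrLC.deg0 𝒜) (GrLC.comp 𝒜 ℳ j) :=
    isFiniteLength_iff_isNoetherian_isArtinian.2 ⟨inferInstance, inferInstance⟩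
  exact Module.length_ne_top

variable [IsNoetherianRing R] (hpos : ∀ n : ℤ, n < 0 → 𝒜 n = ⊥) (h0 : IsField (GrLC.deg0 𝒜))
  {m : HomogeneousIdeal 𝒜} (hm : IsStarLocal 𝒜 m)
  (hmsp : m.toIdeal = Ideal.span (⋃ n ∈ Set.Ioi (0 : ℤ), (𝒜 n : Set R)))
  (hstd : Ideal.span (⋃ n ∈ Set.Ioi (0 : ℤ), (𝒜 n : Set R)) = Ideal.span ((𝒜 1 : AddSubgroup R) : Set R))

include hpos hstd in
/-- Homogeneous primes missing part of `R₁` are avoided in every large degree. -/
theorem exists_avoid_homogeneous (S : Finset (Ideal R)) (hp : ∀ P ∈ S, P.IsPrime)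
    (hh : ∀ P ∈ S, P.IsHomogeneous 𝒜) (h1 : ∀ P ∈ S, ∃ x ∈ 𝒜 1, x ∉ P) :
    ∃ N : ℕ, ∀ d : ℕ, N ≤ d → ∃ f ∈ 𝒜 (d : ℤ), ∀ P ∈ S, f ∉ P := by
  classical
  induction S using Finset.strongInduction with
  | H S ih =>
    rcases S.eq_empty_or_nonempty with rfl | hne
    · exact ⟨0, fun d _ => ⟨0, zero_mem _, fun P hP => absurd hP (Finset.notMem_empty P)⟩⟩
    obtain ⟨P, hP, hmax⟩ := S.exists_maximal hne
    let S' := S.filter fun Q => ¬ Q ≤ P
    have hS'S : S' ⊂ S := Finset.filter_ssubset.2 ⟨P, hP, fun h => h le_rfl⟩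
    obtain ⟨N, hN⟩ := ih S' hS'S (fun Q hQ => hp Q (Finset.filter_subset _ _ hQ))
      (fun Q hQ => hh Q (Finset.filter_subset _ _ hQ)) (fun Q hQ => h1 Q (Finset.filter_subset _ _ hQ))
    have hex : ∀ Q ∈ S', ∃ (e : ℕ) (h : R), h ∈ 𝒜 (e : ℤ) ∧ h ∈ Q ∧ h ∉ P := by
      intro Q hQ
      obtain ⟨hQS, hQP⟩ := Finset.mem_filter.1 hQ
      obtain ⟨z, hzQ, hzP⟩ := SetLike.not_le_iff_exists.1 hQP
      obtain ⟨s, -, hs⟩ := exists_sum_pr 𝒜 z
      obtain ⟨c, hc⟩ : ∃ c, pr 𝒜 c z ∉ P := by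
        by_contra h
        push Not at h
        exact hzP (hs ▸ sum_mem fun c _ => h c)
      have hc0 : 0 ≤ c := not_lt.1 fun hlt => hc (by
        have h := pr_mem 𝒜 c z
        rw [hpos c hlt, AddSubgroup.mem_bot] at h
        rw [h]
        exact zero_mem _)
      obtain ⟨e, rfl⟩ : ∃ e : ℕ, c = e := ⟨c.toNat, (Int.toNat_of_nonneg hc0).symm⟩
      exact ⟨e, _, pr_mem 𝒜 _ z, hh Q hQS (e : ℤ) hzQ, hc⟩
    choose! e h he hQ hP' using hex
    obtain ⟨x, hx, hxP⟩ := h1 P hP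
    refine ⟨N + ∑ Q ∈ S', e Q, fun d hd => ?_⟩
    obtain ⟨f, hf, hfS⟩ := hN d (by omega)
    have hall : ∀ f' : R, f' ∉ P → (∀ Q ∈ S', f' ∉ Q) → ∀ Q ∈ S, f' ∉ Q := by
      intro f' h1' h2' Q hQS
      by_cases hQP : Q ≤ P
      · exact fun h => h1' (hQP h)
      · exact h2' Q (Finset.mem_filter.2 ⟨hQS, hQP⟩)
    by_cases hfP : f ∈ P
    · refine ⟨f + (∏ Q ∈ S', h Q) * x ^ (d - ∑ Q ∈ S', e Q), add_mem hf ?_, hall _ ?_ ?_⟩
      · have h3 := SetLike.mul_mem_graded (A := 𝒜)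
          (SetLike.prod_mem_graded 𝒜 (fun Q => (e Q : ℤ)) h fun Q hQ => he Q hQ)
          (SetLike.pow_mem_graded (d - ∑ Q ∈ S', e Q) hx)
        rwa [show (∑ Q ∈ S', (e Q : ℤ)) + (d - ∑ Q ∈ S', e Q) • (1 : ℤ) = (d : ℤ) by
          rw [nsmul_eq_mul, mul_one, Nat.cast_sub (by omega), Nat.cast_sum]; ring] at h3
      · intro hmem
        haveI := hp P hP
        rcases (inferInstance : P.IsPrime).mem_or_mem ((add_mem_cancel_left hfP).1 hmem) with h4 | h4
        · obtain ⟨Q, hQS', hQP⟩ := (inferInstance : P.IsPrime).prod_mem_iff.1 h4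
          exact hP' Q hQS' hQP
        · exact hxP ((inferInstance : P.IsPrime).mem_of_pow_mem _ h4)
      · intro Q hQ' hmem
        refine hfS Q hQ' ((add_mem_cancel_right ?_).1 hmem)
        exact Ideal.mul_mem_right _ _ (Ideal.prod_mem Q hQ' (hQ Q hQ'))
    · exact ⟨f, hf, hall f hfP hfS⟩

include hpos hm hmsp hstd in
/-- A graded module of positive depth has regular homogeneous elements in all large degrees. -/
theorem exists_regular_of_large {M : Type u} [AddCommGroup M] [Module R M] [Module.Finite R M]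
    (ℳ : ℤ → AddSubgroup M) [Decomposition ℳ] [SetLike.GradedSMul 𝒜 ℳ]
    (hgam : gam m.toIdeal M = ⊥) :
    ∃ N : ℕ, ∀ d : ℕ, N ≤ d → ∃ f ∈ 𝒜 (d : ℤ), IsSMulRegular M f := by
  classical
  have hfin := associatedPrimes.finite R M
  let S : Finset (Ideal R) := hfin.toFinset.image fun P => core 𝒜 P
  have hS : ∀ Q ∈ S, ∃ P ∈ associatedPrimes R M, core 𝒜 P = Q := fun Q hQ => by
    obtain ⟨P, hP, rfl⟩ := Finset.mem_image.1 hQ
    exact ⟨P, hfin.mem_toFinset.1 hP, rfl⟩
  obtain ⟨N, hN⟩ := exists_avoid_homogeneous hpos hstd S (fun Q hQ => by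
      obtain ⟨P, hP, rfl⟩ := hS Q hQ
      haveI := hP.isPrime
      exact isPrime_core_int 𝒜 P)
    (fun Q hQ => by
      obtain ⟨P, hP, rfl⟩ := hS Q hQ
      exact (P.homogeneousCore 𝒜).isHomogeneous)
    (fun Q hQ => by
      obtain ⟨P, hP, rfl⟩ := hS Q hQ
      by_contra hcon
      push Not at hcon
      obtain ⟨-, w, hw⟩ := isAssociatedPrime_iff.1 hP
      have hle : m.toIdeal ≤ P := (hmsp.trans hstd).le.trans
        ((Ideal.span_le.2 hcon).trans (core_le 𝒜 P))
      have hwg : w ∈ gam m.toIdeal M := ⟨1, fun r hr => by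
        rw [pow_one] at hr
        have := hle hr
        rw [hw, Submodule.mem_colon_singleton, Submodule.mem_bot] at this
        exact this⟩
      rw [hgam, Submodule.mem_bot] at hwg
      refine hP.isPrime.ne_top ?_
      rw [hw, hwg]
      exact (Ideal.eq_top_iff_one _).2 (Submodule.mem_colon_singleton.2 (by simp)))
  refine ⟨N, fun d hd => ?_⟩
  obtain ⟨f, hf, hfS⟩ := hN d hd
  refine ⟨f, hf, ?_⟩
  by_contra hreg
  obtain ⟨v, hv, hv0⟩ : ∃ v : M, f • v = 0 ∧ v ≠ 0 := by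
    by_contra hcon
    push Not at hcon
    exact hreg fun a b hab => sub_eq_zero.1 (hcon _ (by rw [smul_sub, sub_eq_zero]; exact hab))
  obtain ⟨P, hP, hle⟩ := exists_le_isAssociatedPrime_of_isNoetherianRing R v hv0
  exact hfS _ (Finset.mem_image.2 ⟨P, hfin.mem_toFinset.2 hP, rfl⟩)
    (mem_core_of_mem 𝒜 hf (hle (Submodule.mem_colon_singleton.2 (by rw [hv]; exact zero_mem _))))

include hpos hm hmsp hstd in
/-- A graded module supported at `m` lives in boundedly many degrees. -/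
theorem exists_bound_of_supportDim_le_zero {M : Type u} [AddCommGroup M] [Module R M] [Module.Finite R M]
    (ℳ : ℤ → AddSubgroup M) [Decomposition ℳ] [SetLike.GradedSMul 𝒜 ℳ] [m.toIdeal.IsMaximal]
    (hsupp : Module.supportDim R M ≤ ((0 : ℕ) : WithBot ℕ∞)) :
    gam m.toIdeal M = ⊤ ∧ ∃ B : ℤ, ∀ j, B < j → ℳ j = ⊥ := by
  classical
  have hrad : m.toIdeal ≤ (Module.annihilator R M).radical := by
    rw [Ideal.radical_eq_sInf]
    refine le_sInf fun Q hQ => ?_
    haveI := hQ.2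
    have hQs : (⟨Q, hQ.2⟩ : PrimeSpectrum R) ∈ Module.support R M :=
      Module.mem_support_iff_of_finite.2 hQ.1
    haveI := isPrime_core_int 𝒜 Q
    have hcs : (⟨core 𝒜 Q, inferInstance⟩ : PrimeSpectrum R) ∈ Module.support R M := by
      rw [Module.mem_support_iff] at hQs ⊢
      exact core_mem_support 𝒜 ℳ hQs
    have hco := (Groth.LocCohBase.supportDim_le_iff M 0).1 hsupp _ hcs
    have hmax : IsMax (⟨core 𝒜 Q, inferInstance⟩ : PrimeSpectrum R) :=
      Order.coheight_eq_zero.1 (le_antisymm (by exact_mod_cast hco) bot_le)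
    have hcm : core 𝒜 Q ≤ m.toIdeal :=
      le_of_isStarLocal 𝒜 hm (Q.homogeneousCore 𝒜).isHomogeneous (isPrime_core_int 𝒜 Q).ne_top
    exact le_trans (hmax (show (⟨core 𝒜 Q, inferInstance⟩ : PrimeSpectrum R) ≤ ⟨m.toIdeal, inferInstance⟩
      from hcm)) (core_le 𝒜 Q)
  obtain ⟨t, ht⟩ := Ideal.exists_pow_le_of_le_radical_of_fg hrad (IsNoetherian.noetherian m.toIdeal)
  refine ⟨eq_top_iff.2 fun x _ => ⟨t, fun r hr => Module.mem_annihilator.1 (ht hr) x⟩, ?_⟩
  obtain ⟨T, hT⟩ := Module.Finite.fg_top (R := R) (M := M)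
  let D : Finset ℤ := T.biUnion fun s => (decompose ℳ s).support
  obtain ⟨b, hb⟩ : ∃ b : ℤ, ∀ d ∈ D, d ≤ b := D.bddAbove
  refine ⟨b + t, fun j hj => eq_bot_iff.2 fun w hw => AddSubgroup.mem_bot.2 ?_⟩
  rw [← pr_of_mem ℳ hw]
  suffices key : ∀ z ∈ Submodule.span R (T : Set M), ∀ r : R, pr ℳ j (r • z) = 0 by
    simpa using key w (hT ▸ Submodule.mem_top) 1
  intro z hz
  induction hz using Submodule.span_induction with
  | mem s hs =>
    intro r
    rw [← sum_support_decompose ℳ s, Finset.smul_sum, map_sum]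
    refine Finset.sum_eq_zero fun d hd => ?_
    rw [pr_smul_of_mem 𝒜 ℳ (decompose ℳ s d).2]
    have hdb := hb d (Finset.mem_biUnion.2 ⟨s, hs, hd⟩)
    refine Module.mem_annihilator.1 (ht ?_) _
    obtain ⟨k, hk⟩ : ∃ k : ℕ, j - d = k := ⟨(j - d).toNat, (Int.toNat_of_nonneg (by omega)).symm⟩
    refine Ideal.pow_le_pow_right (show t ≤ k by omega) ?_
    have hpow : ∀ (k : ℕ) {z : R}, z ∈ 𝒜 (k : ℤ) → z ∈ m.toIdeal ^ k := by
      intro k
      induction k with
      | zero => intro z _; rw [pow_zero, Ideal.one_eq_top]; exact Submodule.mem_top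
      | succ k ih =>
        intro z hz
        refine AddSubgroup.closure_induction (p := fun z _ => z ∈ m.toIdeal ^ (k + 1)) (fun w hw => ?_)
          (zero_mem _) (fun a c _ _ ha hc => add_mem ha hc) (fun a _ ha => neg_mem ha)
          (mem_prodClosure_one 𝒜 hstd (Int.natCast_nonneg k) (by rwa [Nat.cast_succ] at hz))
        obtain ⟨y, hy, s, hs, rfl⟩ := hw
        rw [pow_succ]
        exact Ideal.mul_mem_mul (ih hy) ((hmsp.trans hstd).ge (Ideal.subset_span hs))
    exact hpow k (hk ▸ (decompose 𝒜 r (j - d)).2)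
  | zero => intro r; rw [smul_zero, map_zero]
  | add a c _ _ ha hc => intro r; rw [smul_add, map_add, ha r, hc r, add_zero]
  | smul c a _ ha => intro r; rw [smul_smul]; exact ha _

/-- The shift of functions `ℤ → ℤ`. -/
def shiftEnd : Module.End ℤ (ℤ → ℤ) where
  toFun f j := f (j - 1)
  map_add' _ _ := rfl
  map_smul' _ _ := rfl

theorem shiftEnd_pow_apply (d : ℕ) (f : ℤ → ℤ) (j : ℤ) : (shiftEnd ^ d) f j = f (j - d) := by
  induction d generalizing j with
  | zero => simp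
  | succ d ih =>
    rw [pow_succ', Module.End.mul_apply]
    show (shiftEnd ^ d) f (j - 1) = _
    rw [ih]
    congr 1
    push_cast
    ring

variable {M : Type u} [AddCommGroup M] [Module R M] {ℳ : ℤ → AddSubgroup M} [Decomposition ℳ]
  [SetLike.GradedSMul 𝒜 ℳ]

/-- `dim M_j - (-1)^k dim H^k_m(M)_j`. -/
noncomputable def delta (E : StarInjRes 𝒜 ℳ) (m : HomogeneousIdeal 𝒜) (k : ℕ) : ℤ → ℤ := fun j =>
  ((plen 𝒜 ℳ j).toNat : ℤ) - (-1) ^ k * ((Module.length (GrLC.deg0 𝒜) (E.Hcomp m k j)).toNat : ℤ)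

omit [IsNoetherianRing R] in
theorem length_Hcomp (E : StarInjRes 𝒜 ℳ) (k : ℕ) (j : ℤ) [SetLike.GradedSMul 𝒜 (E.Hgr m k)] :
    Module.length (GrLC.deg0 𝒜) (E.Hcomp m k j) = plen 𝒜 (E.Hgr m k) j := rfl

include hpos h0 hm hmsp hstd in
/-- The main recursion: finiteness, boundedness, and the operators killing `delta`. -/
theorem delta_killed [m.toIdeal.IsMaximal] (k : ℕ) :
    ∀ (M : Type u) [AddCommGroup M] [Module R M] [Module.Finite R M] (ℳ : ℤ → AddSubgroup M)
      [Decomposition ℳ] [SetLike.GradedSMul 𝒜 ℳ] (E : StarInjRes 𝒜 ℳ),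
      Module.supportDim R M ≤ (k : WithBot ℕ∞) → (∀ i < k, Subsingleton (E.H m i)) →
      (∀ j, Module.length (GrLC.deg0 𝒜) (E.Hcomp m k j) ≠ ⊤) ∧
      (∃ B, ∀ j, B < j → E.Hgr m k j = ⊥) ∧
      ∀ P : ℕ, 0 < P → ∃ ds : List ℕ, ds.length = k ∧ (∀ d ∈ ds, 0 < d ∧ Nat.Coprime d P) ∧
        aeval shiftEnd ((ds.map fun d => (X : ℤ[X]) ^ d - 1).prod) (delta E m k) = 0 := by
  classical
  induction k with
  | zero =>
    intro M _ _ _ ℳ _ _ E hsupp _
    obtain ⟨htop, B, hB⟩ := exists_bound_of_supportDim_le_zero hpos hm hmsp hstd ℳ hsupp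
    letI := (Hgr_isInternal 𝒜 ℳ E m 0).chooseDecomposition
    haveI := Hgr_gradedSMul 𝒜 E m 0
    have hmem : ∀ x, E.ε x ∈ E.cocyc m 0 := fun x =>
      ⟨map_gam _ _ (htop ▸ Submodule.mem_top), E.exact_zero.ge ⟨x, rfl⟩⟩
    let ψ : M →ₗ[R] E.H m 0 := (E.toH m 0) ∘ₗ E.ε.codRestrict (E.cocyc m 0) hmem
    have hψi : Function.Injective ψ := (injective_iff_map_eq_zero ψ).2 fun x hx =>
      E.ε_injective ((show E.ε x = 0 from (Submodule.Quotient.mk_eq_zero _).1 hx).trans (map_zero E.ε).symm)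
    have hψs : Function.Surjective ψ := fun w => by
      obtain ⟨⟨w, hw⟩, rfl⟩ := Submodule.mkQ_surjective _ w
      obtain ⟨x, hx⟩ := E.exact_zero.le hw.2
      exact ⟨x, congrArg (E.toH m 0) (Subtype.ext hx)⟩
    have hψd : IsGrHomDeg ℳ (E.Hgr m 0) ψ 0 := fun j x hx => by
      rw [add_zero]
      exact ⟨⟨E.ε x, hmem x⟩, E.ε_grHom j x hx, rfl⟩
    have hlen : ∀ j, plen 𝒜 (E.Hgr m 0) j = plen 𝒜 ℳ j := fun j => by
      refine (LinearEquiv.length_eq (LinearEquiv.ofBijective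
        ((ψ.restrictScalars (GrLC.deg0 𝒜)).restrict (p := GrLC.comp 𝒜 ℳ j)
          (q := GrLC.comp 𝒜 (E.Hgr m 0) j) fun x hx => by show ψ x ∈ E.Hgr m 0 j; simpa using hψd j x hx)
        ⟨fun a b h => Subtype.ext (hψi (congrArg Subtype.val h)), fun w => ?_⟩)).symm
      obtain ⟨x, hx⟩ := hψs (w : E.H m 0)
      refine ⟨⟨pr ℳ j x, pr_mem ℳ j x⟩, Subtype.ext ?_⟩
      show ψ (pr ℳ j x) = (w : E.H m 0)
      rw [map_pr_deg ℳ (E.Hgr m 0) hψd, hx, add_zero,
        pr_of_mem _ (show (w : E.H m 0) ∈ E.Hgr m 0 j from w.2)]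
    refine ⟨fun j => ?_, ⟨B, fun j hj => ?_⟩, fun P _ => ⟨[], rfl, fun d hd => absurd hd List.not_mem_nil, ?_⟩⟩
    · rw [length_Hcomp, hlen]
      exact plen_ne_top hpos h0 ℳ j
    · rw [eq_bot_iff]
      intro w hw
      obtain ⟨x, rfl⟩ := hψs w
      rw [← pr_of_mem _ hw, show j = j + 0 from (add_zero j).symm, ← map_pr_deg ℳ (E.Hgr m 0) hψd]
      have h := pr_mem ℳ j x
      rw [hB j hj, AddSubgroup.mem_bot] at h
      rw [h, map_zero]
      exact zero_mem _
    · rw [List.map_nil, List.prod_nil, map_one, Module.End.one_apply]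
      funext j
      show ((plen 𝒜 ℳ j).toNat : ℤ) - (-1) ^ 0 * ((Module.length (GrLC.deg0 𝒜) (E.Hcomp m 0 j)).toNat : ℤ) = 0
      rw [length_Hcomp, hlen, pow_zero, one_mul, sub_self]
  | succ k ih =>
    intro M _ _ _ ℳ _ _ E hsupp hvan
    have hgam : gam m.toIdeal M = ⊥ := by
      rw [eq_bot_iff]
      intro x hx
      haveI := hvan 0 (Nat.succ_pos k)
      have hmem : E.ε x ∈ E.cocyc m 0 := ⟨map_gam _ _ hx, E.exact_zero.ge ⟨x, rfl⟩⟩
      have h1 : E.toH m 0 ⟨E.ε x, hmem⟩ = 0 := Subsingleton.elim _ _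
      rw [Submodule.mem_bot]
      exact E.ε_injective ((show E.ε x = 0 from (Submodule.Quotient.mk_eq_zero _).1 h1).trans (map_zero E.ε).symm)
    obtain ⟨N₀, hN₀⟩ := exists_regular_of_large hpos hm hmsp hstd ℳ hgam
    -- the step for one regular element
    have step : ∀ (d : ℕ), 0 < d → ∀ f ∈ 𝒜 (d : ℤ), IsSMulRegular M f →
        (∀ j, Module.length (GrLC.deg0 𝒜) (E.Hcomp m (k + 1) j) ≠ ⊤) ∧
        (∃ B, ∀ j, B < j → E.Hgr m (k + 1) j = ⊥) ∧
        ∀ P : ℕ, 0 < P → Nat.Coprime d P → ∃ ds : List ℕ, ds.length = k + 1 ∧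
          (∀ e ∈ ds, 0 < e ∧ Nat.Coprime e P) ∧
          aeval shiftEnd ((ds.map fun d => (X : ℤ[X]) ^ d - 1).prod) (delta E m (k + 1)) = 0 := by
      intro d hd f hf hreg
      have hfm : f ∈ m.toIdeal :=
        hmsp.ge (Ideal.subset_span (Set.mem_biUnion (Set.mem_Ioi.2 (by exact_mod_cast hd)) hf))
      let W : Submodule R M := LinearMap.range (LinearMap.lsmul R M f)
      have hW : W.IsHomogeneous ℳ := by
        rintro g _ ⟨w, rfl⟩
        exact ⟨pr ℳ (g - d) w, (pr_smul ℳ 𝒜 hf g w).symm⟩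
      letI := (quotPc_isInternal ℳ hW).chooseDecomposition
      haveI := quotPc_gradedSMul 𝒜 ℳ W
      let EN : StarInjRes 𝒜 (quotPc ℳ W) := starRes 𝒜 (quotPc ℳ W)
      have hseq := exists_regular_seq E EN m hf hreg W.mkQ (mkQ_isGrHom ℳ W) (Submodule.mkQ_surjective W)
        (Submodule.ker_mkQ W)
      have hsuppN : Module.supportDim R (M ⧸ W) ≤ (k : WithBot ℕ∞) := by
        have hWeq : W = f • (⊤ : Submodule R M) := by
          ext z
          rw [Submodule.mem_smul_pointwise_iff_exists]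
          exact ⟨fun ⟨w, hw⟩ => ⟨w, Submodule.mem_top, hw⟩, fun ⟨w, _, hw⟩ => ⟨w, hw⟩⟩
        rw [Module.supportDim_eq_of_equiv (Submodule.quotEquivOfEq W _ hWeq)]
        have h := Module.supportDim_quotSMulTop_succ_le_of_notMem_minimalPrimes (M := M) (x := f)
          fun p hp hfp => by
            have hass := Module.associatedPrimes.minimalPrimes_annihilator_subset_associatedPrimes R M hp
            obtain ⟨-, w, hw⟩ := isAssociatedPrime_iff.1 hass
            rw [hw, Submodule.mem_colon_singleton, Submodule.mem_bot] at hfp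
            have hw0 : w = 0 := hreg (show f • w = f • (0 : M) by rw [hfp, smul_zero])
            refine hass.isPrime.ne_top ?_
            rw [hw, hw0]
            exact (Ideal.eq_top_iff_one _).2 (Submodule.mem_colon_singleton.2 (by simp))
        have h' := h.trans hsupp
        revert h'
        cases Module.supportDim R (QuotSMulTop f M) with
        | bot => exact fun _ => bot_le
        | coe c =>
          intro h'
          have h2 : c + 1 ≤ (k : ℕ∞) + 1 := WithBot.coe_le_coe.1 (by exact_mod_cast h')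
          exact WithBot.coe_le_coe.2 ((ENat.add_le_add_iff_right (by simp)).1 h2)
      have hvanN : ∀ i < k, Subsingleton (EN.H m i) := fun i hi => by
        obtain ⟨p, δ, -, -, -, hpδ, -, -⟩ := hseq i
        haveI := hvan i (by omega)
        haveI := hvan (i + 1) (by omega)
        refine subsingleton_of_forall_eq 0 fun z => ?_
        obtain ⟨w, rfl⟩ := (hpδ z).1 (Subsingleton.elim _ _)
        rw [Subsingleton.elim w 0, map_zero]
      obtain ⟨hfinN, ⟨B, hB⟩, hopN⟩ := ih (M ⧸ W) (quotPc ℳ W) EN hsuppN hvanN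
      obtain ⟨p, δ, -, hδd, -, hpδ, hδx, -⟩ := hseq k
      letI := (Hgr_isInternal 𝒜 ℳ E m (k + 1)).chooseDecomposition
      haveI := Hgr_gradedSMul 𝒜 E m (k + 1)
      letI := (Hgr_isInternal 𝒜 (quotPc ℳ W) EN m k).chooseDecomposition
      haveI := Hgr_gradedSMul 𝒜 EN m k
      have hδi : Function.Injective δ := (injective_iff_map_eq_zero δ).2 fun z hz => by
        haveI := hvan k (Nat.lt_succ_self k)
        obtain ⟨w, rfl⟩ := (hpδ z).1 hz
        rw [Subsingleton.elim w 0, map_zero]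
      let mulf : E.H m (k + 1) →ₗ[R] E.H m (k + 1) := LinearMap.lsmul R _ f
      have hmulf : IsGrHomDeg (E.Hgr m (k + 1)) (E.Hgr m (k + 1)) mulf (d : ℤ) := fun j z hz => by
        rw [add_comm j (d : ℤ)]
        exact smul_mem (E.Hgr m (k + 1)) 𝒜 hf hz
      have hfsurj : Function.Surjective mulf := by
        obtain ⟨p', δ', -, -, hxp', hpδ', -, -⟩ := hseq (k + 1)
        haveI : Subsingleton (EN.H m (k + 1)) := by
          obtain ⟨e⟩ := nonempty_H_equiv 𝒜 (quotPc ℳ W) m EN (k + 1)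
          haveI := Groth.LocCohBase.subsingleton_H_of_supportDim_lt m.toIdeal (M ⧸ W) (i := k + 1)
            (lt_of_le_of_lt hsuppN (by exact_mod_cast Nat.lt_succ_self k))
          exact e.toEquiv.subsingleton
        exact fun z => (hxp' z).1 (Subsingleton.elim _ _)
      have hlenH : ∀ j, plen 𝒜 (E.Hgr m (k + 1)) (j - d) =
          plen 𝒜 (EN.Hgr m k) j + plen 𝒜 (E.Hgr m (k + 1)) j := fun j =>
        plen_add_of_exact hδd hδi hmulf hδx hfsurj (sub_eq_add_neg j (d : ℤ)).symm (sub_add_cancel j (d : ℤ))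
      let mulM : M →ₗ[R] M := LinearMap.lsmul R M f
      have hmulM : IsGrHomDeg ℳ ℳ mulM (d : ℤ) := fun j z hz => by
        rw [add_comm]
        exact smul_mem ℳ 𝒜 hf hz
      have hmkQ : IsGrHomDeg ℳ (quotPc ℳ W) W.mkQ 0 := fun j z hz => by
        rw [add_zero]; exact mkQ_isGrHom ℳ W j z hz
      have hlenM : ∀ j, plen 𝒜 ℳ j = plen 𝒜 ℳ (j - d) + plen 𝒜 (quotPc ℳ W) j := fun j =>
        plen_add_of_exact hmulM hreg hmkQ (LinearMap.exact_map_mkQ_range mulM) (Submodule.mkQ_surjective W)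
          (sub_add_cancel j (d : ℤ)) (add_zero j)
      have hbound : ∀ j, B - d < j → E.Hgr m (k + 1) j = ⊥ := by
        intro j hj
        rw [eq_bot_iff]
        intro z hz
        refine AddSubgroup.mem_bot.2 ?_
        have hinjf : ∀ (i : ℤ), B - d < i → ∀ y ∈ E.Hgr m (k + 1) i, f • y = 0 → y = 0 := by
          intro i hi y hy hfy
          obtain ⟨w, rfl⟩ := (hδx y).1 hfy
          have h2 := map_pr_deg (EN.Hgr m k) (E.Hgr m (k + 1)) hδd (i + d) w
          rw [add_neg_cancel_right, pr_of_mem _ hy] at h2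
          have h3 := pr_mem (EN.Hgr m k) (i + d) w
          rw [hB (i + d) (by omega), AddSubgroup.mem_bot] at h3
          rw [← h2, h3, map_zero]
        obtain ⟨t, ht⟩ := isPowerTorsion_Hrep E m (k + 1) z
        have hzero := ht _ (Ideal.pow_mem_pow hfm t)
        clear ht
        induction t generalizing z j with
        | zero => rwa [pow_zero, one_smul] at hzero
        | succ t iht =>
          refine hinjf j hj z hz (iht (j + d) (by omega) (hmulf j z hz) ?_)
          rwa [← mul_smul, ← pow_succ]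
      have hfinH : ∀ j, plen 𝒜 (E.Hgr m (k + 1)) j ≠ ⊤ := by
        intro j
        obtain ⟨t, ht⟩ : ∃ t : ℕ, B - d < j + t * d :=
          ⟨(B - d - j).toNat + 1, by
            have h1 : (B - (d : ℤ) - j) ≤ ((B - d - j).toNat : ℤ) := Int.self_le_toNat _
            have h2 : ((B - d - j).toNat : ℤ) + 1 ≤ (((B - d - j).toNat + 1 : ℕ) : ℤ) * d := by
              push_cast
              exact le_mul_of_one_le_right (by positivity) (by exact_mod_cast hd)
            omega⟩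
        induction t generalizing j with
        | zero =>
          rw [Nat.cast_zero, zero_mul, add_zero] at ht
          haveI : Subsingleton (GrLC.comp 𝒜 (E.Hgr m (k + 1)) j) := subsingleton_of_forall_eq 0
            fun y => Subtype.ext (AddSubgroup.mem_bot.1 (hbound j ht ▸ y.2))
          rw [plen, Module.length_eq_zero_iff.2 inferInstance]
          simp
        | succ t iht =>
          have h := hlenH (j + d)
          rw [add_sub_cancel_right] at h
          rw [h]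
          refine WithTop.add_ne_top.2 ⟨?_, iht (j + d) (by push_cast at ht; linarith)⟩
          exact hfinN _
      refine ⟨fun j => hfinH j, ⟨B - d, hbound⟩, fun P hP hcop => ?_⟩
      obtain ⟨ds, hlen, hds, hop⟩ := hopN P hP
      refine ⟨d :: ds, by rw [List.length_cons, hlen], List.forall_mem_cons.2 ⟨⟨hd, hcop⟩, hds⟩, ?_⟩
      have hΔ : aeval shiftEnd ((X : ℤ[X]) ^ d - 1) (delta E m (k + 1)) = -delta EN m k := by
        funext j
        rw [map_sub, map_pow, aeval_X, map_one, LinearMap.sub_apply, Module.End.one_apply, Pi.sub_apply,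
          shiftEnd_pow_apply, Pi.neg_apply]
        simp only [delta]
        have e1 : (plen 𝒜 (E.Hgr m (k + 1)) (j - d)).toNat =
            (plen 𝒜 (EN.Hgr m k) j).toNat + (plen 𝒜 (E.Hgr m (k + 1)) j).toNat := by
          rw [hlenH j]
          exact ENat.toNat_add (hfinN j) (hfinH j)
        rw [length_Hcomp, length_Hcomp, length_Hcomp]
        have e2 : (plen 𝒜 ℳ j).toNat = (plen 𝒜 ℳ (j - d)).toNat + (plen 𝒜 (quotPc ℳ W) j).toNat := by
          rw [hlenM j, ENat.toNat_add (plen_ne_top hpos h0 ℳ _) (plen_ne_top hpos h0 (quotPc ℳ W) j)]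
        rw [e1, e2, pow_succ]
        push_cast
        ring
      rw [List.map_cons, List.prod_cons, mul_comm, map_mul, Module.End.mul_apply, hΔ, map_neg, hop, neg_zero]
    refine ⟨?_, ?_, fun P hP => ?_⟩
    · obtain ⟨f, hf, hreg⟩ := hN₀ (N₀ + 1) (Nat.le_succ _)
      exact (step _ (Nat.succ_pos _) f hf hreg).1
    · obtain ⟨f, hf, hreg⟩ := hN₀ (N₀ + 1) (Nat.le_succ _)
      exact (step _ (Nat.succ_pos _) f hf hreg).2.1
    · obtain ⟨d, hd, hdp⟩ := Nat.exists_infinite_primes (N₀ + P + 1)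
      obtain ⟨f, hf, hreg⟩ := hN₀ d (by omega)
      refine (step d hdp.pos f hf hreg).2.2 P hP ((Nat.Prime.coprime_iff_not_dvd hdp).2 fun h => ?_)
      have := Nat.le_of_dvd hP h
      omega

/-- Cyclotomic-free coprimality: two such products only share powers of `X - 1`. -/
theorem isCoprime_geom_sum {d e : ℕ} (hd : 0 < d) (he : 0 < e) (h : Nat.Coprime d e) :
    IsCoprime (∑ i ∈ Finset.range d, (X : ℤ[X]) ^ i) (∑ i ∈ Finset.range e, (X : ℤ[X]) ^ i) := by
  obtain ⟨a, b, hab⟩ : ∃ a b : ℕ, d * a = e * b + 1 := by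
    rcases Nat.lt_or_ge 1 e with he1 | he1
    · obtain ⟨a, ha⟩ := Nat.exists_mul_mod_eq_one_of_coprime h he1
      exact ⟨a, d * a / e, by have := Nat.div_add_mod (d * a) e; omega⟩
    · obtain rfl : e = 1 := by omega
      exact ⟨1, d - 1, by omega⟩
  obtain ⟨u, hu⟩ := sub_dvd_pow_sub_pow ((X : ℤ[X]) ^ d) 1 a
  obtain ⟨v, hv⟩ := sub_dvd_pow_sub_pow ((X : ℤ[X]) ^ e) 1 b
  rw [one_pow, ← pow_mul] at hu hv
  refine ⟨u, -(X * v), mul_left_cancel₀ (sub_ne_zero.2 (X_ne_C (1 : ℤ))) ?_⟩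
  have h1 : ((X : ℤ[X]) - 1) * ∑ i ∈ Finset.range d, (X : ℤ[X]) ^ i = X ^ d - 1 := mul_geom_sum X d
  have h2 : ((X : ℤ[X]) - 1) * ∑ i ∈ Finset.range e, (X : ℤ[X]) ^ i = X ^ e - 1 := mul_geom_sum X e
  rw [map_one]
  linear_combination u * h1 - X * v * h2 - hu + X * hv + congrArg (fun n => (X : ℤ[X]) ^ n) hab + pow_succ (X : ℤ[X]) (e * b)

include hpos h0 hm hmsp hstd in
/-- `(S - 1)^k` kills `delta`. -/
theorem delta_killed_pow [m.toIdeal.IsMaximal] (k : ℕ) (M : Type u) [AddCommGroup M] [Module R M]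
    [Module.Finite R M] (ℳ : ℤ → AddSubgroup M) [Decomposition ℳ] [SetLike.GradedSMul 𝒜 ℳ]
    (E : StarInjRes 𝒜 ℳ) (hsupp : Module.supportDim R M ≤ (k : WithBot ℕ∞))
    (hvan : ∀ i < k, Subsingleton (E.H m i)) :
    aeval shiftEnd (((X : ℤ[X]) - 1) ^ k) (delta E m k) = 0 := by
  obtain ⟨-, -, hop⟩ := delta_killed hpos h0 hm hmsp hstd k M ℳ E hsupp hvan
  obtain ⟨ds, hdl, hds, hd0⟩ := hop 1 one_pos
  obtain ⟨es, hel, hes, he0⟩ := hop ds.prod
    (List.prod_pos fun d hd => (hds d hd).1)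
  have hfac : ∀ l : List ℕ, (l.map fun d => (X : ℤ[X]) ^ d - 1).prod =
      ((X : ℤ[X]) - 1) ^ l.length * (l.map fun d => ∑ i ∈ Finset.range d, (X : ℤ[X]) ^ i).prod := by
    intro l
    induction l with
    | nil => simp
    | cons a l ih =>
      rw [List.map_cons, List.prod_cons, ih, List.map_cons, List.prod_cons, List.length_cons,
        ← mul_geom_sum, pow_succ]
      ring
  have hcop : ∀ d : ℕ, 0 < d → ∀ es : List ℕ, (∀ e ∈ es, 0 < e ∧ Nat.Coprime d e) →
      IsCoprime (∑ i ∈ Finset.range d, (X : ℤ[X]) ^ i)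
        (es.map fun d => ∑ i ∈ Finset.range d, (X : ℤ[X]) ^ i).prod := by
    intro d hd es hes
    induction es with
    | nil => simpa using isCoprime_one_right
    | cons a l ih =>
      rw [List.map_cons, List.prod_cons]
      exact (isCoprime_geom_sum hd (hes a List.mem_cons_self).1 (hes a List.mem_cons_self).2).mul_right
        (ih fun e he => hes e (List.mem_cons_of_mem _ he))
  have hall : ∀ l : List ℕ, (∀ d ∈ l, 0 < d ∧ d ∣ ds.prod) →
      IsCoprime (l.map fun d => ∑ i ∈ Finset.range d, (X : ℤ[X]) ^ i).prod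
        (es.map fun d => ∑ i ∈ Finset.range d, (X : ℤ[X]) ^ i).prod := by
    intro l hl
    induction l with
    | nil => simpa using isCoprime_one_left
    | cons a l ih =>
      rw [List.map_cons, List.prod_cons]
      exact (hcop a (hl a List.mem_cons_self).1 es fun e he =>
        ⟨(hes e he).1, ((hes e he).2.coprime_dvd_right (hl a List.mem_cons_self).2).symm⟩).mul_left
        (ih fun e he => hl e (List.mem_cons_of_mem _ he))
  obtain ⟨u, v, huv⟩ := hall ds fun d hd => ⟨(hds d hd).1, List.dvd_prod hd⟩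
  rw [show ((X : ℤ[X]) - 1) ^ k = u * (ds.map fun d => (X : ℤ[X]) ^ d - 1).prod +
      v * (es.map fun d => (X : ℤ[X]) ^ d - 1).prod by
    rw [hfac, hfac, hdl, hel]
    linear_combination -((X : ℤ[X]) - 1) ^ k * huv,
    map_add, map_mul, map_mul, LinearMap.add_apply, Module.End.mul_apply, Module.End.mul_apply, hd0, he0,
    map_zero, map_zero, add_zero]

end GrothGr
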