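import Groth.Agent.GrMod.Step
import Groth.Agent.GrMod.Hgr
import Groth.Agent.GrMod.Res
import Groth.Agent.GrMod.StarLocal
import Groth.Agent.LocCohTransform.Acyclic

/-!
# Dévissage for graded local cohomology: degree zero, and killing torsion

Helper library (no milestone statements here).
-/

universe u

open DirectSum GrLC

namespace GrothGr

variable {ι : Type} [AddCommGroup ι] [DecidableEq ι]
variable {R : Type u} [CommRing R] {𝒜 : ι → AddSubgroup R} [GradedRing 𝒜]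
variable {M : Type u} [AddCommGroup M] [Module R M] {ℳ : ι → AddSubgroup M} [Decomposition ℳ]
  [SetLike.GradedSMul 𝒜 ℳ]

/-- `H⁰ = Γ`, degree by degree. -/
theorem exists_H_zero_equiv (E : StarInjRes 𝒜 ℳ) (a : HomogeneousIdeal 𝒜) :
    ∃ e : gam a.toIdeal M ≃ₗ[R] E.H a 0,
      IsGrHom (subPc ℳ (gam a.toIdeal M)) (E.Hgr a 0) e.toLinearMap := by
  have hmem : ∀ x : gam a.toIdeal M, E.ε x ∈ E.cocyc a 0 := fun x =>
    ⟨map_gam _ _ x.2, E.exact_zero.ge ⟨x, rfl⟩⟩
  let ψ : gam a.toIdeal M →ₗ[R] E.H a 0 :=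
    (E.toH a 0) ∘ₗ (E.ε ∘ₗ (gam a.toIdeal M).subtype).codRestrict (E.cocyc a 0) hmem
  have hψi : Function.Injective ψ := (injective_iff_map_eq_zero ψ).2 fun x hx =>
    Subtype.ext (E.ε_injective
      ((show E.ε x = 0 from (Submodule.Quotient.mk_eq_zero _).1 hx).trans (map_zero E.ε).symm))
  have hψs : Function.Surjective ψ := fun w => by
    obtain ⟨⟨w, hw⟩, rfl⟩ := Submodule.mkQ_surjective _ w
    obtain ⟨x, hx⟩ := E.exact_zero.le hw.2
    have hxg : x ∈ gam a.toIdeal M := by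
      obtain ⟨n, hn⟩ := hw.1
      refine ⟨n, fun r hr => E.ε_injective ?_⟩
      rw [map_smul, hx, map_zero]
      exact hn r hr
    exact ⟨⟨x, hxg⟩, congrArg (E.toH a 0) (Subtype.ext hx)⟩
  exact ⟨LinearEquiv.ofBijective ψ ⟨hψi, hψs⟩, fun j x hx =>
    ⟨⟨E.ε x, hmem x⟩, E.ε_grHom j x hx, rfl⟩⟩

variable [IsNoetherianRing R]

theorem subsingleton_Hrep_of_torsion {T : Type u} [AddCommGroup T] [Module R T]
    {𝒯 : ι → AddSubgroup T} [Decomposition 𝒯] [SetLike.GradedSMul 𝒜 𝒯] (E : StarInjRes 𝒜 𝒯)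
    (a : HomogeneousIdeal 𝒜) (hT : gam a.toIdeal T = ⊤) (i : ℕ) :
    Subsingleton (E.H a (i + 1)) := by
  obtain ⟨e⟩ := nonempty_H_equiv 𝒜 𝒯 a E (i + 1)
  haveI := Groth.LocCohTransform.subsingleton_H_of_isPowerTorsion (I := a.toIdeal) T
    (fun x => (hT.ge (Submodule.mem_top (x := x)) :)) (Nat.succ_pos i)
  exact e.toEquiv.subsingleton

/-- `M / Γ_a M` has no `a`-torsion. -/
theorem gam_quot_gam (a : Ideal R) : gam a (M ⧸ gam a M) = ⊥ := by
  rw [eq_bot_iff]
  intro z hz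
  obtain ⟨x, rfl⟩ := Submodule.mkQ_surjective _ z
  obtain ⟨n, hn⟩ := hz
  obtain ⟨s, hs⟩ := IsNoetherian.noetherian (a ^ n)
  classical
  have hgen : ∀ g ∈ s, ∃ k : ℕ, ∀ r ∈ a ^ k, r • g • x = 0 := fun g hg =>
    (Submodule.Quotient.mk_eq_zero _).1
      ((Submodule.Quotient.mk_smul _ g x).trans (hn g (hs.le (Submodule.subset_span hg))))
  choose! k hk using hgen
  rw [Submodule.mem_bot, Submodule.mkQ_apply, Submodule.Quotient.mk_eq_zero]
  refine ⟨n + s.sum k, fun r hr => ?_⟩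
  rw [pow_add] at hr
  refine Submodule.mul_induction_on hr (fun p hp q hq => ?_) fun p q hp hq => by
    rw [add_smul, hp, hq, add_zero]
  rw [← hs] at hp
  induction hp using Submodule.span_induction with
  | mem g hg =>
    rw [mul_comm, mul_smul]
    exact hk g hg q (Ideal.pow_le_pow_right (Finset.single_le_sum (fun _ _ => Nat.zero_le _) hg) hq)
  | zero => rw [zero_mul, zero_smul]
  | add u v _ _ hu hv => rw [add_mul, add_smul, hu, hv, add_zero]
  | smul c u _ hu => rw [smul_eq_mul, mul_assoc, mul_smul, hu, smul_zero]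

/-- Higher local cohomology does not see `Γ_a M`. -/
theorem exists_H_equiv_quot_gam (a : HomogeneousIdeal 𝒜)
    [Decomposition (quotPc ℳ (gam a.toIdeal M))]
    [SetLike.GradedSMul 𝒜 (quotPc ℳ (gam a.toIdeal M))] (E : StarInjRes 𝒜 ℳ)
    (EQ : StarInjRes 𝒜 (quotPc ℳ (gam a.toIdeal M))) (i : ℕ) :
    ∃ ψ : E.H a (i + 1) ≃ₗ[R] EQ.H a (i + 1),
      IsGrHom (E.Hgr a (i + 1)) (EQ.Hgr a (i + 1)) ψ.toLinearMap := by
  have hhom : (gam a.toIdeal M).IsHomogeneous ℳ := isHomogeneous_gam 𝒜 ℳ a.isHomogeneous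
  letI := (subPc_isInternal ℳ hhom).chooseDecomposition
  haveI := subPc_gradedSMul 𝒜 ℳ (gam a.toIdeal M)
  let EW := starRes 𝒜 (subPc ℳ (gam a.toIdeal M))
  obtain ⟨H⟩ := nonempty_horse (gam a.toIdeal M).subtype (gam a.toIdeal M).mkQ EW EQ (subtype_isGrHom ℳ (gam a.toIdeal M)) Subtype.val_injective
    (mkQ_isGrHom ℳ (gam a.toIdeal M)) (Submodule.mkQ_surjective (gam a.toIdeal M)) (by rw [Submodule.ker_mkQ, Submodule.range_subtype])
  have hex : LinearMap.ker (gam a.toIdeal M).mkQ = LinearMap.range (gam a.toIdeal M).subtype := by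
    rw [Submodule.ker_mkQ, Submodule.range_subtype]
  let EB := H.res (mkQ_isGrHom ℳ (gam a.toIdeal M)) hex (Submodule.mkQ_surjective (gam a.toIdeal M))
  obtain ⟨ψ, hψ⟩ := exists_H_equiv E EB a (i + 1)
  have htop : gam a.toIdeal (gam a.toIdeal M) = ⊤ := eq_top_iff.2 fun x _ => by
    obtain ⟨n, hn⟩ := x.2
    exact ⟨n, fun r hr => Subtype.ext (hn r hr)⟩
  have hsub : ∀ k, Subsingleton (EW.H a (k + 1)) := subsingleton_Hrep_of_torsion EW a htop
  have hbij : Function.Bijective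
      (H.sndH a (mkQ_isGrHom ℳ (gam a.toIdeal M)) hex (Submodule.mkQ_surjective (gam a.toIdeal M)) (i + 1)) := by
    refine ⟨(injective_iff_map_eq_zero _).2 fun z hz => ?_, fun z => ?_⟩
    · obtain ⟨w, rfl⟩ := (H.exact_inl_snd a _ hex _ (i + 1) z).1 hz
      haveI := hsub i
      rw [Subsingleton.elim w 0, map_zero]
    · haveI := hsub (i + 1)
      exact (H.exact_snd_δ a (mkQ_isGrHom ℳ (gam a.toIdeal M)) hex (Submodule.mkQ_surjective (gam a.toIdeal M)) (i + 1) z).1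
        (Subsingleton.elim _ _)
  refine ⟨ψ.trans (LinearEquiv.ofBijective _ hbij), fun j x hx => ?_⟩
  exact H.sndH_grHom a (mkQ_isGrHom ℳ (gam a.toIdeal M)) hex (Submodule.mkQ_surjective (gam a.toIdeal M)) (i + 1) j _ (hψ j x hx)

end GrothGr
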