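import Groth.Agent.GrMod.Bounded
import Groth.Agent.GrMod.TorsionStep
import Groth.Agent.LocCohBase.Cd

/-!
# Finiteness of graded local cohomology at the irrelevant ideal

Helper library (no milestone statements here).
-/

universe u

open DirectSum GrLC

namespace GrothGr

variable {R : Type u} [CommRing R] {𝒜 : ℤ → AddSubgroup R} [GradedRing 𝒜]

section piece

variable {A B : Type u} [AddCommGroup A] [Module R A] [AddCommGroup B] [Module R B]
  {𝒳 : ℤ → AddSubgroup A} [Decomposition 𝒳] [SetLike.GradedSMul 𝒜 𝒳]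
  {𝒴 : ℤ → AddSubgroup B} [Decomposition 𝒴] [SetLike.GradedSMul 𝒜 𝒴]

/-- The pieces of graded isomorphic modules are isomorphic. -/
theorem nonempty_pieceEquiv (e : A ≃ₗ[R] B) (he : IsGrHom 𝒳 𝒴 e.toLinearMap) (j : ℤ) :
    Nonempty (GrLC.comp 𝒜 𝒳 j ≃ₗ[GrLC.deg0 𝒜] GrLC.comp 𝒜 𝒴 j) := by
  refine ⟨LinearEquiv.ofBijective ((e.toLinearMap.restrictScalars (GrLC.deg0 𝒜)).restrict
    (p := GrLC.comp 𝒜 𝒳 j) (q := GrLC.comp 𝒜 𝒴 j) fun x hx => he j x hx)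
    ⟨fun x y h => Subtype.ext (e.injective (congrArg Subtype.val h)), fun w => ?_⟩⟩
  refine ⟨⟨pr 𝒳 j (e.symm w), pr_mem 𝒳 j _⟩, Subtype.ext ?_⟩
  show e.toLinearMap (pr 𝒳 j (e.symm w)) = (w : B)
  rw [map_pr 𝒳 𝒴 he]
  show pr 𝒴 j (e (e.symm (w : B))) = _
  rw [LinearEquiv.apply_symm_apply, pr_of_mem 𝒴 (show (w : B) ∈ 𝒴 j from w.2)]

/-- Graded isomorphic modules vanish in the same degrees. -/
theorem eq_bot_of_grEquiv (e : A ≃ₗ[R] B) (he : IsGrHom 𝒳 𝒴 e.toLinearMap) {j : ℤ} :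
    𝒳 j = ⊥ ↔ 𝒴 j = ⊥ := by
  refine ⟨fun h => eq_bot_iff.2 fun y hy => ?_, fun h => eq_bot_iff.2 fun x hx => ?_⟩
  · have h1 := map_pr 𝒳 𝒴 he j (e.symm y)
    rw [show pr 𝒳 j (e.symm y) = 0 from AddSubgroup.mem_bot.1 (h ▸ pr_mem 𝒳 j _), map_zero] at h1
    refine AddSubgroup.mem_bot.2 ((pr_of_mem 𝒴 hy).symm.trans ?_)
    rw [h1]
    exact congrArg _ (e.apply_symm_apply y).symm
  · refine AddSubgroup.mem_bot.2 (e.injective ?_)
    rw [map_zero]
    exact AddSubgroup.mem_bot.1 (h ▸ he j x hx)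

end piece

variable (hpos : ∀ n : ℤ, n < 0 → 𝒜 n = ⊥)

include hpos in
/-- `R₀` is Noetherian. -/
theorem isNoetherianRing_deg0 [IsNoetherianRing R] : IsNoetherianRing (GrLC.deg0 𝒜) := by
  have hmul : ∀ a b : R, pr 𝒜 0 (a * b) = pr 𝒜 0 a * pr 𝒜 0 b := fun a b => by
    have hcong : a - pr 𝒜 0 a ∈ Ideal.span (⋃ n ∈ Set.Ioi (0 : ℤ), (𝒜 n : Set R)) := by
      refine mem_irrelevant_of_decompose_zero 𝒜 hpos ?_
      show pr 𝒜 0 (a - pr 𝒜 0 a) = 0
      rw [map_sub, pr_of_mem 𝒜 (pr_mem 𝒜 0 a), sub_self]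
    have h2 := pr_zero_of_mem_irrelevant 𝒜 hpos (Ideal.mul_mem_right b _ hcong)
    rw [sub_mul, map_sub, sub_eq_zero] at h2
    rw [h2, ← smul_eq_mul, pr_smul 𝒜 𝒜 (pr_mem 𝒜 0 a), sub_zero, smul_eq_mul]
  let φ : R →+* GrLC.deg0 𝒜 :=
    { toFun := fun a => ⟨pr 𝒜 0 a, pr_mem 𝒜 0 a⟩
      map_one' := Subtype.ext (pr_of_mem 𝒜 (SetLike.one_mem_graded 𝒜))
      map_mul' := fun a b => Subtype.ext (hmul a b)
      map_zero' := Subtype.ext (map_zero _)
      map_add' := fun a b => Subtype.ext (map_add _ _ _) }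
  exact isNoetherianRing_of_surjective R _ φ fun c =>
    ⟨(c : R), Subtype.ext (pr_of_mem 𝒜 (show (c : R) ∈ 𝒜 0 from c.2))⟩

variable [IsNoetherianRing R]

/-- High degrees lie in high powers of `R₊`. -/
theorem exists_bound_irrelevant_pow (t : ℕ) : ∃ B : ℕ, ∀ j : ℤ, (B : ℤ) < j → ∀ z ∈ 𝒜 j,
    z ∈ Ideal.span (⋃ n ∈ Set.Ioi (0 : ℤ), (𝒜 n : Set R)) ^ t := by
  classical
  obtain ⟨T, hTs, hT⟩ := (Submodule.fg_span_iff_fg_span_finset_subset _).1
    (IsNoetherian.noetherian (Ideal.span (⋃ n ∈ Set.Ioi (0 : ℤ), (𝒜 n : Set R))))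
  have hdeg : ∀ g ∈ T, ∃ n : ℕ, 0 < n ∧ g ∈ 𝒜 (n : ℤ) := fun g hg => by
    obtain ⟨n, hn, hgn⟩ := Set.mem_iUnion₂.1 (hTs hg)
    have hn' : (0 : ℤ) < n := hn
    exact ⟨n.toNat, by omega, by rwa [Int.toNat_of_nonneg hn'.le]⟩
  choose! d hd0 hd using hdeg
  induction t with
  | zero => exact ⟨0, fun j _ z _ => by rw [pow_zero, Ideal.one_eq_top]; exact Submodule.mem_top⟩
  | succ t ih =>
    obtain ⟨B, hB⟩ := ih
    refine ⟨B + T.sum d, fun j hj z hz => ?_⟩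
    have hzi : z ∈ Ideal.span (⋃ n ∈ Set.Ioi (0 : ℤ), (𝒜 n : Set R)) :=
      Ideal.subset_span (Set.mem_biUnion (Set.mem_Ioi.2 (by omega)) hz)
    rw [← pr_of_mem 𝒜 hz]
    suffices key : ∀ w ∈ Submodule.span R (T : Set R), ∀ r : R, pr 𝒜 j (r • w) ∈
        Ideal.span (⋃ n ∈ Set.Ioi (0 : ℤ), (𝒜 n : Set R)) ^ (t + 1) by
      simpa using key z (by rwa [show Submodule.span R (T : Set R) = _ from hT.symm]) 1
    intro w hw
    induction hw using Submodule.span_induction with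
    | mem g hg =>
      intro r
      rw [pr_smul_of_mem 𝒜 𝒜 (hd g hg), smul_eq_mul, pow_succ]
      have hle : d g ≤ T.sum d := Finset.single_le_sum (fun _ _ => Nat.zero_le _) hg
      exact Ideal.mul_mem_mul (hB _ (by omega) _ (decompose 𝒜 r _).2)
        (Ideal.subset_span (hTs hg))
    | zero => intro r; rw [smul_zero, map_zero]; exact zero_mem _
    | add a b _ _ ha hb => intro r; rw [smul_add, map_add]; exact add_mem (ha r) (hb r)
    | smul c a _ ha => intro r; rw [smul_smul]; exact ha _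

/-- A finite graded module which is `R₊`-torsion lives in boundedly many degrees. -/
theorem exists_bound_of_torsion {M : Type u} [AddCommGroup M] [Module R M] [Module.Finite R M]
    (ℳ : ℤ → AddSubgroup M) [Decomposition ℳ] [SetLike.GradedSMul 𝒜 ℳ]
    (htor : gam (Ideal.span (⋃ n ∈ Set.Ioi (0 : ℤ), (𝒜 n : Set R))) M = ⊤) :
    ∃ B : ℤ, ∀ j, B ≤ j → ℳ j = ⊥ := by
  classical
  obtain ⟨T, hT⟩ := Module.Finite.fg_top (R := R) (M := M)
  have hk : ∀ x : M, ∃ k : ℕ, ∀ r ∈ Ideal.span (⋃ n ∈ Set.Ioi (0 : ℤ), (𝒜 n : Set R)) ^ k, r • x = 0 :=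
    fun x => (htor.ge (Submodule.mem_top (x := x)) :)
  choose k hk using hk
  let D : Finset ℤ := T.biUnion fun s => (decompose ℳ s).support
  obtain ⟨b, hb⟩ : ∃ b : ℤ, ∀ d ∈ D, d ≤ b := D.bddAbove
  let t := (T.biUnion fun s => (decompose ℳ s).support.image fun c => (decompose ℳ s c : M)).sum k
  obtain ⟨B, hB⟩ := exists_bound_irrelevant_pow (𝒜 := 𝒜) t
  refine ⟨b + B + 1, fun j hj => eq_bot_iff.2 fun w hw => AddSubgroup.mem_bot.2 ?_⟩
  rw [← pr_of_mem ℳ hw]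
  suffices key : ∀ z ∈ Submodule.span R (T : Set M), ∀ r : R, pr ℳ j (r • z) = 0 by
    simpa using key w (hT ▸ Submodule.mem_top) 1
  intro z hz
  induction hz using Submodule.span_induction with
  | mem s hs =>
    intro r
    rw [← sum_support_decompose ℳ s, Finset.smul_sum, map_sum]
    refine Finset.sum_eq_zero fun d hd => ?_
    rw [pr_smul_of_mem 𝒜 ℳ (decompose ℳ s d).2]
    have hdb := hb d (Finset.mem_biUnion.2 ⟨s, hs, hd⟩)
    refine hk _ _ (Ideal.pow_le_pow_right ?_ (hB _ (by omega) _ (decompose 𝒜 r (j - d)).2))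
    exact Finset.single_le_sum (fun _ _ => Nat.zero_le _)
      (Finset.mem_biUnion.2 ⟨s, hs, Finset.mem_image_of_mem _ hd⟩)
  | zero => intro r; rw [smul_zero, map_zero]
  | add a c _ _ ha hc => intro r; rw [smul_add, map_add, ha r, hc r, add_zero]
  | smul c a _ ha => intro r; rw [smul_smul]; exact ha _

include hpos in
/-- Homogeneous prime avoidance in positive degree. -/
theorem exists_avoid_pos (P : Finset (Ideal R)) (hP : ∀ p ∈ P, p.IsPrime ∧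
    ¬ Ideal.span (⋃ n ∈ Set.Ioi (0 : ℤ), (𝒜 n : Set R)) ≤ p) :
    ∃ (n : ℕ) (z : R), 0 < n ∧ z ∈ 𝒜 (n : ℤ) ∧ ∀ p ∈ P, z ∉ p := by
  classical
  let C := P.image fun p => core 𝒜 p
  have hC : ∀ c ∈ C, c.IsPrime ∧ c.IsHomogeneous 𝒜 ∧
      ¬ Ideal.span (⋃ n ∈ Set.Ioi (0 : ℤ), (𝒜 n : Set R)) ≤ c := by
    intro c hc
    obtain ⟨p, hp, rfl⟩ := Finset.mem_image.1 hc
    obtain ⟨h1, h2⟩ := hP p hp
    exact ⟨isPrime_core_int 𝒜 p, (p.homogeneousCore 𝒜).isHomogeneous,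
      fun h => h2 (h.trans (core_le 𝒜 p))⟩
  let Q := C.filter fun p => ∀ q ∈ C, p ≤ q → q ≤ p
  have hQ : ∀ p ∈ C, ∃ q ∈ Q, p ≤ q := by
    intro p hp
    obtain ⟨q, hmax⟩ := (C.filter fun q => p ≤ q).exists_maximal ⟨p, Finset.mem_filter.2 ⟨hp, le_rfl⟩⟩
    obtain ⟨hqP, hpq⟩ := Finset.mem_filter.1 hmax.prop
    exact ⟨q, Finset.mem_filter.2 ⟨hqP, fun r hr hqr =>
      hmax.le_of_ge (Finset.mem_filter.2 ⟨hr, hpq.trans hqr⟩) hqr⟩, hpq⟩
  suffices ∃ (n : ℕ) (z : R), 0 < n ∧ z ∈ 𝒜 (n : ℤ) ∧ ∀ p ∈ Q, z ∉ p by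
    obtain ⟨n, z, h1, h2, h4⟩ := this
    refine ⟨n, z, h1, h2, fun p hp hz => ?_⟩
    obtain ⟨q, hq, hpq⟩ := hQ _ (Finset.mem_image_of_mem _ hp)
    exact h4 q hq (hpq (mem_core_of_mem 𝒜 h2 hz))
  have each : ∀ p : Q, ∃ (n : ℕ) (a : R), 0 < n ∧ a ∈ 𝒜 (n : ℤ) ∧ a ∉ (p : Ideal R) ∧
      ∀ q : Q, q ≠ p → a ∈ (q : Ideal R) := by
    rintro ⟨p, hp⟩
    obtain ⟨hpC, hpmax⟩ := Finset.mem_filter.1 hp
    haveI := (hC p hpC).1
    let J : Ideal R := Ideal.span (⋃ n ∈ Set.Ioi (0 : ℤ), (𝒜 n : Set R)) ⊓ (Q.erase p).inf id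
    have hJ : ¬ J ≤ p := by
      intro hle
      rcases (inferInstance : p.IsPrime).inf_le.1 hle with h | h
      · exact (hC p hpC).2.2 h
      · obtain ⟨q, hq, hqp⟩ := (Ideal.IsPrime.inf_le' inferInstance).1 h
        obtain ⟨hne, hqQ⟩ := Finset.mem_erase.1 hq
        obtain ⟨hqC, hqmax⟩ := Finset.mem_filter.1 hqQ
        exact hne (le_antisymm hqp (hqmax p hpC hqp))
    obtain ⟨z, hzJ, hzp⟩ := SetLike.not_le_iff_exists.1 hJ
    obtain ⟨s, -, hs⟩ := exists_sum_pr 𝒜 z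
    obtain ⟨i, hi⟩ : ∃ i, pr 𝒜 i z ∉ p := by
      by_contra hall
      push Not at hall
      exact hzp (hs ▸ Ideal.sum_mem _ fun i _ => hall i)
    have hipos : 0 < i := by
      rcases lt_trichotomy i 0 with h | h | h
      · refine absurd ?_ hi
        have h1 := pr_mem 𝒜 i z
        rw [hpos i h, AddSubgroup.mem_bot] at h1
        rw [h1]
        exact zero_mem _
      · subst h
        exact absurd (by rw [pr_zero_of_mem_irrelevant 𝒜 hpos hzJ.1]; exact zero_mem _) hi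
      · exact h
    refine ⟨i.toNat, _, by omega, by rw [Int.toNat_of_nonneg hipos.le]; exact pr_mem 𝒜 i z, hi, ?_⟩
    rintro ⟨q, hq⟩ hne
    have hzq : z ∈ q :=
      (Finset.inf_le (f := id) (Finset.mem_erase.2 ⟨fun h => hne (Subtype.ext h), hq⟩)) hzJ.2
    exact (hC q (Finset.mem_filter.1 hq).1).2.1 i hzq
  choose n a hn ha hap haq using each
  let N := ∏ p : Q, n p
  have hN : 0 < N := Finset.prod_pos fun p _ => hn p
  have hdvd : ∀ p, n p ∣ N := fun p => Finset.dvd_prod_of_mem _ (Finset.mem_univ p)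
  have he : ∀ p, 0 < N / n p := fun p => Nat.div_pos (Nat.le_of_dvd hN (hdvd p)) (hn p)
  refine ⟨N, ∑ p : Q, a p ^ (N / n p), hN, sum_mem fun p _ => ?_, fun p hp h => ?_⟩
  · have := SetLike.pow_mem_graded (N / n p) (ha p)
    rwa [nsmul_eq_mul, ← Nat.cast_mul, Nat.div_mul_cancel (hdvd p)] at this
  · haveI := (hC p (Finset.mem_filter.1 hp).1).1
    rw [← Finset.add_sum_erase _ _ (Finset.mem_univ (⟨p, hp⟩ : Q))] at h
    have h2 : (∑ q ∈ Finset.univ.erase (⟨p, hp⟩ : Q), a q ^ (N / n q)) ∈ p :=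
      Ideal.sum_mem _ fun q hq => Ideal.pow_mem_of_mem _
        (haq q ⟨p, hp⟩ (Finset.mem_erase.1 hq).1.symm) _ (he q)
    exact hap ⟨p, hp⟩
      ((Ideal.IsPrime.mem_of_pow_mem (by infer_instance) _ ((Ideal.add_mem_iff_left p h2).1 h)))

include hpos in
/-- A module without `R₊`-torsion has a regular element of positive degree. -/
theorem exists_regular_pos {M : Type u} [AddCommGroup M] [Module R M] [Module.Finite R M]
    (hgam : gam (Ideal.span (⋃ n ∈ Set.Ioi (0 : ℤ), (𝒜 n : Set R))) M = ⊥) :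
    ∃ (n : ℕ) (z : R), 0 < n ∧ z ∈ 𝒜 (n : ℤ) ∧ IsSMulRegular M z := by
  classical
  have hfin := associatedPrimes.finite R M
  obtain ⟨n, z, hn, hz, hav⟩ := exists_avoid_pos hpos hfin.toFinset fun P hP => by
    have hP' := hfin.mem_toFinset.1 hP
    refine ⟨hP'.isPrime, fun hle => ?_⟩
    obtain ⟨-, w, hw⟩ := isAssociatedPrime_iff.1 hP'
    have hwg : w ∈ gam (Ideal.span (⋃ n ∈ Set.Ioi (0 : ℤ), (𝒜 n : Set R))) M := ⟨1, fun r hr => by
      rw [pow_one] at hr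
      have := hle hr
      rw [hw, Submodule.mem_colon_singleton, Submodule.mem_bot] at this
      exact this⟩
    rw [hgam, Submodule.mem_bot] at hwg
    refine hP'.isPrime.ne_top ?_
    rw [hw, hwg]
    exact (Ideal.eq_top_iff_one _).2 (Submodule.mem_colon_singleton.2 (by simp))
  refine ⟨n, z, hn, hz, ?_⟩
  by_contra hreg
  obtain ⟨v, hv, hv0⟩ : ∃ v : M, z • v = 0 ∧ v ≠ 0 := by
    by_contra hcon
    push Not at hcon
    exact hreg fun a b hab => sub_eq_zero.1 (hcon _ (by rw [smul_sub, sub_eq_zero]; exact hab))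
  obtain ⟨P, hP, hle⟩ := exists_le_isAssociatedPrime_of_isNoetherianRing R v hv0
  exact hav P (hfin.mem_toFinset.2 hP) (hle (Submodule.mem_colon_singleton.2 (by rw [hv]; exact zero_mem _)))

include hpos in
/-- The degree-`i` finiteness statement. -/
theorem finiteness_irrelevant (a : HomogeneousIdeal 𝒜)
    (ha : a.toIdeal = Ideal.span (⋃ n ∈ Set.Ioi (0 : ℤ), (𝒜 n : Set R))) (i : ℕ) :
    ∀ (M : Type u) [AddCommGroup M] [Module R M] [Module.Finite R M] (ℳ : ℤ → AddSubgroup M)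
      [Decomposition ℳ] [SetLike.GradedSMul 𝒜 ℳ] (E : StarInjRes 𝒜 ℳ),
      (∃ r, ∀ j, r ≤ j → E.Hgr a i j = ⊥) ∧
        ∀ j, Module.Finite (GrLC.deg0 𝒜) (E.Hcomp a i j) := by
  haveI := isNoetherianRing_deg0 (𝒜 := 𝒜) hpos
  induction i with
  | zero =>
    intro M _ _ _ ℳ _ _ E
    obtain ⟨e, he⟩ := exists_H_zero_equiv E a
    letI := (subPc_isInternal ℳ (isHomogeneous_gam 𝒜 ℳ a.isHomogeneous)).chooseDecomposition
    haveI := subPc_gradedSMul 𝒜 ℳ (gam a.toIdeal M)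
    letI := (Hgr_isInternal 𝒜 ℳ E a 0).chooseDecomposition
    haveI := Hgr_gradedSMul 𝒜 E a 0
    obtain ⟨B, hB⟩ := exists_bound_of_torsion (𝒜 := 𝒜) (subPc ℳ (gam a.toIdeal M)) (eq_top_iff.2 fun x _ => by
      obtain ⟨n, hn⟩ := x.2
      exact ⟨n, fun r hr => Subtype.ext (hn r (ha ▸ hr))⟩)
    refine ⟨⟨B, fun j hj => (eq_bot_of_grEquiv e he).1 (hB j hj)⟩, fun j => ?_⟩
    obtain ⟨ep⟩ := nonempty_pieceEquiv (𝒜 := 𝒜) e he j
    haveI := finite_piece (C := gam a.toIdeal M) hpos (subPc ℳ (gam a.toIdeal M)) j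
    exact Module.Finite.equiv ep
  | succ i ih =>
    intro M _ _ _ ℳ _ _ E
    letI := (quotPc_isInternal ℳ (isHomogeneous_gam 𝒜 ℳ (a := a.toIdeal) a.isHomogeneous)).chooseDecomposition
    haveI := quotPc_gradedSMul 𝒜 ℳ (gam a.toIdeal M)
    let EQ := starRes 𝒜 (quotPc ℳ (gam a.toIdeal M))
    obtain ⟨ψ, hψ⟩ := exists_H_equiv_quot_gam a E EQ i
    letI := (Hgr_isInternal 𝒜 ℳ E a (i + 1)).chooseDecomposition
    haveI := Hgr_gradedSMul 𝒜 E a (i + 1)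
    letI := (Hgr_isInternal 𝒜 (quotPc ℳ (gam a.toIdeal M)) EQ a (i + 1)).chooseDecomposition
    haveI := Hgr_gradedSMul 𝒜 EQ a (i + 1)
    suffices hQ : (∃ r, ∀ j, r ≤ j → EQ.Hgr a (i + 1) j = ⊥) ∧
        ∀ j, Module.Finite (GrLC.deg0 𝒜) (EQ.Hcomp a (i + 1) j) by
      obtain ⟨⟨r, hr⟩, hf⟩ := hQ
      refine ⟨⟨r, fun j hj => (eq_bot_of_grEquiv ψ hψ).2 (hr j hj)⟩, fun j => ?_⟩
      obtain ⟨ep⟩ := nonempty_pieceEquiv (𝒜 := 𝒜) ψ hψ j
      haveI : Module.Finite (GrLC.deg0 𝒜) (GrLC.comp 𝒜 (EQ.Hgr a (i + 1)) j) := hf j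
      exact Module.Finite.equiv ep.symm
    obtain ⟨d, f, hd, hf, hreg⟩ := exists_regular_pos (𝒜 := 𝒜) (M := M ⧸ gam a.toIdeal M) hpos
      (ha ▸ gam_quot_gam a.toIdeal)
    have hfa : f ∈ a.toIdeal :=
      ha.ge (Ideal.subset_span (Set.mem_biUnion (Set.mem_Ioi.2 (by exact_mod_cast hd)) hf))
    let M' := M ⧸ gam a.toIdeal M
    let ℳ' := quotPc ℳ (gam a.toIdeal M)
    let W : Submodule R M' := LinearMap.range (LinearMap.lsmul R M' f)
    have hW : W.IsHomogeneous ℳ' := by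
      rintro g _ ⟨w, rfl⟩
      exact ⟨pr ℳ' (g - d) w, (pr_smul ℳ' 𝒜 hf g w).symm⟩
    letI := (quotPc_isInternal ℳ' hW).chooseDecomposition
    haveI := quotPc_gradedSMul 𝒜 ℳ' W
    let EN : StarInjRes 𝒜 (quotPc ℳ' W) := starRes 𝒜 (quotPc ℳ' W)
    obtain ⟨p, δ, -, hδd, -, -, hδx, -⟩ := exists_regular_seq EQ EN a hf hreg W.mkQ
      (mkQ_isGrHom ℳ' W) (Submodule.mkQ_surjective W) (Submodule.ker_mkQ W) i
    obtain ⟨⟨B, hB⟩, hfinN⟩ := ih (M' ⧸ W) (quotPc ℳ' W) EN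
    letI := (Hgr_isInternal 𝒜 (quotPc ℳ' W) EN a i).chooseDecomposition
    haveI := Hgr_gradedSMul 𝒜 EN a i
    have hsmul : ∀ (k : ℤ) {y : EQ.H a (i + 1)}, y ∈ EQ.Hgr a (i + 1) k →
        f • y ∈ EQ.Hgr a (i + 1) (k + d) := fun k y hy => by
      rw [add_comm k (d : ℤ)]
      exact smul_mem (EQ.Hgr a (i + 1)) 𝒜 hf hy
    have hker : ∀ (k : ℤ), ∀ y ∈ EQ.Hgr a (i + 1) k, f • y = 0 →
        ∃ w ∈ EN.Hgr a i (k + d), δ w = y := by
      intro k y hy hfy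
      obtain ⟨w, rfl⟩ := (hδx y).1 hfy
      have h2 := map_pr_deg (EN.Hgr a i) (EQ.Hgr a (i + 1)) hδd (k + d) w
      rw [add_neg_cancel_right, pr_of_mem _ hy] at h2
      exact ⟨_, pr_mem _ _ w, h2⟩
    have hbound : ∀ j, B - d ≤ j → EQ.Hgr a (i + 1) j = ⊥ := by
      intro j hj
      rw [eq_bot_iff]
      intro z hz
      refine AddSubgroup.mem_bot.2 ?_
      obtain ⟨t, ht⟩ := isPowerTorsion_Hrep EQ a (i + 1) z
      have hzero := ht _ (Ideal.pow_mem_pow hfa t)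
      clear ht
      induction t generalizing z j with
      | zero => rwa [pow_zero, one_smul] at hzero
      | succ t iht =>
        have hfz : f • z = 0 := iht (j + d) (by omega) (hsmul j hz) (by rwa [← mul_smul, ← pow_succ])
        obtain ⟨w, hw, rfl⟩ := hker j z hz hfz
        rw [hB (j + d) (by omega), AddSubgroup.mem_bot] at hw
        rw [hw, map_zero]
    refine ⟨⟨B - d, hbound⟩, fun j => ?_⟩
    obtain ⟨t, ht⟩ : ∃ t : ℕ, B - d ≤ j + t * d := ⟨(B - d - j).toNat, by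
      have h1 : (B - (d : ℤ) - j) ≤ ((B - d - j).toNat : ℤ) := Int.self_le_toNat _
      have h2 : ((B - d - j).toNat : ℤ) ≤ ((B - d - j).toNat : ℤ) * d :=
        le_mul_of_one_le_right (by positivity) (by exact_mod_cast hd)
      omega⟩
    induction t generalizing j with
    | zero =>
      rw [Nat.cast_zero, zero_mul, add_zero] at ht
      have h0 := Hcomp_eq_bot_of_Hgr EQ a (i + 1) (hbound j ht)
      rw [h0]
      exact Module.Finite.bot _ _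
    | succ t iht =>
      have hnext : Module.Finite (GrLC.deg0 𝒜) (GrLC.comp 𝒜 (EQ.Hgr a (i + 1)) (j + d)) :=
        iht (j + d) (by push_cast at ht; linarith)
      haveI : IsNoetherian (GrLC.deg0 𝒜) (GrLC.comp 𝒜 (EQ.Hgr a (i + 1)) (j + d)) :=
        isNoetherian_of_isNoetherianRing_of_finite _ _
      haveI : Module.Finite (GrLC.deg0 𝒜) (GrLC.comp 𝒜 (EN.Hgr a i) (j + d)) := hfinN (j + d)
      haveI : IsNoetherian (GrLC.deg0 𝒜) (GrLC.comp 𝒜 (EN.Hgr a i) (j + d)) :=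
        isNoetherian_of_isNoetherianRing_of_finite _ _
      let u : GrLC.comp 𝒜 (EQ.Hgr a (i + 1)) j →ₗ[GrLC.deg0 𝒜] GrLC.comp 𝒜 (EQ.Hgr a (i + 1)) (j + d) :=
        ((LinearMap.lsmul R (EQ.H a (i + 1)) f).restrictScalars (GrLC.deg0 𝒜)).restrict
          fun y hy => hsmul j hy
      let v : GrLC.comp 𝒜 (EN.Hgr a i) (j + d) →ₗ[GrLC.deg0 𝒜] GrLC.comp 𝒜 (EQ.Hgr a (i + 1)) j :=
        (δ.restrictScalars (GrLC.deg0 𝒜)).restrict fun y hy => by
          have := hδd (j + d) y hy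
          rwa [add_neg_cancel_right] at this
      have hex : LinearMap.range v = LinearMap.ker u := by
        refine le_antisymm ?_ fun y hy => ?_
        · rintro _ ⟨w, rfl⟩
          exact Subtype.ext (hδx.apply_apply_eq_zero (w : EN.H a i))
        · obtain ⟨w, hw, hwy⟩ := hker j (y : EQ.H a (i + 1)) y.2 (congrArg Subtype.val hy)
          exact ⟨⟨w, hw⟩, Subtype.ext hwy⟩
      haveI : IsNoetherian (GrLC.deg0 𝒜) (GrLC.comp 𝒜 (EQ.Hgr a (i + 1)) j) :=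
        isNoetherian_of_range_eq_ker v u hex
      exact (inferInstance : Module.Finite (GrLC.deg0 𝒜) (GrLC.comp 𝒜 (EQ.Hgr a (i + 1)) j))

include hpos in
/-- A bound independent of the cohomological degree. -/
theorem exists_uniform_bound (a : HomogeneousIdeal 𝒜)
    (ha : a.toIdeal = Ideal.span (⋃ n ∈ Set.Ioi (0 : ℤ), (𝒜 n : Set R)))
    {M : Type u} [AddCommGroup M] [Module R M] [Module.Finite R M] {ℳ : ℤ → AddSubgroup M}
    [Decomposition ℳ] [SetLike.GradedSMul 𝒜 ℳ] (E : StarInjRes 𝒜 ℳ) :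
    ∃ r : ℤ, ∀ (i : ℕ) (n : ℤ), r ≤ n → E.Hgr a i n = ⊥ := by
  obtain ⟨c, hc⟩ := Groth.LocCohBase.exists_cdLE a.toIdeal
  choose r hr using fun i => (finiteness_irrelevant hpos a ha i M ℳ E).1
  obtain ⟨R₀, hR₀⟩ : ∃ R₀ : ℤ, ∀ x ∈ (Finset.range (c + 1)).image r, x ≤ R₀ := Finset.bddAbove _
  refine ⟨R₀, fun i n hn => ?_⟩
  rcases le_or_gt i c with hi | hi
  · exact hr i n ((hR₀ _ (Finset.mem_image_of_mem r (Finset.mem_range.2 (Nat.lt_succ_of_le hi)))).trans hn)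
  · obtain ⟨e⟩ := nonempty_H_equiv 𝒜 ℳ a E i
    haveI := hc M i hi
    haveI : Subsingleton (E.H a i) := e.toEquiv.subsingleton
    exact (AddSubgroup.eq_bot_iff_forall _).2 fun x _ => Subsingleton.elim _ _

end GrothGr
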