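import Groth.Agent.GrMod.Delta
import Groth.Agent.GrMod.Finiteness
import Groth.Agent.GrMod.RegSeq
import Mathlib.RingTheory.KrullDimension.Module

/-!
# Serre's formula: Hilbert function minus Hilbert polynomial

Helper library (no milestone statements here).
-/

universe u

open DirectSum GrLC Polynomial
open scoped Pointwise

namespace GrothGr

/-- Rank–nullity for lengths. -/
theorem length_ker_add_range {S : Type u} [Ring S] {A B : Type u} [AddCommGroup A] [Module S A]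
    [AddCommGroup B] [Module S B] (f : A →ₗ[S] B) :
    Module.length S A = Module.length S (LinearMap.ker f) + Module.length S (LinearMap.range f) :=
  Module.length_eq_add_of_exact (LinearMap.ker f).subtype f.rangeRestrict Subtype.val_injective
    f.surjective_rangeRestrict fun x =>
      ⟨fun h => ⟨⟨x, congrArg Subtype.val h⟩, rfl⟩, fun ⟨y, hy⟩ => hy ▸ Subtype.ext y.2⟩

/-- Alternating sums telescope. -/
theorem sum_telescope (e : ℕ → ℤ) (n : ℕ) :
    (Finset.range n).sum (fun i => (-1 : ℤ) ^ i * (e i + e (i + 1))) = e 0 - (-1) ^ n * e n := by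
  induction n with
  | zero => simp
  | succ n ih => rw [Finset.sum_range_succ, ih, pow_succ]; ring

/-- One link of a long exact sequence of modules of finite length. -/
theorem four_term {S : Type u} [Ring S] {A B C A' B' : Type u} [AddCommGroup A] [Module S A]
    [AddCommGroup B] [Module S B] [AddCommGroup C] [Module S C] [AddCommGroup A'] [Module S A']
    [AddCommGroup B'] [Module S B'] (u : A →ₗ[S] B) (p : B →ₗ[S] C) (δ : C →ₗ[S] A') (u' : A' →ₗ[S] B')
    (e1 : LinearMap.ker p = LinearMap.range u) (e2 : LinearMap.ker δ = LinearMap.range p)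
    (e3 : LinearMap.range δ = LinearMap.ker u') (na : Module.length S A ≠ ⊤) (nb : Module.length S B ≠ ⊤)
    (nc : Module.length S C ≠ ⊤) :
    ((Module.length S B).toNat : ℤ) - (Module.length S A).toNat - (Module.length S C).toNat =
      -(((Module.length S (LinearMap.ker u)).toNat : ℤ) + (Module.length S (LinearMap.ker u')).toNat) := by
  have l1 := length_ker_add_range u
  have l2 := length_ker_add_range p
  have l3 := length_ker_add_range δ
  rw [e1] at l2
  rw [e2, e3] at l3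
  rw [l1] at na ⊢
  rw [l2] at nb ⊢
  rw [l3] at nc ⊢
  rw [ENat.toNat_add (WithTop.add_ne_top.1 na).1 (WithTop.add_ne_top.1 na).2,
    ENat.toNat_add (WithTop.add_ne_top.1 nb).1 (WithTop.add_ne_top.1 nb).2,
    ENat.toNat_add (WithTop.add_ne_top.1 nc).1 (WithTop.add_ne_top.1 nc).2]
  push_cast
  ring

/-- Products of `S^d - 1` with coprime multiplicities reduce to a power of `S - 1`. -/
theorem killed_pow_of_coprime (F : ℤ → ℤ) (k : ℕ)
    (hop : ∀ P : ℕ, 0 < P → ∃ ds : List ℕ, ds.length = k ∧ (∀ d ∈ ds, 0 < d ∧ Nat.Coprime d P) ∧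
      aeval shiftEnd ((ds.map fun d => (X : ℤ[X]) ^ d - 1).prod) F = 0) :
    aeval shiftEnd (((X : ℤ[X]) - 1) ^ k) F = 0 := by
  obtain ⟨ds, hdl, hds, hd0⟩ := hop 1 one_pos
  obtain ⟨es, hel, hes, he0⟩ := hop ds.prod (List.prod_pos fun d hd => (hds d hd).1)
  have hfac : ∀ l : List ℕ, (l.map fun d => (X : ℤ[X]) ^ d - 1).prod =
      ((X : ℤ[X]) - 1) ^ l.length * (l.map fun d => ∑ i ∈ Finset.range d, (X : ℤ[X]) ^ i).prod := by
    intro l
    induction l with
    | nil => simp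
    | cons a l ih =>
      rw [List.map_cons, List.prod_cons, ih, List.map_cons, List.prod_cons, List.length_cons,
        ← mul_geom_sum, pow_succ]
      ring
  have hcop : ∀ d : ℕ, 0 < d → ∀ es : List ℕ, (∀ e ∈ es, 0 < e ∧ Nat.Coprime d e) →
      IsCoprime (∑ i ∈ Finset.range d, (X : ℤ[X]) ^ i)
        (es.map fun d => ∑ i ∈ Finset.range d, (X : ℤ[X]) ^ i).prod := by
    intro d hd es hes
    induction es with
    | nil => simpa using isCoprime_one_right
    | cons a l ih =>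
      rw [List.map_cons, List.prod_cons]
      exact (isCoprime_geom_sum hd (hes a List.mem_cons_self).1 (hes a List.mem_cons_self).2).mul_right
        (ih fun e he => hes e (List.mem_cons_of_mem _ he))
  have hall : ∀ l : List ℕ, (∀ d ∈ l, 0 < d ∧ d ∣ ds.prod) →
      IsCoprime (l.map fun d => ∑ i ∈ Finset.range d, (X : ℤ[X]) ^ i).prod
        (es.map fun d => ∑ i ∈ Finset.range d, (X : ℤ[X]) ^ i).prod := by
    intro l hl
    induction l with
    | nil => simpa using isCoprime_one_left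
    | cons a l ih =>
      rw [List.map_cons, List.prod_cons]
      exact (hcop a (hl a List.mem_cons_self).1 es fun e he =>
        ⟨(hes e he).1, ((hes e he).2.coprime_dvd_right (hl a List.mem_cons_self).2).symm⟩).mul_left
        (ih fun e he => hl e (List.mem_cons_of_mem _ he))
  obtain ⟨u, v, huv⟩ := hall ds fun d hd => ⟨(hds d hd).1, List.dvd_prod hd⟩
  rw [show ((X : ℤ[X]) - 1) ^ k = u * (ds.map fun d => (X : ℤ[X]) ^ d - 1).prod +
      v * (es.map fun d => (X : ℤ[X]) ^ d - 1).prod by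
    rw [hfac, hfac, hdl, hel]
    linear_combination -((X : ℤ[X]) - 1) ^ k * huv,
    map_add, map_mul, map_mul, LinearMap.add_apply, Module.End.mul_apply, Module.End.mul_apply, hd0, he0,
    map_zero, map_zero, add_zero]

/-- A sequence killed by `(S - 1)^k` which is eventually polynomial is polynomial. -/
theorem eval_eq_of_killed (k : ℕ) : ∀ (g : ℤ → ℤ),
    aeval shiftEnd (((X : ℤ[X]) - 1) ^ k) g = 0 →
    ∀ (P : ℚ[X]) (N : ℤ), (∀ n : ℤ, N ≤ n → P.eval (n : ℚ) = g n) → ∀ n : ℤ, P.eval (n : ℚ) = g n := by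
  induction k with
  | zero =>
    intro g hg P N hN n
    rw [pow_zero, map_one, Module.End.one_apply] at hg
    subst hg
    have hP : P = 0 := Polynomial.eq_zero_of_infinite_isRoot P (Set.infinite_of_injective_forall_mem
      (f := fun i : ℕ => ((N + i : ℤ) : ℚ)) (fun a b h => by simpa using h)
      fun i => by simpa using hN (N + i) (by omega))
    simp [hP]
  | succ k ih =>
    intro g hg P N hN
    rw [pow_succ, map_mul, Module.End.mul_apply] at hg
    have hstep : ∀ n, aeval shiftEnd ((X : ℤ[X]) - 1) g n = g (n - 1) - g n := fun n => by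
      rw [map_sub, map_one, aeval_X]
      rfl
    have h1 := ih _ hg (P.comp (Polynomial.X - Polynomial.C 1) - P) (N + 1) fun n hn => by
      rw [hstep, eval_sub, eval_comp, eval_sub, eval_X, eval_C, Int.cast_sub, ← hN n (by omega),
        ← hN (n - 1) (by omega), Int.cast_sub, Int.cast_one]
    have hdown : ∀ t : ℕ, ∀ n : ℤ, N ≤ n + t → P.eval (n : ℚ) = g n := by
      intro t
      induction t with
      | zero => exact fun n hn => hN n (by simpa using hn)
      | succ t iht =>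
        intro n hn
        have h2 := h1 (n + 1)
        rw [hstep, eval_sub, eval_comp, eval_sub, eval_X, eval_C, add_sub_cancel_right, Int.cast_sub,
          Int.cast_add, Int.cast_one, add_sub_cancel_right] at h2
        have h3 := iht (n + 1) (by push_cast at hn; omega)
        rw [Int.cast_add, Int.cast_one] at h3
        linarith
    exact fun n => hdown (N - n).toNat n (by omega)

variable {R : Type u} [CommRing R] {𝒜 : ℤ → AddSubgroup R} [GradedRing 𝒜]
  (hpos : ∀ n : ℤ, n < 0 → 𝒜 n = ⊥)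

/-- An Artinian module over an Artinian ring has finite length. -/
theorem length_ne_top_of_isArtinian {S : Type u} [CommRing S] [IsArtinianRing S] {A : Type u}
    [AddCommGroup A] [Module S A] [IsArtinian S A] : Module.length S A ≠ ⊤ := by
  haveI : IsNoetherian S A := IsSemiprimaryRing.isNoetherian_iff_isArtinian.2 inferInstance
  haveI : IsFiniteLength S A :=
    isFiniteLength_iff_isNoetherian_isArtinian.2 ⟨inferInstance, inferInstance⟩
  exact Module.length_ne_top

include hpos in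
theorem plen_ne_top_artinian [IsNoetherianRing R] [IsArtinianRing (GrLC.deg0 𝒜)]
    {M : Type u} [AddCommGroup M] [Module R M] [Module.Finite R M] (ℳ : ℤ → AddSubgroup M)
    [Decomposition ℳ] [SetLike.GradedSMul 𝒜 ℳ] (j : ℤ) : plen 𝒜 ℳ j ≠ ⊤ := by
  haveI := finite_piece hpos ℳ j
  haveI : IsArtinian (GrLC.deg0 𝒜) (GrLC.comp 𝒜 ℳ j) := isArtinian_of_fg_of_artinian'
  exact length_ne_top_of_isArtinian

include hpos in
theorem length_Hcomp_ne_top [IsNoetherianRing R] [IsArtinianRing (GrLC.deg0 𝒜)]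
    {m : HomogeneousIdeal 𝒜} (hm : IsStarLocal 𝒜 m)
    {M : Type u} [AddCommGroup M] [Module R M] [Module.Finite R M] {ℳ : ℤ → AddSubgroup M}
    [Decomposition ℳ] [SetLike.GradedSMul 𝒜 ℳ] (E : StarInjRes 𝒜 ℳ) (i : ℕ) (j : ℤ) :
    Module.length (GrLC.deg0 𝒜) (E.Hcomp m i j) ≠ ⊤ := by
  haveI := isArtinian_Hcomp_starLocal hpos hm E i j
  exact length_ne_top_of_isArtinian

variable [IsNoetherianRing R] [IsArtinianRing (GrLC.deg0 𝒜)]

include hpos in
/-- A homogeneous prime containing `R₊` contains `m`. -/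
theorem le_of_irrelevant_le {m : HomogeneousIdeal 𝒜} (hm : IsStarLocal 𝒜 m) {Q : Ideal R} [Q.IsPrime]
    (hQ : Q.IsHomogeneous 𝒜) (h : Ideal.span (⋃ n ∈ Set.Ioi (0 : ℤ), (𝒜 n : Set R)) ≤ Q) :
    m.toIdeal ≤ Q := by
  have hQm : Q ≤ m.toIdeal := le_of_isStarLocal 𝒜 hm hQ (Ideal.IsPrime.ne_top inferInstance)
  haveI := isMaximal_of_isStarLocal hpos hm
  haveI : (Q.comap (GrLC.deg0 𝒜).subtype).IsMaximal := IsArtinianRing.isMaximal_of_isPrime _
  have heq : Q.comap (GrLC.deg0 𝒜).subtype = m.toIdeal.comap (GrLC.deg0 𝒜).subtype :=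
    Ideal.IsMaximal.eq_of_le inferInstance (Ideal.IsPrime.ne_top inferInstance) (Ideal.comap_mono hQm)
  intro z hz
  have h0 : (⟨pr 𝒜 0 z, pr_mem 𝒜 0 z⟩ : GrLC.deg0 𝒜) ∈ Q.comap (GrLC.deg0 𝒜).subtype :=
    heq.ge (m.isHomogeneous 0 hz)
  have hd : z - pr 𝒜 0 z ∈ Q := by
    refine h (mem_irrelevant_of_decompose_zero 𝒜 hpos ?_)
    show pr 𝒜 0 (z - pr 𝒜 0 z) = 0
    rw [map_sub, pr_of_mem 𝒜 (pr_mem 𝒜 0 z), sub_self]
  have h1 := add_mem hd (show pr 𝒜 0 z ∈ Q from h0)
  rwa [sub_add_cancel] at h1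

variable (hstd : Ideal.span (⋃ n ∈ Set.Ioi (0 : ℤ), (𝒜 n : Set R)) = Ideal.span ((𝒜 1 : AddSubgroup R) : Set R))
  {m : HomogeneousIdeal 𝒜} (hm : IsStarLocal 𝒜 m)

include hpos hm hstd in
/-- Modules without `m`-torsion have regular elements in every large degree. -/
theorem exists_regular_of_large' {M : Type u} [AddCommGroup M] [Module R M] [Module.Finite R M]
    (ℳ : ℤ → AddSubgroup M) [Decomposition ℳ] [SetLike.GradedSMul 𝒜 ℳ]
    (hgam : gam m.toIdeal M = ⊥) :
    ∃ N : ℕ, ∀ d : ℕ, N ≤ d → ∃ f ∈ 𝒜 (d : ℤ), IsSMulRegular M f := by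
  classical
  have hfin := associatedPrimes.finite R M
  let S : Finset (Ideal R) := hfin.toFinset.image fun P => core 𝒜 P
  have hS : ∀ Q ∈ S, ∃ P ∈ associatedPrimes R M, core 𝒜 P = Q := fun Q hQ => by
    obtain ⟨P, hP, rfl⟩ := Finset.mem_image.1 hQ
    exact ⟨P, hfin.mem_toFinset.1 hP, rfl⟩
  obtain ⟨N, hN⟩ := exists_avoid_homogeneous hpos hstd S (fun Q hQ => by
      obtain ⟨P, hP, rfl⟩ := hS Q hQ
      haveI := hP.isPrime
      exact isPrime_core_int 𝒜 P)
    (fun Q hQ => by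
      obtain ⟨P, hP, rfl⟩ := hS Q hQ
      exact (P.homogeneousCore 𝒜).isHomogeneous)
    (fun Q hQ => by
      obtain ⟨P, hP, rfl⟩ := hS Q hQ
      by_contra hcon
      push Not at hcon
      haveI := hP.isPrime
      haveI := isPrime_core_int 𝒜 P
      obtain ⟨-, w, hw⟩ := isAssociatedPrime_iff.1 hP
      have hle : m.toIdeal ≤ P := (le_of_irrelevant_le hpos hm (P.homogeneousCore 𝒜).isHomogeneous
        (hstd.le.trans (Ideal.span_le.2 hcon))).trans (core_le 𝒜 P)
      have hwg : w ∈ gam m.toIdeal M := ⟨1, fun r hr => by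
        rw [pow_one] at hr
        have := hle hr
        rw [hw, Submodule.mem_colon_singleton, Submodule.mem_bot] at this
        exact this⟩
      rw [hgam, Submodule.mem_bot] at hwg
      refine hP.isPrime.ne_top ?_
      rw [hw, hwg]
      exact (Ideal.eq_top_iff_one _).2 (Submodule.mem_colon_singleton.2 (by simp)))
  refine ⟨N, fun d hd => ?_⟩
  obtain ⟨f, hf, hfS⟩ := hN d hd
  refine ⟨f, hf, ?_⟩
  by_contra hreg
  obtain ⟨v, hv, hv0⟩ : ∃ v : M, f • v = 0 ∧ v ≠ 0 := by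
    by_contra hcon
    push Not at hcon
    exact hreg fun a b hab => sub_eq_zero.1 (hcon _ (by rw [smul_sub, sub_eq_zero]; exact hab))
  obtain ⟨P, hP, hle⟩ := exists_le_isAssociatedPrime_of_isNoetherianRing R v hv0
  exact hfS _ (Finset.mem_image.2 ⟨P, hfin.mem_toFinset.2 hP, rfl⟩)
    (mem_core_of_mem 𝒜 hf (hle (Submodule.mem_colon_singleton.2 (by rw [hv]; exact zero_mem _))))

omit [IsArtinianRing (GrLC.deg0 𝒜)] in
include hpos hm in
/-- A module of dimension `≤ 0` is `m`-torsion. -/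
theorem gam_eq_top_of_supportDim_le_zero {M : Type u} [AddCommGroup M] [Module R M] [Module.Finite R M]
    (ℳ : ℤ → AddSubgroup M) [Decomposition ℳ] [SetLike.GradedSMul 𝒜 ℳ]
    (hsupp : Module.supportDim R M ≤ ((0 : ℕ) : WithBot ℕ∞)) : gam m.toIdeal M = ⊤ := by
  haveI := isMaximal_of_isStarLocal hpos hm
  have hrad : m.toIdeal ≤ (Module.annihilator R M).radical := by
    rw [Ideal.radical_eq_sInf]
    refine le_sInf fun Q hQ => ?_
    haveI := hQ.2
    have hQs : (⟨Q, hQ.2⟩ : PrimeSpectrum R) ∈ Module.support R M :=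
      Module.mem_support_iff_of_finite.2 hQ.1
    haveI := isPrime_core_int 𝒜 Q
    have hcs : (⟨core 𝒜 Q, inferInstance⟩ : PrimeSpectrum R) ∈ Module.support R M := by
      rw [Module.mem_support_iff] at hQs ⊢
      exact core_mem_support 𝒜 ℳ hQs
    have hco := (Groth.LocCohBase.supportDim_le_iff M 0).1 hsupp _ hcs
    have hmax : IsMax (⟨core 𝒜 Q, inferInstance⟩ : PrimeSpectrum R) :=
      Order.coheight_eq_zero.1 (le_antisymm (by exact_mod_cast hco) bot_le)
    have hcm : core 𝒜 Q ≤ m.toIdeal :=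
      le_of_isStarLocal 𝒜 hm (Q.homogeneousCore 𝒜).isHomogeneous (isPrime_core_int 𝒜 Q).ne_top
    exact le_trans (hmax (show (⟨core 𝒜 Q, inferInstance⟩ : PrimeSpectrum R) ≤ ⟨m.toIdeal, inferInstance⟩
      from hcm)) (core_le 𝒜 Q)
  obtain ⟨t, ht⟩ := Ideal.exists_pow_le_of_le_radical_of_fg hrad (IsNoetherian.noetherian m.toIdeal)
  exact eq_top_iff.2 fun x _ => ⟨t, fun r hr => Module.mem_annihilator.1 (ht hr) x⟩

/-- `dim M_j - Σ_{i ≤ k} (-1)^i dim H^i_m(M)_j`. -/
noncomputable def eul {M : Type u} [AddCommGroup M] [Module R M] {ℳ : ℤ → AddSubgroup M}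
    [Decomposition ℳ] [SetLike.GradedSMul 𝒜 ℳ] (E : StarInjRes 𝒜 ℳ) (m : HomogeneousIdeal 𝒜) (k : ℕ) :
    ℤ → ℤ := fun j => ((plen 𝒜 ℳ j).toNat : ℤ) - (Finset.range (k + 1)).sum
      (fun i => (-1 : ℤ) ^ i * ((Module.length (GrLC.deg0 𝒜) (E.Hcomp m i j)).toNat : ℤ))

omit [IsArtinianRing (GrLC.deg0 𝒜)] in
include hm in
theorem length_Hcomp_eq_zero_of_lt {M : Type u} [AddCommGroup M] [Module R M] [Module.Finite R M]
    {ℳ : ℤ → AddSubgroup M} [Decomposition ℳ] [SetLike.GradedSMul 𝒜 ℳ] (E : StarInjRes 𝒜 ℳ) {k : ℕ}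
    (hsupp : Module.supportDim R M ≤ (k : WithBot ℕ∞)) {i : ℕ} (hi : k < i) :
    Subsingleton (E.H m i) ∧ ∀ j, Module.length (GrLC.deg0 𝒜) (E.Hcomp m i j) = 0 := by
  obtain ⟨e⟩ := nonempty_H_equiv 𝒜 ℳ m E i
  haveI := Groth.LocCohBase.subsingleton_H_of_supportDim_lt m.toIdeal M (i := i)
    (lt_of_le_of_lt hsupp (by exact_mod_cast hi))
  haveI : Subsingleton (E.H m i) := e.toEquiv.subsingleton
  exact ⟨inferInstance, fun j => Module.length_eq_zero_iff.2 inferInstance⟩

omit [IsArtinianRing (GrLC.deg0 𝒜)] in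
theorem plen_gam_eq {M : Type u} [AddCommGroup M] [Module R M] {ℳ : ℤ → AddSubgroup M} [Decomposition ℳ]
    [SetLike.GradedSMul 𝒜 ℳ] [Decomposition (subPc ℳ (gam m.toIdeal M))]
    [SetLike.GradedSMul 𝒜 (subPc ℳ (gam m.toIdeal M))] (E : StarInjRes 𝒜 ℳ) (j : ℤ) :
    plen 𝒜 (subPc ℳ (gam m.toIdeal M)) j = Module.length (GrLC.deg0 𝒜) (E.Hcomp m 0 j) := by
  obtain ⟨e, he⟩ := exists_H_zero_equiv E m
  letI := (Hgr_isInternal 𝒜 ℳ E m 0).chooseDecomposition
  haveI := Hgr_gradedSMul 𝒜 E m 0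
  obtain ⟨ep⟩ := nonempty_pieceEquiv (𝒜 := 𝒜) e he j
  exact ep.length_eq

include hpos hm in
/-- The long exact sequence of a regular element, read off in each degree. -/
theorem eul_step {M' : Type u} [AddCommGroup M'] [Module R M'] [Module.Finite R M']
    {ℳ' : ℤ → AddSubgroup M'} [Decomposition ℳ'] [SetLike.GradedSMul 𝒜 ℳ'] (EQ : StarInjRes 𝒜 ℳ')
    {k : ℕ} (hsupp' : Module.supportDim R M' ≤ ((k + 1 : ℕ) : WithBot ℕ∞)) {f : R} {d : ℕ}
    (hf : f ∈ 𝒜 (d : ℤ)) (hreg : IsSMulRegular M' f)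
    [Decomposition (quotPc ℳ' (LinearMap.range (LinearMap.lsmul R M' f)))]
    [SetLike.GradedSMul 𝒜 (quotPc ℳ' (LinearMap.range (LinearMap.lsmul R M' f)))]
    (EN : StarInjRes 𝒜 (quotPc ℳ' (LinearMap.range (LinearMap.lsmul R M' f))))
    (hsuppN : Module.supportDim R (M' ⧸ LinearMap.range (LinearMap.lsmul R M' f)) ≤ (k : WithBot ℕ∞)) :
    aeval shiftEnd ((X : ℤ[X]) ^ d - 1) (eul EQ m (k + 1)) = -eul EN m k := by
  classical
  funext j
  rw [map_sub, map_pow, aeval_X, map_one, LinearMap.sub_apply, Module.End.one_apply, Pi.sub_apply,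
    shiftEnd_pow_apply, Pi.neg_apply]
  let mulM : M' →ₗ[R] M' := LinearMap.lsmul R M' f
  have hmulM : IsGrHomDeg ℳ' ℳ' mulM (d : ℤ) := fun i z hz => by
    rw [add_comm i (d : ℤ)]
    exact smul_mem ℳ' 𝒜 hf hz
  have hM : plen 𝒜 ℳ' j = plen 𝒜 ℳ' (j - d) + plen 𝒜 (quotPc ℳ' (LinearMap.range (LinearMap.lsmul R M' f))) j :=
    plen_add_of_exact hmulM hreg (fun i z hz => by rw [add_zero]; exact mkQ_isGrHom ℳ' (LinearMap.range (LinearMap.lsmul R M' f)) i z hz)
      (LinearMap.exact_map_mkQ_range mulM) (Submodule.mkQ_surjective (LinearMap.range (LinearMap.lsmul R M' f))) (sub_add_cancel j (d : ℤ))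
      (add_zero j)
  have hM' : ((plen 𝒜 ℳ' j).toNat : ℤ) =
      (plen 𝒜 ℳ' (j - d)).toNat + (plen 𝒜 (quotPc ℳ' (LinearMap.range (LinearMap.lsmul R M' f))) j).toNat := by
    rw [hM, ENat.toNat_add (plen_ne_top_artinian hpos ℳ' _) (plen_ne_top_artinian hpos (quotPc ℳ' (LinearMap.range (LinearMap.lsmul R M' f))) j)]
    push_cast
    rfl
  have hu : ∀ (i : ℕ) (y : EQ.H m i), y ∈ EQ.Hgr m i (j - d) → f • y ∈ EQ.Hgr m i j := fun i y hy => by
    letI := (Hgr_isInternal 𝒜 ℳ' EQ m i).chooseDecomposition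
    haveI := Hgr_gradedSMul 𝒜 EQ m i
    have := smul_mem (EQ.Hgr m i) 𝒜 hf hy
    rwa [add_sub_cancel] at this
  let uf : ∀ i, EQ.Hcomp m i (j - d) →ₗ[GrLC.deg0 𝒜] EQ.Hcomp m i j := fun i =>
    ((LinearMap.lsmul R (EQ.H m i) f).restrictScalars (GrLC.deg0 𝒜)).restrict fun y hy => hu i y hy
  let ek : ℕ → ℤ := fun i => ((Module.length (GrLC.deg0 𝒜) (LinearMap.ker (uf i))).toNat : ℤ)
  have key : ∀ i, ((Module.length (GrLC.deg0 𝒜) (EQ.Hcomp m i j)).toNat : ℤ) -
      (Module.length (GrLC.deg0 𝒜) (EQ.Hcomp m i (j - d))).toNat -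
      (Module.length (GrLC.deg0 𝒜) (EN.Hcomp m i j)).toNat = -(ek i + ek (i + 1)) := by
    intro i
    obtain ⟨p, δ, hp, hδd, hxp, hpδ, hδx, -⟩ := exists_regular_seq EQ EN m hf hreg (LinearMap.range (LinearMap.lsmul R M' f)).mkQ
      (mkQ_isGrHom ℳ' (LinearMap.range (LinearMap.lsmul R M' f))) (Submodule.mkQ_surjective (LinearMap.range (LinearMap.lsmul R M' f))) (Submodule.ker_mkQ (LinearMap.range (LinearMap.lsmul R M' f))) i
    letI := (Hgr_isInternal 𝒜 ℳ' EQ m i).chooseDecomposition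
    haveI := Hgr_gradedSMul 𝒜 EQ m i
    letI := (Hgr_isInternal 𝒜 ℳ' EQ m (i + 1)).chooseDecomposition
    haveI := Hgr_gradedSMul 𝒜 EQ m (i + 1)
    letI := (Hgr_isInternal 𝒜 (quotPc ℳ' (LinearMap.range (LinearMap.lsmul R M' f))) EN m i).chooseDecomposition
    haveI := Hgr_gradedSMul 𝒜 EN m i
    let pl : EQ.Hcomp m i j →ₗ[GrLC.deg0 𝒜] EN.Hcomp m i j :=
      (p.restrictScalars (GrLC.deg0 𝒜)).restrict fun y hy => hp j y hy
    let dl : EN.Hcomp m i j →ₗ[GrLC.deg0 𝒜] EQ.Hcomp m (i + 1) (j - d) :=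
      (δ.restrictScalars (GrLC.deg0 𝒜)).restrict fun y hy => by
        have := hδd j y hy
        rwa [← sub_eq_add_neg] at this
    have e1 : LinearMap.ker pl = LinearMap.range (uf i) := by
      refine le_antisymm (fun y hy => ?_) ?_
      · obtain ⟨w, hw⟩ := (hxp (y : EQ.H m i)).1 (congrArg Subtype.val hy)
        refine ⟨⟨pr (EQ.Hgr m i) (j - d) w, show _ ∈ EQ.Hgr m i (j - d) from pr_mem (EQ.Hgr m i) (j - d) w⟩, Subtype.ext ?_⟩
        show f • pr (EQ.Hgr m i) (j - d) w = (y : EQ.H m i)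
        rw [← pr_smul (EQ.Hgr m i) 𝒜 hf j w]
        exact (congrArg _ hw).trans (pr_of_mem _ (show (y : EQ.H m i) ∈ EQ.Hgr m i j from y.2))
      · rintro _ ⟨w, rfl⟩
        exact Subtype.ext (hxp.apply_apply_eq_zero (w : EQ.H m i))
    have e2 : LinearMap.ker dl = LinearMap.range pl := by
      refine le_antisymm (fun y hy => ?_) ?_
      · obtain ⟨w, hw⟩ := (hpδ (y : EN.H m i)).1 (congrArg Subtype.val hy)
        refine ⟨⟨pr (EQ.Hgr m i) j w, show _ ∈ EQ.Hgr m i j from pr_mem (EQ.Hgr m i) j w⟩, Subtype.ext ?_⟩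
        show p (pr (EQ.Hgr m i) j w) = (y : EN.H m i)
        rw [map_pr (EQ.Hgr m i) (EN.Hgr m i) hp, hw,
          pr_of_mem _ (show (y : EN.H m i) ∈ EN.Hgr m i j from y.2)]
      · rintro _ ⟨w, rfl⟩
        exact Subtype.ext (hpδ.apply_apply_eq_zero (w : EQ.H m i))
    have e3 : LinearMap.range dl = LinearMap.ker (uf (i + 1)) := by
      refine le_antisymm ?_ fun y hy => ?_
      · rintro _ ⟨w, rfl⟩
        exact Subtype.ext (hδx.apply_apply_eq_zero (w : EN.H m i))
      · obtain ⟨w, hw⟩ := (hδx (y : EQ.H m (i + 1))).1 (congrArg Subtype.val hy)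
        refine ⟨⟨pr (EN.Hgr m i) j w, show _ ∈ EN.Hgr m i j from pr_mem (EN.Hgr m i) j w⟩, Subtype.ext ?_⟩
        show δ (pr (EN.Hgr m i) j w) = (y : EQ.H m (i + 1))
        rw [map_pr_deg (EN.Hgr m i) (EQ.Hgr m (i + 1)) hδd, hw, ← sub_eq_add_neg,
          pr_of_mem _ (show (y : EQ.H m (i + 1)) ∈ EQ.Hgr m (i + 1) (j - d) from y.2)]
    exact four_term (uf i) pl dl (uf (i + 1)) e1 e2 e3 (length_Hcomp_ne_top hpos hm EQ i (j - d))
      (length_Hcomp_ne_top hpos hm EQ i j) (length_Hcomp_ne_top hpos hm EN i j)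
  have he0 : ek 0 = 0 := by
    obtain ⟨-, -, -, -, -, -, -, hinj⟩ := exists_regular_seq EQ EN m hf hreg (LinearMap.range (LinearMap.lsmul R M' f)).mkQ
      (mkQ_isGrHom ℳ' (LinearMap.range (LinearMap.lsmul R M' f))) (Submodule.mkQ_surjective (LinearMap.range (LinearMap.lsmul R M' f))) (Submodule.ker_mkQ (LinearMap.range (LinearMap.lsmul R M' f))) 0
    haveI : Subsingleton (LinearMap.ker (uf 0)) := by
      rw [LinearMap.ker_eq_bot.2 fun a b h => Subtype.ext (hinj rfl (congrArg Subtype.val h))]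
      infer_instance
    simp only [ek]
    rw [Module.length_eq_zero_iff.2 inferInstance]
    rfl
  have hetop : ek (k + 2) = 0 := by
    obtain ⟨hs, -⟩ := length_Hcomp_eq_zero_of_lt hm EQ hsupp' (show k + 1 < k + 2 by omega)
    haveI := hs
    simp only [ek]
    rw [Module.length_eq_zero_iff.2 inferInstance]
    rfl
  have hN0 := (length_Hcomp_eq_zero_of_lt hm EN hsuppN (Nat.lt_succ_self k)).2 j
  have hsum := sum_telescope ek (k + 2)
  rw [he0, hetop, mul_zero, sub_zero] at hsum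
  have hneg : (Finset.range (k + 2)).sum (fun i => (-1 : ℤ) ^ i *
      (((Module.length (GrLC.deg0 𝒜) (EQ.Hcomp m i j)).toNat : ℤ) -
      (Module.length (GrLC.deg0 𝒜) (EQ.Hcomp m i (j - d))).toNat -
      (Module.length (GrLC.deg0 𝒜) (EN.Hcomp m i j)).toNat)) = 0 := by
    simp only [key, mul_neg, Finset.sum_neg_distrib, hsum, neg_zero]
  simp only [mul_sub, Finset.sum_sub_distrib] at hneg
  rw [Finset.sum_range_succ (fun i => (-1 : ℤ) ^ i *
    ((Module.length (GrLC.deg0 𝒜) (EN.Hcomp m i j)).toNat : ℤ)) (k + 1), hN0, ENat.toNat_zero,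
    Nat.cast_zero, mul_zero, add_zero] at hneg
  simp only [eul]
  linarith

include hpos hm hstd in
theorem eul_killed (k : ℕ) :
    ∀ (M : Type u) [AddCommGroup M] [Module R M] [Module.Finite R M] (ℳ : ℤ → AddSubgroup M)
      [Decomposition ℳ] [SetLike.GradedSMul 𝒜 ℳ] (E : StarInjRes 𝒜 ℳ),
      Module.supportDim R M ≤ (k : WithBot ℕ∞) →
      ∀ P : ℕ, 0 < P → ∃ ds : List ℕ, ds.length = k ∧ (∀ d ∈ ds, 0 < d ∧ Nat.Coprime d P) ∧
        aeval shiftEnd ((ds.map fun d => (X : ℤ[X]) ^ d - 1).prod) (eul E m k) = 0 := by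
  classical
  induction k with
  | zero =>
    intro M _ _ _ ℳ _ _ E hsupp P _
    refine ⟨[], rfl, fun d hd => absurd hd List.not_mem_nil, ?_⟩
    rw [List.map_nil, List.prod_nil, map_one, Module.End.one_apply]
    have htop := gam_eq_top_of_supportDim_le_zero hpos hm ℳ hsupp
    letI := (subPc_isInternal ℳ (isHomogeneous_gam 𝒜 ℳ m.isHomogeneous)).chooseDecomposition
    haveI := subPc_gradedSMul 𝒜 ℳ (gam m.toIdeal M)
    funext j
    have hlen : plen 𝒜 (subPc ℳ (gam m.toIdeal M)) j = plen 𝒜 ℳ j := by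
      obtain ⟨ep⟩ := nonempty_pieceEquiv (𝒜 := 𝒜) (𝒳 := subPc ℳ (gam m.toIdeal M)) (𝒴 := ℳ)
        (LinearEquiv.ofBijective (gam m.toIdeal M).subtype
          ⟨Subtype.val_injective, fun x => ⟨⟨x, htop.ge Submodule.mem_top⟩, rfl⟩⟩)
        (fun _ _ hx => hx) j
      exact ep.length_eq
    show ((plen 𝒜 ℳ j).toNat : ℤ) - (Finset.range 1).sum
      (fun i => (-1 : ℤ) ^ i * ((Module.length (GrLC.deg0 𝒜) (E.Hcomp m i j)).toNat : ℤ)) = 0
    rw [Finset.sum_range_one, ← hlen, plen_gam_eq E j, pow_zero, one_mul, sub_self]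
  | succ k ih =>
    intro M _ _ _ ℳ _ _ E hsupp P hP
    haveI := isMaximal_of_isStarLocal hpos hm
    letI := (subPc_isInternal ℳ (isHomogeneous_gam 𝒜 ℳ m.isHomogeneous)).chooseDecomposition
    haveI := subPc_gradedSMul 𝒜 ℳ (gam m.toIdeal M)
    letI := (quotPc_isInternal ℳ (isHomogeneous_gam 𝒜 ℳ (a := m.toIdeal) m.isHomogeneous)).chooseDecomposition
    haveI := quotPc_gradedSMul 𝒜 ℳ (gam m.toIdeal M)
    let M' := M ⧸ gam m.toIdeal M
    let ℳ' := quotPc ℳ (gam m.toIdeal M)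
    let EQ := starRes 𝒜 ℳ'
    have hgam' : gam m.toIdeal M' = ⊥ := gam_quot_gam m.toIdeal
    have hsupp' : Module.supportDim R M' ≤ ((k + 1 : ℕ) : WithBot ℕ∞) :=
      (Module.supportDim_le_of_surjective _ (Submodule.mkQ_surjective _)).trans hsupp
    obtain ⟨N₀, hN₀⟩ := exists_regular_of_large' hpos hstd hm ℳ' hgam'
    obtain ⟨d, hd, hdp⟩ := Nat.exists_infinite_primes (N₀ + P + 1)
    obtain ⟨f, hf, hreg⟩ := hN₀ d (by omega)
    have hfm : f ∈ m.toIdeal := irrelevant_le_of_isStarLocal hpos hm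
      (Ideal.subset_span (Set.mem_biUnion (Set.mem_Ioi.2 (by exact_mod_cast hdp.pos)) hf))
    let W : Submodule R M' := LinearMap.range (LinearMap.lsmul R M' f)
    have hW : W.IsHomogeneous ℳ' := by
      rintro g _ ⟨w, rfl⟩
      exact ⟨pr ℳ' (g - d) w, (pr_smul ℳ' 𝒜 hf g w).symm⟩
    letI := (quotPc_isInternal ℳ' hW).chooseDecomposition
    haveI := quotPc_gradedSMul 𝒜 ℳ' W
    let EN : StarInjRes 𝒜 (quotPc ℳ' W) := starRes 𝒜 (quotPc ℳ' W)
    have hsuppN : Module.supportDim R (M' ⧸ W) ≤ (k : WithBot ℕ∞) := by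
      have hWeq : W = f • (⊤ : Submodule R M') := by
        ext z
        rw [Submodule.mem_smul_pointwise_iff_exists]
        exact ⟨fun ⟨w, hw⟩ => ⟨w, Submodule.mem_top, hw⟩, fun ⟨w, _, hw⟩ => ⟨w, hw⟩⟩
      rw [Module.supportDim_eq_of_equiv (Submodule.quotEquivOfEq W _ hWeq)]
      have h := Module.supportDim_quotSMulTop_succ_le_of_notMem_minimalPrimes (M := M') (x := f)
        fun p hp hfp => by
          have hass := Module.associatedPrimes.minimalPrimes_annihilator_subset_associatedPrimes R M' hp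
          obtain ⟨-, w, hw⟩ := isAssociatedPrime_iff.1 hass
          rw [hw, Submodule.mem_colon_singleton, Submodule.mem_bot] at hfp
          have hw0 : w = 0 := hreg (show f • w = f • (0 : M') by rw [hfp, smul_zero])
          refine hass.isPrime.ne_top ?_
          rw [hw, hw0]
          exact (Ideal.eq_top_iff_one _).2 (Submodule.mem_colon_singleton.2 (by simp))
      have h' := h.trans hsupp'
      revert h'
      cases Module.supportDim R (QuotSMulTop f M') with
      | bot => exact fun _ => bot_le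
      | coe c =>
        intro h'
        have h2 : c + 1 ≤ (k : ℕ∞) + 1 := WithBot.coe_le_coe.1 (by exact_mod_cast h')
        exact WithBot.coe_le_coe.2 ((ENat.add_le_add_iff_right (by simp)).1 h2)
    obtain ⟨ds, hlen, hds, hop⟩ := ih (M' ⧸ W) (quotPc ℳ' W) EN hsuppN P hP
    have hcop : Nat.Coprime d P := (Nat.Prime.coprime_iff_not_dvd hdp).2 fun h => by
      have := Nat.le_of_dvd hP h
      omega
    refine ⟨d :: ds, by rw [List.length_cons, hlen], List.forall_mem_cons.2 ⟨⟨hdp.pos, hcop⟩, hds⟩, ?_⟩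
    -- `eul` does not see the torsion
    have hAB : ∀ j, eul E m (k + 1) j = eul EQ m (k + 1) j := by
      intro j
      have h1 : plen 𝒜 ℳ j = plen 𝒜 (subPc ℳ (gam m.toIdeal M)) j + plen 𝒜 ℳ' j :=
        plen_add_of_exact (fun g x hx => by rw [add_zero]; exact subtype_isGrHom ℳ _ g x hx)
          Subtype.val_injective (fun g x hx => by rw [add_zero]; exact mkQ_isGrHom ℳ _ g x hx)
          (LinearMap.exact_subtype_mkQ _) (Submodule.mkQ_surjective _) (add_zero j) (add_zero j)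
      have h2 : Module.length (GrLC.deg0 𝒜) (EQ.Hcomp m 0 j) = 0 := by
        obtain ⟨e, -⟩ := exists_H_zero_equiv EQ m
        haveI : Subsingleton (gam m.toIdeal M') := by rw [hgam']; infer_instance
        haveI : Subsingleton (EQ.H m 0) := e.symm.toEquiv.subsingleton
        exact Module.length_eq_zero_iff.2 inferInstance
      have h3 : ∀ i, Module.length (GrLC.deg0 𝒜) (E.Hcomp m (i + 1) j) =
          Module.length (GrLC.deg0 𝒜) (EQ.Hcomp m (i + 1) j) := fun i => by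
        obtain ⟨ψ, hψ⟩ := exists_H_equiv_quot_gam m E EQ i
        letI := (Hgr_isInternal 𝒜 ℳ E m (i + 1)).chooseDecomposition
        haveI := Hgr_gradedSMul 𝒜 E m (i + 1)
        letI := (Hgr_isInternal 𝒜 ℳ' EQ m (i + 1)).chooseDecomposition
        haveI := Hgr_gradedSMul 𝒜 EQ m (i + 1)
        obtain ⟨ep⟩ := nonempty_pieceEquiv (𝒜 := 𝒜) ψ hψ j
        exact ep.length_eq
      simp only [eul, Finset.sum_range_succ' _ (k + 1)]
      rw [h1, ENat.toNat_add (by rw [plen_gam_eq E j]; exact length_Hcomp_ne_top hpos hm E 0 j)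
        (plen_ne_top_artinian hpos ℳ' j), plen_gam_eq E j, h2]
      simp only [h3, ENat.toNat_zero]
      push_cast
      ring
    -- the long exact sequence in one degree
    have hΔ : aeval shiftEnd ((X : ℤ[X]) ^ d - 1) (eul EQ m (k + 1)) = -eul EN m k := by
      exact eul_step hpos hm EQ hsupp' hf hreg EN hsuppN
    rw [List.map_cons, List.prod_cons, mul_comm, map_mul, Module.End.mul_apply, funext hAB, hΔ, map_neg,
      hop, neg_zero]

include hpos hm hstd in
/-- `(S - 1)^k` kills `eul`. -/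
theorem eul_killed_pow (k : ℕ) {M : Type u} [AddCommGroup M] [Module R M] [Module.Finite R M]
    {ℳ : ℤ → AddSubgroup M} [Decomposition ℳ] [SetLike.GradedSMul 𝒜 ℳ] (E : StarInjRes 𝒜 ℳ)
    (hsupp : Module.supportDim R M ≤ (k : WithBot ℕ∞)) :
    aeval shiftEnd (((X : ℤ[X]) - 1) ^ k) (eul E m k) = 0 :=
  killed_pow_of_coprime _ k (eul_killed hpos hstd hm k M ℳ E hsupp)

include hpos hm hstd in
/-- Serre's formula. -/
theorem hilbert_sub_eq (k : ℕ) {M : Type u} [AddCommGroup M] [Module R M] [Module.Finite R M]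
    {ℳ : ℤ → AddSubgroup M} [Decomposition ℳ] [SetLike.GradedSMul 𝒜 ℳ] (E : StarInjRes 𝒜 ℳ)
    (hsupp : Module.supportDim R M ≤ (k : WithBot ℕ∞)) (P : ℚ[X])
    (hP : ∃ N : ℤ, ∀ n : ℤ, N ≤ n → P.eval (n : ℚ) = ((plen 𝒜 ℳ n).toNat : ℚ)) (n : ℤ) :
    P.eval (n : ℚ) = (eul E m k n : ℚ) := by
  obtain ⟨N, hN⟩ := hP
  choose B hB using fun i => exists_bound_Hgr_starLocal hpos hm E i
  obtain ⟨B₀, hB₀⟩ : ∃ B₀ : ℤ, ∀ x ∈ (Finset.range (k + 1)).image B, x ≤ B₀ := Finset.bddAbove _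
  refine eval_eq_of_killed k _ (eul_killed_pow hpos hstd hm k E hsupp) P (max N B₀) (fun j hj => ?_) n
  rw [hN j (le_of_max_le_left hj), eul]
  have hzero : (Finset.range (k + 1)).sum (fun i => (-1 : ℤ) ^ i *
      ((Module.length (GrLC.deg0 𝒜) (E.Hcomp m i j)).toNat : ℤ)) = 0 :=
    Finset.sum_eq_zero fun i hi => by
      rw [Hcomp_eq_bot_of_Hgr E m i
        (hB i j ((hB₀ _ (Finset.mem_image_of_mem B hi)).trans (le_of_max_le_right hj))),
        Module.length_eq_zero_iff.2 inferInstance, ENat.toNat_zero, Nat.cast_zero, mul_zero]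
  rw [hzero, sub_zero, Int.cast_natCast]

omit [IsArtinianRing (GrLC.deg0 𝒜)] in
include hm in
theorem eul_self_of_cm [LocCoh.IsCohenMacaulayRing R] [m.toIdeal.IsMaximal] {d : ℕ}
    (hd : ringKrullDim R = d) (I : StarInjRes 𝒜 𝒜) (j : ℤ) :
    eul I m d j = ((plen 𝒜 𝒜 j).toNat : ℤ) -
      (-1) ^ d * ((Module.length (GrLC.deg0 𝒜) (I.Hcomp m d j)).toNat : ℤ) := by
  have hzero : (Finset.range d).sum (fun i => (-1 : ℤ) ^ i *
      ((Module.length (GrLC.deg0 𝒜) (I.Hcomp m i j)).toNat : ℤ)) = 0 :=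
    Finset.sum_eq_zero fun i hi => by
      haveI := subsingleton_H_self_of_lt hm hd I (Finset.mem_range.1 hi)
      rw [Module.length_eq_zero_iff.2 inferInstance, ENat.toNat_zero, Nat.cast_zero, mul_zero]
  rw [eul, Finset.sum_range_succ, hzero, zero_add]

end GrothGr
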