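import Groth.Agent.GrMod.LES
import Groth.Agent.GrMod.Euler

/-!
# The Euler characteristic of graded local cohomology is additive in each degree

Helper library (no milestone statements here).
-/

universe u

open DirectSum GrLC

namespace GrothGr

variable {R : Type u} [CommRing R] {𝒜 : ℤ → AddSubgroup R} [GradedRing 𝒜]

section chi

variable {M : Type u} [AddCommGroup M] [Module R M] {ℳ : ℤ → AddSubgroup M} [Decomposition ℳ]
  [SetLike.GradedSMul 𝒜 ℳ]

/-- `Σ_{i ≤ K} (-1)^i length H^i_a(M)_j`. -/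
noncomputable def chiH (E : StarInjRes 𝒜 ℳ) (a : HomogeneousIdeal 𝒜) (K : ℕ) (j : ℤ) : ℤ :=
  (Finset.range (K + 1)).sum
    (fun i => (-1 : ℤ) ^ i * ((Module.length (GrLC.deg0 𝒜) (E.Hcomp a i j)).toNat : ℤ))

/-- The lengths of the pieces do not depend on the resolution. -/
theorem length_Hcomp_congr (E F : StarInjRes 𝒜 ℳ) (a : HomogeneousIdeal 𝒜) (i : ℕ) (j : ℤ) :
    Module.length (GrLC.deg0 𝒜) (E.Hcomp a i j) = Module.length (GrLC.deg0 𝒜) (F.Hcomp a i j) := by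
  obtain ⟨ψ, hψ⟩ := exists_H_equiv E F a i
  letI := (Hgr_isInternal 𝒜 ℳ E a i).chooseDecomposition
  haveI := Hgr_gradedSMul 𝒜 E a i
  letI := (Hgr_isInternal 𝒜 ℳ F a i).chooseDecomposition
  haveI := Hgr_gradedSMul 𝒜 F a i
  obtain ⟨ep⟩ := nonempty_pieceEquiv (𝒜 := 𝒜) ψ hψ j
  exact ep.length_eq

/-- A vanishing piece has length zero. -/
theorem length_Hcomp_of_Hgr (E : StarInjRes 𝒜 ℳ) (a : HomogeneousIdeal 𝒜) (i : ℕ) (j : ℤ)
    (h : E.Hgr a i j = ⊥) : Module.length (GrLC.deg0 𝒜) (E.Hcomp a i j) = 0 := by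
  haveI : Subsingleton (E.Hcomp a i j) := ⟨fun x y => Subtype.ext (by
    have hx : (x : E.H a i) ∈ E.Hgr a i j := x.2
    have hy : (y : E.H a i) ∈ E.Hgr a i j := y.2
    rw [h, AddSubgroup.mem_bot] at hx hy
    rw [hx, hy])⟩
  exact Module.length_eq_zero_iff.2 inferInstance

/-- `H^i` vanishes piece by piece with `H^i`. -/
theorem length_Hcomp_of_subsingleton (E : StarInjRes 𝒜 ℳ) (a : HomogeneousIdeal 𝒜) (i : ℕ) (j : ℤ)
    [Subsingleton (E.H a i)] : Module.length (GrLC.deg0 𝒜) (E.Hcomp a i j) = 0 :=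
  Module.length_eq_zero_iff.2 inferInstance

end chi

variable {A B C : Type u} [AddCommGroup A] [Module R A] [AddCommGroup B] [Module R B]
  [AddCommGroup C] [Module R C]
  {𝒢 : ℤ → AddSubgroup A} [Decomposition 𝒢] [SetLike.GradedSMul 𝒜 𝒢]
  {ℬ : ℤ → AddSubgroup B} [Decomposition ℬ] [SetLike.GradedSMul 𝒜 ℬ]
  {𝒞 : ℤ → AddSubgroup C} [Decomposition 𝒞] [SetLike.GradedSMul 𝒜 𝒞]

/-- One degree of the long exact sequence, in lengths. -/
theorem chiH_of_exact {f : A →ₗ[R] B} {g : B →ₗ[R] C} (hf : IsGrHom 𝒢 ℬ f)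
    (hfi : Function.Injective f) (hg : IsGrHom ℬ 𝒞 g) (hgs : Function.Surjective g)
    (hex : LinearMap.ker g = LinearMap.range f) (EA : StarInjRes 𝒜 𝒢) (EB : StarInjRes 𝒜 ℬ)
    (EC : StarInjRes 𝒜 𝒞) (a : HomogeneousIdeal 𝒜) (j : ℤ) (K : ℕ)
    (hA : ∀ i, Module.length (GrLC.deg0 𝒜) (EA.Hcomp a i j) ≠ ⊤)
    (hC : ∀ i, Module.length (GrLC.deg0 𝒜) (EC.Hcomp a i j) ≠ ⊤)
    (hA0 : Module.length (GrLC.deg0 𝒜) (EA.Hcomp a (K + 1) j) = 0) :
    (∀ i, Module.length (GrLC.deg0 𝒜) (EB.Hcomp a i j) ≠ ⊤) ∧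
      chiH EB a K j = chiH EA a K j + chiH EC a K j := by
  classical
  obtain ⟨H⟩ := nonempty_horse f g EA EC hf hfi hg hgs hex
  let EB' := H.res hg hex hgs
  let ul : ∀ i, EA.Hcomp a i j →ₗ[GrLC.deg0 𝒜] EB'.Hcomp a i j := fun i =>
    ((H.inlH a hg hex hgs i).restrictScalars (GrLC.deg0 𝒜)).restrict fun y hy =>
      H.inlH_grHom a hg hex hgs i j y hy
  let pl : ∀ i, EB'.Hcomp a i j →ₗ[GrLC.deg0 𝒜] EC.Hcomp a i j := fun i =>
    ((H.sndH a hg hex hgs i).restrictScalars (GrLC.deg0 𝒜)).restrict fun y hy =>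
      H.sndH_grHom a hg hex hgs i j y hy
  let dl : ∀ i, EC.Hcomp a i j →ₗ[GrLC.deg0 𝒜] EA.Hcomp a (i + 1) j := fun i =>
    ((H.δ a i).restrictScalars (GrLC.deg0 𝒜)).restrict fun y hy => H.δ_grHom a i j y hy
  have e1 : ∀ i, LinearMap.ker (pl i) = LinearMap.range (ul i) := by
    intro i
    letI := (Hgr_isInternal 𝒜 𝒢 EA a i).chooseDecomposition
    haveI := Hgr_gradedSMul 𝒜 EA a i
    letI := (Hgr_isInternal 𝒜 ℬ EB' a i).chooseDecomposition
    haveI := Hgr_gradedSMul 𝒜 EB' a i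
    refine le_antisymm (fun y hy => ?_) ?_
    · obtain ⟨w, hw⟩ := (H.exact_inl_snd a hg hex hgs i (y : EB'.H a i)).1 (congrArg Subtype.val hy)
      refine ⟨⟨pr (EA.Hgr a i) j w, show _ ∈ EA.Hgr a i j from pr_mem (EA.Hgr a i) j w⟩, Subtype.ext ?_⟩
      show H.inlH a hg hex hgs i (pr (EA.Hgr a i) j w) = (y : EB'.H a i)
      rw [map_pr (EA.Hgr a i) (EB'.Hgr a i) (H.inlH_grHom a hg hex hgs i), hw,
        pr_of_mem _ (show (y : EB'.H a i) ∈ EB'.Hgr a i j from y.2)]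
    · rintro _ ⟨w, rfl⟩
      exact Subtype.ext ((H.exact_inl_snd a hg hex hgs i).apply_apply_eq_zero (w : EA.H a i))
  have e2 : ∀ i, LinearMap.ker (dl i) = LinearMap.range (pl i) := by
    intro i
    letI := (Hgr_isInternal 𝒜 ℬ EB' a i).chooseDecomposition
    haveI := Hgr_gradedSMul 𝒜 EB' a i
    letI := (Hgr_isInternal 𝒜 𝒞 EC a i).chooseDecomposition
    haveI := Hgr_gradedSMul 𝒜 EC a i
    refine le_antisymm (fun y hy => ?_) ?_
    · obtain ⟨w, hw⟩ := (H.exact_snd_δ a hg hex hgs i (y : EC.H a i)).1 (congrArg Subtype.val hy)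
      refine ⟨⟨pr (EB'.Hgr a i) j w, show _ ∈ EB'.Hgr a i j from pr_mem (EB'.Hgr a i) j w⟩, Subtype.ext ?_⟩
      show H.sndH a hg hex hgs i (pr (EB'.Hgr a i) j w) = (y : EC.H a i)
      rw [map_pr (EB'.Hgr a i) (EC.Hgr a i) (H.sndH_grHom a hg hex hgs i), hw,
        pr_of_mem _ (show (y : EC.H a i) ∈ EC.Hgr a i j from y.2)]
    · rintro _ ⟨w, rfl⟩
      exact Subtype.ext ((H.exact_snd_δ a hg hex hgs i).apply_apply_eq_zero (w : EB'.H a i))
  have e3 : ∀ i, LinearMap.range (dl i) = LinearMap.ker (ul (i + 1)) := by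
    intro i
    letI := (Hgr_isInternal 𝒜 𝒞 EC a i).chooseDecomposition
    haveI := Hgr_gradedSMul 𝒜 EC a i
    letI := (Hgr_isInternal 𝒜 𝒢 EA a (i + 1)).chooseDecomposition
    haveI := Hgr_gradedSMul 𝒜 EA a (i + 1)
    refine le_antisymm ?_ fun y hy => ?_
    · rintro _ ⟨w, rfl⟩
      exact Subtype.ext ((H.exact_δ_inl a hg hex hgs i).apply_apply_eq_zero (w : EC.H a i))
    · obtain ⟨w, hw⟩ := (H.exact_δ_inl a hg hex hgs i (y : EA.H a (i + 1))).1 (congrArg Subtype.val hy)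
      refine ⟨⟨pr (EC.Hgr a i) j w, show _ ∈ EC.Hgr a i j from pr_mem (EC.Hgr a i) j w⟩, Subtype.ext ?_⟩
      show H.δ a i (pr (EC.Hgr a i) j w) = (y : EA.H a (i + 1))
      rw [map_pr (EC.Hgr a i) (EA.Hgr a (i + 1)) (H.δ_grHom a i), hw,
        pr_of_mem _ (show (y : EA.H a (i + 1)) ∈ EA.Hgr a (i + 1) j from y.2)]
  have hB' : ∀ i, Module.length (GrLC.deg0 𝒜) (EB'.Hcomp a i j) ≠ ⊤ := by
    intro i
    rw [length_ker_add_range (pl i), e1 i]
    refine WithTop.add_ne_top.2 ⟨?_, ?_⟩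
    · exact ne_top_of_le_ne_top (hA i)
        (Module.length_le_of_surjective _ (ul i).surjective_rangeRestrict)
    · exact ne_top_of_le_ne_top (hC i) (Module.length_le_of_injective _ (LinearMap.range (pl i)).injective_subtype)
  refine ⟨fun i => by rw [length_Hcomp_congr EB EB' a i j]; exact hB' i, ?_⟩
  let ek : ℕ → ℤ := fun i => ((Module.length (GrLC.deg0 𝒜) (LinearMap.ker (ul i))).toNat : ℤ)
  have key : ∀ i, ((Module.length (GrLC.deg0 𝒜) (EB'.Hcomp a i j)).toNat : ℤ) -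
      (Module.length (GrLC.deg0 𝒜) (EA.Hcomp a i j)).toNat -
      (Module.length (GrLC.deg0 𝒜) (EC.Hcomp a i j)).toNat = -(ek i + ek (i + 1)) := fun i =>
    four_term (ul i) (pl i) (dl i) (ul (i + 1)) (e1 i) (e2 i) (e3 i) (hA i) (hB' i) (hC i)
  have he0 : ek 0 = 0 := by
    haveI : Subsingleton (LinearMap.ker (ul 0)) := by
      rw [LinearMap.ker_eq_bot.2 fun x y h => Subtype.ext
        (H.inlH_zero_injective a hg hex hgs (congrArg Subtype.val h))]
      infer_instance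
    simp only [ek]
    rw [Module.length_eq_zero_iff.2 inferInstance]
    rfl
  have hetop : ek (K + 1) = 0 := by
    haveI := Module.length_eq_zero_iff.1 hA0
    simp only [ek]
    rw [Module.length_eq_zero_iff.2 inferInstance]
    rfl
  have hsum := sum_telescope ek (K + 1)
  rw [he0, hetop, mul_zero, sub_zero] at hsum
  have hneg : (Finset.range (K + 1)).sum (fun i => (-1 : ℤ) ^ i *
      (((Module.length (GrLC.deg0 𝒜) (EB'.Hcomp a i j)).toNat : ℤ) -
      (Module.length (GrLC.deg0 𝒜) (EA.Hcomp a i j)).toNat -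
      (Module.length (GrLC.deg0 𝒜) (EC.Hcomp a i j)).toNat)) = 0 := by
    simp only [key, mul_neg, Finset.sum_neg_distrib, hsum, neg_zero]
  simp only [mul_sub, Finset.sum_sub_distrib] at hneg
  simp only [chiH]
  rw [Finset.sum_congr rfl fun i _ => by rw [length_Hcomp_congr EB EB' a i j]]
  linarith

/-- If the third term has no cohomology in a degree, the first two have the same there. -/
theorem length_Hcomp_eq_of_third_zero {f : A →ₗ[R] B} {g : B →ₗ[R] C} (hf : IsGrHom 𝒢 ℬ f)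
    (hfi : Function.Injective f) (hg : IsGrHom ℬ 𝒞 g) (hgs : Function.Surjective g)
    (hex : LinearMap.ker g = LinearMap.range f) (EA : StarInjRes 𝒜 𝒢) (EB : StarInjRes 𝒜 ℬ)
    (EC : StarInjRes 𝒜 𝒞) (a : HomogeneousIdeal 𝒜) (j : ℤ) (hC : ∀ i, EC.Hgr a i j = ⊥) (i : ℕ) :
    Module.length (GrLC.deg0 𝒜) (EA.Hcomp a i j) = Module.length (GrLC.deg0 𝒜) (EB.Hcomp a i j) := by
  obtain ⟨H⟩ := nonempty_horse f g EA EC hf hfi hg hgs hex
  let EB' := H.res hg hex hgs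
  rw [length_Hcomp_congr EB EB' a i j]
  let ul : EA.Hcomp a i j →ₗ[GrLC.deg0 𝒜] EB'.Hcomp a i j :=
    ((H.inlH a hg hex hgs i).restrictScalars (GrLC.deg0 𝒜)).restrict fun y hy =>
      H.inlH_grHom a hg hex hgs i j y hy
  refine (LinearEquiv.ofBijective ul ⟨(injective_iff_map_eq_zero ul).2 fun y hy => ?_, fun y => ?_⟩).length_eq
  · cases i with
    | zero => exact Subtype.ext (H.inlH_zero_injective a hg hex hgs
        ((congrArg Subtype.val hy).trans (map_zero _).symm))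
    | succ k =>
      letI := (Hgr_isInternal 𝒜 𝒞 EC a k).chooseDecomposition
      haveI := Hgr_gradedSMul 𝒜 EC a k
      letI := (Hgr_isInternal 𝒜 𝒢 EA a (k + 1)).chooseDecomposition
      haveI := Hgr_gradedSMul 𝒜 EA a (k + 1)
      obtain ⟨w, hw⟩ := (H.exact_δ_inl a hg hex hgs k (y : EA.H a (k + 1))).1 (congrArg Subtype.val hy)
      have h1 := map_pr (EC.Hgr a k) (EA.Hgr a (k + 1)) (H.δ_grHom a k) j w
      rw [show pr (EC.Hgr a k) j w = 0 from AddSubgroup.mem_bot.1 (hC k ▸ pr_mem _ j w), map_zero, hw,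
        pr_of_mem _ (show (y : EA.H a (k + 1)) ∈ EA.Hgr a (k + 1) j from y.2)] at h1
      exact Subtype.ext h1.symm
  · letI := (Hgr_isInternal 𝒜 𝒢 EA a i).chooseDecomposition
    haveI := Hgr_gradedSMul 𝒜 EA a i
    letI := (Hgr_isInternal 𝒜 ℬ EB' a i).chooseDecomposition
    haveI := Hgr_gradedSMul 𝒜 EB' a i
    have h0 : H.sndH a hg hex hgs i (y : EB'.H a i) = 0 := by
      have h2 : H.sndH a hg hex hgs i (y : EB'.H a i) ∈ EC.Hgr a i j :=
        H.sndH_grHom a hg hex hgs i j _ y.2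
      rw [hC i] at h2
      exact AddSubgroup.mem_bot.1 h2
    obtain ⟨w, hw⟩ := (H.exact_inl_snd a hg hex hgs i (y : EB'.H a i)).1 h0
    refine ⟨⟨pr (EA.Hgr a i) j w, show _ ∈ EA.Hgr a i j from pr_mem (EA.Hgr a i) j w⟩, Subtype.ext ?_⟩
    show H.inlH a hg hex hgs i (pr (EA.Hgr a i) j w) = (y : EB'.H a i)
    rw [map_pr (EA.Hgr a i) (EB'.Hgr a i) (H.inlH_grHom a hg hex hgs i), hw,
      pr_of_mem _ (show (y : EB'.H a i) ∈ EB'.Hgr a i j from y.2)]

/-- The pieces of the cohomology of a shifted resolution. -/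
theorem Hcomp_shiftRes (E : StarInjRes 𝒜 𝒢) (g : ℤ) (a : HomogeneousIdeal 𝒜) (i : ℕ) (j : ℤ) :
    (shiftRes E g).Hcomp a i j = E.Hcomp a i (j - g) := rfl

/-- Two exact sequences `0 → P → M → G → 0` and `0 → P(-1) → M → T → 0` with `G` of finite
cohomological pieces and `T` without cohomology in positive degrees: the pieces of `H^i_{R₊}(M)` in
degrees `≥ 0` have finite length and their Euler characteristic telescopes. -/
theorem chiH_telescope [IsNoetherianRing R] (hpos : ∀ n : ℤ, n < 0 → 𝒜 n = ⊥)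
    (a : HomogeneousIdeal 𝒜)
    (ha : a.toIdeal = Ideal.span (⋃ n ∈ Set.Ioi (0 : ℤ), (𝒜 n : Set R)))
    [Module.Finite R B] (P : Submodule R B)
    [Decomposition (subPc ℬ P)] [SetLike.GradedSMul 𝒜 (subPc ℬ P)]
    [Decomposition (quotPc ℬ P)] [SetLike.GradedSMul 𝒜 (quotPc ℬ P)]
    (φ : P →ₗ[R] B) (hφ : IsGrHom (shiftPc (subPc ℬ P) 1) ℬ φ) (hφi : Function.Injective φ)
    [Decomposition (quotPc ℬ (LinearMap.range φ))] [SetLike.GradedSMul 𝒜 (quotPc ℬ (LinearMap.range φ))]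
    (E : StarInjRes 𝒜 ℬ) (EG : StarInjRes 𝒜 (quotPc ℬ P))
    (ET : StarInjRes 𝒜 (quotPc ℬ (LinearMap.range φ))) (K : ℕ)
    (hvan : ∀ (N : Type u) [AddCommGroup N] [Module R N] (i : ℕ), K < i →
      Subsingleton (LocCoh.H a.toIdeal i N))
    (hG : ∀ n i : ℕ, Module.length (GrLC.deg0 𝒜) (EG.Hcomp a i n) ≠ ⊤)
    (hT : ∀ j : ℤ, 0 < j → ∀ i, ET.Hgr a i j = ⊥) :
    (∃ r : ℕ, ∀ n : ℕ, r ≤ n → chiH E a K n = 0) ∧
      ∀ n : ℕ, (∀ i, Module.length (GrLC.deg0 𝒜) (E.Hcomp a i n) ≠ ⊤) ∧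
        chiH E a K n = chiH E a K ((n + 1 : ℕ) : ℤ) + chiH EG a K n := by
  classical
  let EP := starRes 𝒜 (subPc ℬ P)
  have hshift : ∀ (n i : ℕ), Module.length (GrLC.deg0 𝒜) (EP.Hcomp a i n) =
      Module.length (GrLC.deg0 𝒜) (E.Hcomp a i ((n + 1 : ℕ) : ℤ)) := by
    intro n i
    have h := length_Hcomp_eq_of_third_zero hφ hφi (mkQ_isGrHom ℬ (LinearMap.range φ))
      (Submodule.mkQ_surjective _) (Submodule.ker_mkQ _) (shiftRes EP 1) E ET a ((n + 1 : ℕ) : ℤ)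
      (fun i => hT _ (by omega) i) i
    rwa [Hcomp_shiftRes, show (((n + 1 : ℕ) : ℤ) - 1) = (n : ℤ) by omega] at h
  obtain ⟨r, hr⟩ := exists_uniform_bound hpos a ha E
  have hzero : ∀ (n i : ℕ), r ≤ (n : ℤ) → Module.length (GrLC.deg0 𝒜) (E.Hcomp a i n) = 0 :=
    fun n i hn => length_Hcomp_of_Hgr E a i n (hr i n hn)
  have hstep : ∀ n : ℕ, (∀ i, Module.length (GrLC.deg0 𝒜) (E.Hcomp a i ((n + 1 : ℕ) : ℤ)) ≠ ⊤) →
      (∀ i, Module.length (GrLC.deg0 𝒜) (E.Hcomp a i n) ≠ ⊤) ∧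
        chiH E a K n = chiH E a K ((n + 1 : ℕ) : ℤ) + chiH EG a K n := by
    intro n hn
    have hN : ∀ i, Module.length (GrLC.deg0 𝒜) (EP.Hcomp a i n) ≠ ⊤ := fun i => by
      rw [hshift]; exact hn i
    have hN0 : Module.length (GrLC.deg0 𝒜) (EP.Hcomp a (K + 1) n) = 0 := by
      obtain ⟨e⟩ := nonempty_H_equiv 𝒜 (subPc ℬ P) a EP (K + 1)
      haveI := hvan P (K + 1) (Nat.lt_succ_self K)
      haveI : Subsingleton (EP.H a (K + 1)) := e.toEquiv.subsingleton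
      exact length_Hcomp_of_subsingleton EP a (K + 1) n
    obtain ⟨h1, h2⟩ := chiH_of_exact (subtype_isGrHom ℬ P) Subtype.val_injective
      (mkQ_isGrHom ℬ P) (Submodule.mkQ_surjective _) (by rw [Submodule.ker_mkQ, Submodule.range_subtype])
      EP E EG a (n : ℤ) K hN (hG n) hN0
    refine ⟨h1, h2.trans ?_⟩
    congr 1
    simp only [chiH, hshift]
  have hfin : ∀ (t n : ℕ), r ≤ (n : ℤ) + t →
      ∀ i, Module.length (GrLC.deg0 𝒜) (E.Hcomp a i n) ≠ ⊤ := by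
    intro t
    induction t with
    | zero =>
      intro n hn i
      rw [hzero n i (by simpa using hn)]
      exact ENat.zero_ne_top
    | succ t ih => exact fun n hn => (hstep n (ih (n + 1) (by push_cast at hn ⊢; omega))).1
  refine ⟨⟨r.toNat, fun n hn => ?_⟩, fun n => ⟨hfin r.toNat n (by omega), (hstep n (hfin r.toNat (n + 1) (by omega))).2⟩⟩
  exact Finset.sum_eq_zero fun i _ => by
    rw [hzero n i (by omega), ENat.toNat_zero, Nat.cast_zero, mul_zero]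

end GrothGr
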