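import Groth.Agent.GrMod.Ext
import Groth.Agent.Gorenstein.ExtBaseChange
import Groth.Agent.LocDual.ExtLocalIso
import Mathlib.Algebra.Module.FinitePresentation

/-!
# `Ext` of graded modules is graded, and commutes with localization

Helper library (no milestone statements here).
-/

set_option autoImplicit false

universe u

open DirectSum GrLC CategoryTheory

namespace GrothGr.ExtGr

section Shift

variable {A : Type u} [CommRing A] {M K F N : Type u} [AddCommGroup M] [Module A M] [AddCommGroup K]
  [Module A K] [AddCommGroup F] [Module A F] [AddCommGroup N] [Module A N] {inc : K →ₗ[A] F}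
  {g : F →ₗ[A] M} (hex : Function.Exact inc g) (hinc : Function.Injective inc)
  (hg : Function.Surjective g) [Module.Projective A F]

/-- The connecting map `Ext^(j+1)(K,N) → Ext^(j+2)(M,N)`. -/
noncomputable def shiftN (j : ℕ) :
    Abelian.Ext (ModuleCat.of A K) (ModuleCat.of A N) j →ₗ[A]
      Abelian.Ext (ModuleCat.of A M) (ModuleCat.of A N) (j + 1) :=
  (GrothGoren.seqCx_shortExact inc g hex hinc hg).extClass.precompOfLinear A _ (Nat.add_comm 1 j)

/-- The connecting map `Hom(K,N) → Ext^1(M,N)`. -/
noncomputable def shiftN₀ :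
    (K →ₗ[A] N) →ₗ[A] Abelian.Ext (ModuleCat.of A M) (ModuleCat.of A N) 1 :=
  shiftN hex hinc hg 0 ∘ₗ
    (Abelian.Ext.linearEquiv₀ (R := A)).symm.toLinearMap ∘ₗ
      (ModuleCat.homLinearEquiv (S := A) (M := ModuleCat.of A K) (N := ModuleCat.of A N)).symm.toLinearMap

omit [Module.Projective A F] in
theorem shiftN₀_apply (φ : K →ₗ[A] N) :
    shiftN₀ hex hinc hg φ = (GrothGoren.seqCx_shortExact inc g hex hinc hg).extClass.comp
      (Abelian.Ext.mk₀ (ModuleCat.ofHom φ)) (add_zero 1) := rfl

theorem shiftN₀_surjective : Function.Surjective (shiftN₀ (N := N) hex hinc hg) := by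
  intro x
  obtain ⟨y, hy⟩ := Abelian.Ext.contravariant_sequence_exact₃
    (GrothGoren.seqCx_shortExact inc g hex hinc hg)
    (ModuleCat.of A N) x (Subsingleton.elim (h := GrothGoren.extZ_of_projective) _ _) (n₀ := 0) rfl
  obtain ⟨h, rfl⟩ := (Abelian.Ext.mk₀_bijective _ _).2 y
  exact ⟨h.hom, hy⟩

omit [Module.Projective A F] in
theorem shiftN₀_eq_zero_iff (φ : K →ₗ[A] N) :
    shiftN₀ hex hinc hg φ = 0 ↔ ∃ h : F →ₗ[A] N, h ∘ₗ inc = φ := by
  rw [shiftN₀_apply]
  constructor
  · intro h0
    obtain ⟨y, hy⟩ := Abelian.Ext.contravariant_sequence_exact₁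
      (GrothGoren.seqCx_shortExact inc g hex hinc hg) (ModuleCat.of A N) _ (add_zero 1) h0
    obtain ⟨h, rfl⟩ := (Abelian.Ext.mk₀_bijective _ _).2 y
    rw [Abelian.Ext.mk₀_comp_mk₀] at hy
    exact ⟨h.hom, congrArg ModuleCat.Hom.hom ((Abelian.Ext.mk₀_bijective _ _).1 hy)⟩
  · rintro ⟨h, rfl⟩
    have h1 : Abelian.Ext.mk₀ (ModuleCat.ofHom (h ∘ₗ inc)) =
        (Abelian.Ext.mk₀ (GrothGoren.seqCx inc g hex).f).comp (Abelian.Ext.mk₀ (ModuleCat.ofHom h))
          (add_zero 0) := (Abelian.Ext.mk₀_comp_mk₀ _ _).symm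
    rw [h1, ← Abelian.Ext.comp_assoc (a₁₂ := 1) (a₂₃ := 0) _ _ _ (add_zero 1) (add_zero 0)
      (by omega), (GrothGoren.seqCx_shortExact inc g hex hinc hg).extClass_comp,
      Abelian.Ext.zero_comp]

theorem shiftN_bijective (j : ℕ) : Function.Bijective (shiftN (N := N) hex hinc hg (j + 1)) := by
  have hS := GrothGoren.seqCx_shortExact inc g hex hinc hg
  constructor
  · rw [injective_iff_map_eq_zero]
    intro y hy
    obtain ⟨z, rfl⟩ := Abelian.Ext.contravariant_sequence_exact₁ hS (ModuleCat.of A N) y
      (Nat.add_comm 1 (j + 1)) hy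
    rw [Subsingleton.elim (h := GrothGoren.extZ_of_projective) z 0, Abelian.Ext.comp_zero]
  · intro x
    obtain ⟨y, hy⟩ := Abelian.Ext.contravariant_sequence_exact₃ hS (ModuleCat.of A N) x
      (Subsingleton.elim (h := GrothGoren.extZ_of_projective) _ _) (Nat.add_comm 1 (j + 1))
    exact ⟨y, hy⟩

end Shift

variable {ι : Type} [AddCommGroup ι] [DecidableEq ι]
variable {R : Type u} [CommRing R] (𝒜 : ι → AddSubgroup R) [GradedRing 𝒜]
variable {M : Type u} [AddCommGroup M] [Module R M] (ℳ : ι → AddSubgroup M) [Decomposition ℳ]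
  [SetLike.GradedSMul 𝒜 ℳ]
variable {N : Type u} [AddCommGroup N] [Module R N] (𝒩 : ι → AddSubgroup N) [Decomposition 𝒩]
  [SetLike.GradedSMul 𝒜 𝒩]

/-- Homogeneous linear maps. -/
def homPc : ι → AddSubgroup (M →ₗ[R] N) := fun d => (homDeg 𝒜 ℳ 𝒩 d).toAddSubgroup

theorem degPart_of_isGrHomDeg {f : M →ₗ[R] N} {d : ι} (hf : f ∈ homPc 𝒜 ℳ 𝒩 d) (e : ι) :
    degPart 𝒜 ℳ 𝒩 f e = if e = d then f else 0 := by
  refine LinearMap.ext fun x => ?_
  induction x using DirectSum.Decomposition.inductionOn ℳ with
  | zero => rw [map_zero, map_zero]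
  | add a b ha hb => rw [map_add, map_add, ha, hb]
  | @homogeneous i x =>
    rw [degPart_of_mem 𝒜 ℳ 𝒩 f e x.2]
    split_ifs with h
    · rw [h, pr_of_mem 𝒩 (hf i x x.2)]
    · rw [pr_of_mem_ne 𝒩 (hf i x x.2) fun h' => h (add_left_cancel h').symm, LinearMap.zero_apply]

open Classical in
theorem homPc_isInternal [Module.Finite R M] : DirectSum.IsInternal (homPc 𝒜 ℳ 𝒩) := by
  refine isInternal_of _ (fun f => ?_) fun s v hv hsum g hg => ?_
  · obtain ⟨D, hD⟩ := exists_sum_degPart 𝒜 ℳ 𝒩 f
    rw [← hD]
    refine sum_mem fun d _ => AddSubgroup.mem_iSup_of_mem d fun i x hx => ?_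
    rw [degPart_of_mem 𝒜 ℳ 𝒩 f d hx]
    exact pr_mem 𝒩 _ _
  · refine LinearMap.ext fun x => ?_
    induction x using DirectSum.Decomposition.inductionOn ℳ with
    | zero => rw [map_zero, map_zero]
    | add a b ha hb => rw [map_add, map_add, ha, hb]
    | @homogeneous i x =>
      have h1 : pr 𝒩 (i + g) ((∑ j ∈ s, v j) (x : M)) = v g (x : M) := by
        rw [LinearMap.sum_apply, map_sum, Finset.sum_eq_single g (fun j _ hne => pr_of_mem_ne 𝒩
          (hv j i x x.2) fun h => hne (add_left_cancel h)) (fun h => absurd hg h),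
          pr_of_mem 𝒩 (hv g i x x.2)]
      rw [hsum, LinearMap.zero_apply, map_zero] at h1
      rw [LinearMap.zero_apply, ← h1]

theorem homPc_gradedSMul : SetLike.GradedSMul 𝒜 (homPc 𝒜 ℳ 𝒩) := by
  refine ⟨fun {a g r f} hr hf => fun i x hx => ?_⟩
  show r • f x ∈ 𝒩 (i + (a +ᵥ g))
  rw [vadd_eq_add, add_left_comm]
  exact smul_mem 𝒩 𝒜 hr (hf i x hx)

/-- Linear maps out of a finitely generated graded module, as a graded module. -/
noncomputable abbrev homGMod [Module.Finite R M] : GMod.{u} 𝒜 :=
  mkGMod 𝒜 (M →ₗ[R] N) (homPc 𝒜 ℳ 𝒩) (homPc_isInternal 𝒜 ℳ 𝒩)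
    fun _ _ _ _ hr hm => (homPc_gradedSMul 𝒜 ℳ 𝒩).smul_mem hr hm

variable [IsNoetherianRing R]

theorem finite_hom [Module.Finite R M] [Module.Finite R N] : Module.Finite R (M →ₗ[R] N) := by
  obtain ⟨k, g, hg⟩ := Module.Finite.exists_fin' R M
  exact Module.Finite.of_injective (LinearMap.lcomp R N g) fun a b hab => LinearMap.ext fun q => by
    obtain ⟨v, rfl⟩ := hg q
    exact LinearMap.congr_fun hab v

variable (P : Ideal R) [P.IsPrime]

/-- Homomorphisms of finitely generated modules localize. -/
noncomputable def locHomN (M N : Type u) [AddCommGroup M] [Module R M] [Module.Finite R M]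
    [AddCommGroup N] [Module R N] :
    LocalizedModule P.primeCompl (M →ₗ[R] N) ≃ₗ[Localization.AtPrime P]
      (LocalizedModule P.primeCompl M →ₗ[Localization.AtPrime P] LocalizedModule P.primeCompl N) :=
  haveI := Module.finitePresentation_of_finite R M
  (IsLocalizedModule.iso P.primeCompl (LocalizedModule.map P.primeCompl (M := M) (N := N))
    ).extendScalarsOfIsLocalization P.primeCompl (Localization.AtPrime P)

theorem locHomN_mk (M N : Type u) [AddCommGroup M] [Module R M] [Module.Finite R M]
    [AddCommGroup N] [Module R N] (φ : M →ₗ[R] N) :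
    locHomN P M N (LocalizedModule.mkLinearMap P.primeCompl _ φ) =
      LocalizedModule.map P.primeCompl φ := by
  haveI := Module.finitePresentation_of_finite R M
  exact IsLocalizedModule.iso_apply_mk P.primeCompl _ φ 1 |>.trans (by simp)

include 𝒩 in
/-- `Ext^j(M, N)` is a finitely generated graded module and commutes with localization. -/
theorem exists_graded_ext [Module.Finite R N] : ∀ (j : ℕ) (M : GMod.{u} 𝒜), Module.Finite R M.carrier →
    (∃ D : GMod.{u} 𝒜, Module.Finite R D.carrier ∧
      Nonempty (D.carrier ≃ₗ[R] Abelian.Ext (ModuleCat.of R M.carrier) (ModuleCat.of R N) j)) ∧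
    Nonempty (LocalizedModule P.primeCompl
        (Abelian.Ext (ModuleCat.of R M.carrier) (ModuleCat.of R N) j) ≃ₗ[Localization.AtPrime P]
      Abelian.Ext (ModuleCat.of (Localization.AtPrime P) (LocalizedModule P.primeCompl M.carrier))
        (ModuleCat.of (Localization.AtPrime P) (LocalizedModule P.primeCompl N)) j) := by
  intro j
  induction j with
  | zero =>
    intro M hM
    let e : Abelian.Ext (ModuleCat.of R M.carrier) (ModuleCat.of R N) 0 ≃ₗ[R]
        (M.carrier →ₗ[R] N) :=
      (Abelian.Ext.linearEquiv₀ (R := R)).trans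
        (ModuleCat.homLinearEquiv (S := R) (M := ModuleCat.of R M.carrier) (N := ModuleCat.of R N))
    exact ⟨⟨homGMod 𝒜 M.gr 𝒩, finite_hom, ⟨e.symm⟩⟩,
      ⟨((Groth.LocDual.localizedEquiv P e).trans (locHomN P M.carrier N)).trans
        ((Abelian.Ext.linearEquiv₀ (R := Localization.AtPrime P)).trans
          (ModuleCat.homLinearEquiv (S := Localization.AtPrime P)
            (M := ModuleCat.of (Localization.AtPrime P) (LocalizedModule P.primeCompl M.carrier))
            (N := ModuleCat.of (Localization.AtPrime P)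
              (LocalizedModule P.primeCompl N)))).symm⟩⟩
  | succ j ih =>
    intro M hM
    obtain ⟨n, d, g, hgr, hg⟩ := exists_free_presentation 𝒜 M.gr
    have hK := isHomogeneous_ker hgr
    letI := (subPc_isInternal (freePc 𝒜 d) hK).chooseDecomposition
    haveI := subPc_gradedSMul 𝒜 (freePc 𝒜 d) (LinearMap.ker g)
    set inc := (LinearMap.ker g).subtype
    have hex : Function.Exact inc g := LinearMap.exact_subtype_ker_map g
    have hinc : Function.Injective inc := Submodule.injective_subtype _
    have hex' := LocalizedModule.map_exact P.primeCompl inc g hex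
    have hinc' := LocalizedModule.map_injective P.primeCompl inc hinc
    have hg' := LocalizedModule.map_surjective P.primeCompl g hg
    cases j with
    | succ j =>
      obtain ⟨⟨D, hD, ⟨eD⟩⟩, ⟨eL⟩⟩ := ih (sub 𝒜 (freePc 𝒜 d) hK)
        (inferInstanceAs (Module.Finite R (LinearMap.ker g)))
      exact ⟨⟨D, hD, ⟨eD.trans (LinearEquiv.ofBijective _ (shiftN_bijective hex hinc hg j))⟩⟩,
        ⟨((Groth.LocDual.localizedEquiv P (LinearEquiv.ofBijective _
          (shiftN_bijective hex hinc hg j))).symm.trans eL).trans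
            (LinearEquiv.ofBijective _ (shiftN_bijective hex' hinc' hg' j))⟩⟩
    | zero =>
      let rK : ((Fin n → R) →ₗ[R] N) →ₗ[R] (LinearMap.ker g →ₗ[R] N) := LinearMap.lcomp R N inc
      let dd := shiftN₀ (N := N) hex hinc hg
      have hdd : Function.Surjective dd := shiftN₀_surjective hex hinc hg
      have hexd : Function.Exact rK dd := fun φ => shiftN₀_eq_zero_iff hex hinc hg φ
      letI := (homPc_isInternal 𝒜 (freePc 𝒜 d) 𝒩).chooseDecomposition
      letI := (homPc_isInternal 𝒜 (subPc (freePc 𝒜 d) (LinearMap.ker g)) 𝒩).chooseDecomposition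
      have hrK : IsGrHom (homPc 𝒜 (freePc 𝒜 d) 𝒩)
          (homPc 𝒜 (subPc (freePc 𝒜 d) (LinearMap.ker g)) 𝒩) rK := fun e h hh i x hx =>
        hh i (x : Fin n → R) hx
      have hhom : (LinearMap.ker dd).IsHomogeneous
          (homPc 𝒜 (subPc (freePc 𝒜 d) (LinearMap.ker g)) 𝒩) := by
        rw [hexd.linearMap_ker_eq]
        exact isHomogeneous_range hrK
      haveI := homPc_gradedSMul 𝒜 (subPc (freePc 𝒜 d) (LinearMap.ker g)) 𝒩
      haveI : Module.Finite R (LinearMap.ker g →ₗ[R] N) := finite_hom
      refine ⟨⟨quot 𝒜 (homPc 𝒜 (subPc (freePc 𝒜 d) (LinearMap.ker g)) 𝒩) hhom,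
        inferInstanceAs (Module.Finite R ((LinearMap.ker g →ₗ[R] N) ⧸ LinearMap.ker dd)),
        ⟨dd.quotKerEquivOfSurjective hdd⟩⟩, ?_⟩
      let A := Localization.AtPrime P
      let d' := shiftN₀ (A := A) (K := LocalizedModule P.primeCompl (LinearMap.ker g))
        (F := LocalizedModule P.primeCompl (Fin n → R)) (M := LocalizedModule P.primeCompl M.carrier)
        (N := LocalizedModule P.primeCompl N) hex' hinc' hg'
      have hd' : Function.Surjective d' := shiftN₀_surjective hex' hinc' hg'
      let Ld := LocalizedModule.map P.primeCompl dd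
      have hexL := LocalizedModule.map_exact P.primeCompl rK dd hexd
      let T : LocalizedModule P.primeCompl (LinearMap.ker g →ₗ[R] N) →ₗ[A]
          Abelian.Ext (ModuleCat.of A (LocalizedModule P.primeCompl M.carrier))
            (ModuleCat.of A (LocalizedModule P.primeCompl N)) (0 + 1) :=
        d' ∘ₗ (locHomN P (LinearMap.ker g) N).toLinearMap
      have hT : Function.Surjective T := hd'.comp (locHomN P _ N).surjective
      have hcomm : ∀ z, locHomN P (LinearMap.ker g) N (LocalizedModule.map P.primeCompl rK z) =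
          locHomN P (Fin n → R) N z ∘ₗ LocalizedModule.map P.primeCompl inc := by
        let L₁ := (locHomN P (LinearMap.ker g) N).toLinearMap ∘ₗ
          LocalizedModule.map P.primeCompl rK
        let L₂ := LinearMap.lcomp A (LocalizedModule P.primeCompl N)
          (LocalizedModule.map P.primeCompl inc) ∘ₗ (locHomN P (Fin n → R) N).toLinearMap
        suffices h : L₁ = L₂ from fun z => LinearMap.congr_fun h z
        refine LinearMap.ext fun z => ?_
        induction z using LocalizedModule.induction_on with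
        | h h₁ s =>
          have hs : IsUnit (algebraMap R A s) := IsLocalization.map_units _ s
          refine hs.smul_left_cancel.1 ?_
          rw [← map_smul, ← map_smul, algebraMap_smul, LocalizedModule.smul'_mk]
          have hmk : LocalizedModule.mk ((s : R) • h₁) s =
              LocalizedModule.mkLinearMap P.primeCompl _ h₁ := by
            rw [← Submonoid.smul_def, LocalizedModule.mk_cancel]
            rfl
          rw [hmk]
          show locHomN P (LinearMap.ker g) N (LocalizedModule.map P.primeCompl rK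
            (LocalizedModule.mkLinearMap P.primeCompl _ h₁)) =
              locHomN P (Fin n → R) N (LocalizedModule.mkLinearMap P.primeCompl _ h₁) ∘ₗ
                LocalizedModule.map P.primeCompl inc
          rw [locHomN_mk, LocalizedModule.mkLinearMap_apply, LocalizedModule.map_mk,
            ← LocalizedModule.mkLinearMap_apply, locHomN_mk]
          refine LinearMap.ext fun w => ?_
          induction w using LocalizedModule.induction_on with
          | h x t =>
            rw [LinearMap.comp_apply, LocalizedModule.map_mk, LocalizedModule.map_mk,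
              LocalizedModule.map_mk]
            rfl
      have hker : LinearMap.ker T = LinearMap.ker Ld := by
        ext z
        show d' (locHomN P _ N z) = 0 ↔ Ld z = 0
        refine (shiftN₀_eq_zero_iff hex' hinc' hg' _).trans (Iff.trans ?_ (hexL z).symm)
        constructor
        · rintro ⟨h, hh⟩
          refine ⟨(locHomN P (Fin n → R) N).symm h, (locHomN P (LinearMap.ker g) N).injective ?_⟩
          refine (hcomm _).trans ?_
          rw [LinearEquiv.apply_symm_apply, hh]
        · rintro ⟨w, rfl⟩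
          exact ⟨locHomN P (Fin n → R) N w, (hcomm w).symm⟩
      let eT := LinearMap.quotKerEquivOfSurjective (R := A)
        (M := LocalizedModule P.primeCompl (LinearMap.ker g →ₗ[R] N)) T hT
      let eL := LinearMap.quotKerEquivOfSurjective (R := A)
        (M := LocalizedModule P.primeCompl (LinearMap.ker g →ₗ[R] N))
        (M₂ := LocalizedModule P.primeCompl
          (Abelian.Ext (ModuleCat.of R M.carrier) (ModuleCat.of R N) (0 + 1)))
        Ld (LocalizedModule.map_surjective P.primeCompl dd hdd)
      exact ⟨(eL.symm.trans (Submodule.quotEquivOfEq _ _ hker.symm)).trans eT⟩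

end GrothGr.ExtGr
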