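import Groth.Agent.GrMod.Bounded
import Mathlib.RingTheory.Ideal.GoingUp
import Mathlib.RingTheory.IntegralClosure.IsIntegralClosure.Basic

/-!
# Finite homomorphisms of positively graded rings: the irrelevant ideal upstairs

Helper library (no milestone statements here).
-/

set_option autoImplicit false

universe u

open DirectSum GrLC

namespace GrothGr.FiniteOver

variable {R : Type u} [CommRing R] {𝒜 : ℤ → AddSubgroup R} [GradedRing 𝒜]
  {S : Type u} [CommRing S] [Algebra R S] [Module.Finite R S] {𝒮 : ℤ → AddSubgroup S} [GradedRing 𝒮]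
  (hf : ∀ j : ℤ, (𝒜 j).map (algebraMap R S : R →+ S) ≤ 𝒮 j)

omit [Module.Finite R S] in
include hf in
theorem algebraMap_mem {j : ℤ} {r : R} (hr : r ∈ 𝒜 j) : algebraMap R S r ∈ 𝒮 j :=
  hf j (AddSubgroup.mem_map_of_mem _ hr)

omit [Module.Finite R S] in
include hf in
theorem pr_algebraMap (j : ℤ) (r : R) : pr 𝒮 j (algebraMap R S r) = algebraMap R S (pr 𝒜 j r) := by
  induction r using DirectSum.Decomposition.inductionOn 𝒜 with
  | zero => simp
  | add a b ha hb => rw [map_add, map_add, map_add, ha, hb, map_add]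
  | @homogeneous i r =>
    rcases eq_or_ne i j with rfl | h
    · rw [pr_of_mem 𝒜 r.2, pr_of_mem 𝒮 (algebraMap_mem hf r.2)]
    · rw [pr_of_mem_ne 𝒜 r.2 h, pr_of_mem_ne 𝒮 (algebraMap_mem hf r.2) h, map_zero]

variable (hpos : ∀ n : ℤ, n < 0 → 𝒜 n = ⊥) {m : Ideal R}
  (hmsp : m = Ideal.span (⋃ n ∈ Set.Ioi (0 : ℤ), (𝒜 n : Set R)))

include hf hpos hmsp in
/-- A positive degree element upstairs is nilpotent modulo the positive degrees downstairs. -/
theorem exists_pow_mem {d : ℤ} (hd : 0 < d) {s : S} (hs : s ∈ 𝒮 d) :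
    ∃ N : ℕ, s ^ N ∈ m.map (algebraMap R S) := by
  obtain ⟨P, hmonic, hP⟩ := Algebra.IsIntegral.isIntegral (R := R) s
  have hpow : ∀ i : ℕ, s ^ i ∈ 𝒮 ((i : ℤ) * d) := fun i => by
    simpa using SetLike.pow_mem_graded i hs
  refine ⟨P.natDegree, ?_⟩
  have h1 : pr 𝒮 ((P.natDegree : ℤ) * d) (Polynomial.eval₂ (algebraMap R S) s P) = 0 := by
    rw [show Polynomial.eval₂ (algebraMap R S) s P = 0 from hP, map_zero]
  rw [Polynomial.eval₂_eq_sum_range, map_sum, Finset.sum_range_succ, hmonic.coeff_natDegree,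
    map_one, one_mul, pr_of_mem 𝒮 (hpow _)] at h1
  rw [eq_neg_of_add_eq_zero_right h1]
  refine neg_mem (Ideal.sum_mem _ fun i hi => ?_)
  have hpc : pr 𝒮 ((P.natDegree : ℤ) * d) (algebraMap R S (P.coeff i) * s ^ i) =
      algebraMap R S (pr 𝒜 ((P.natDegree : ℤ) * d - i * d) (P.coeff i)) * s ^ i := by
    rw [mul_comm (algebraMap R S (P.coeff i)) (s ^ i), ← smul_eq_mul (s ^ i), pr_smul 𝒮 𝒮 (hpow i),
      pr_algebraMap hf, smul_eq_mul, mul_comm (s ^ i)]
  rw [hpc]
  refine Ideal.mul_mem_right _ _ (Ideal.mem_map_of_mem _ ?_)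
  rw [hmsp]
  refine Ideal.subset_span (Set.mem_biUnion (x := (P.natDegree : ℤ) * d - i * d) ?_ (pr_mem 𝒜 _ _))
  have : (i : ℤ) < P.natDegree := by exact_mod_cast Finset.mem_range.1 hi
  exact Set.mem_Ioi.2 (by nlinarith)

variable {m' : Ideal S} [m'.IsMaximal] (hm'sp : m' = Ideal.span (⋃ j ∈ Set.Ioi (0 : ℤ), (𝒮 j : Set S)))

include hf hmsp hm'sp in
theorem map_le : m.map (algebraMap R S) ≤ m' := by
  rw [Ideal.map_le_iff_le_comap, hmsp, Ideal.span_le]
  intro r hr
  simp only [Set.mem_iUnion, SetLike.mem_coe, Set.mem_Ioi] at hr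
  obtain ⟨a, ha, hra⟩ := hr
  show algebraMap R S r ∈ m'
  rw [hm'sp]
  exact Ideal.subset_span (Set.mem_biUnion (Set.mem_Ioi.2 ha) (algebraMap_mem hf hra))

include hf hpos hmsp hm'sp in
theorem le_radical : m' ≤ (m.map (algebraMap R S)).radical := by
  rw [hm'sp, Ideal.span_le]
  intro s hs
  simp only [Set.mem_iUnion, SetLike.mem_coe, Set.mem_Ioi] at hs
  obtain ⟨d, hd, hsd⟩ := hs
  exact exists_pow_mem hf hpos hmsp hd hsd

include hf hpos hmsp hm'sp in
/-- The irrelevant ideal upstairs is the only prime above the one downstairs. -/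
theorem eq_of_comap {Q : Ideal S} [hQp : Q.IsPrime] (h : m ≤ Q.comap (algebraMap R S)) :
    Q = m' :=
  (Ideal.IsMaximal.eq_of_le ‹m'.IsMaximal› hQp.ne_top
    ((le_radical hf hpos hmsp hm'sp).trans
      (hQp.radical_le_iff.2 (Ideal.map_le_iff_le_comap.2 h)))).symm

include hf hmsp hm'sp in
theorem comap_eq [hm : m.IsMaximal] : m'.comap (algebraMap R S) = m :=
  (hm.eq_of_le (Ideal.comap_ne_top _ (Ideal.IsMaximal.ne_top ‹_›))
    (Ideal.map_le_iff_le_comap.1 (map_le hf hmsp hm'sp))).symm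

variable [m.IsMaximal]

include hf hpos hmsp hm'sp in
/-- Localizing at the irrelevant ideal upstairs is localizing at the one downstairs. -/
theorem isLocalizedModule_restrict {M M' : Type u} [AddCommGroup M] [Module R M] [Module S M]
    [IsScalarTower R S M] [AddCommGroup M'] [Module R M'] [Module S M'] [IsScalarTower R S M']
    (f : M →ₗ[S] M') [IsLocalizedModule m'.primeCompl f] :
    IsLocalizedModule m.primeCompl (f.restrictScalars R) := by
  haveI : Algebra.IsIntegral R S := Algebra.IsIntegral.of_finite R S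
  have hnot : ∀ {r : R}, r ∉ m → algebraMap R S r ∉ m' := fun {r} hr h => hr
    ((comap_eq hf hmsp hm'sp).le h)
  have hkey : ∀ t : m'.primeCompl, ∃ (r : m.primeCompl) (v : S),
      algebraMap R S (r : R) = v * (t : S) := fun t => by
    by_contra hcon
    push Not at hcon
    have hle : (Ideal.span {(t : S)}).comap (algebraMap R S) ≤ m := fun r hr => by
      by_contra hrm
      obtain ⟨v, hv⟩ := Ideal.mem_span_singleton'.1 hr
      exact hcon ⟨r, hrm⟩ v hv.symm
    obtain ⟨Q, hQ, hQp, hQm⟩ := Ideal.exists_ideal_over_prime_of_isIntegral m _ hle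
    have := eq_of_comap hf hpos hmsp hm'sp (Q := Q) (hQp := hQp) hQm.ge
    exact t.2 (this.le (hQ (Ideal.mem_span_singleton_self _)))
  constructor
  · intro r
    have h := IsLocalizedModule.map_units f (⟨_, hnot r.2⟩ : m'.primeCompl)
    rw [Module.End.isUnit_iff] at h ⊢
    convert h using 1
    funext x
    exact (algebraMap_smul S (r : R) x).symm
  · intro y
    obtain ⟨⟨x, t⟩, hx⟩ := IsLocalizedModule.surj m'.primeCompl f y
    obtain ⟨r, v, hrv⟩ := hkey t
    refine ⟨⟨v • x, r⟩, ?_⟩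
    show (r : R) • y = f (v • x)
    rw [map_smul, ← algebraMap_smul S (r : R) y, hrv, mul_smul]
    exact congrArg (v • ·) hx
  · intro x₁ x₂ h
    obtain ⟨t, ht⟩ := IsLocalizedModule.exists_of_eq (S := m'.primeCompl) (f := f) h
    obtain ⟨r, v, hrv⟩ := hkey t
    refine ⟨r, ?_⟩
    show (r : R) • x₁ = (r : R) • x₂
    rw [← algebraMap_smul S (r : R) x₁, ← algebraMap_smul S (r : R) x₂, hrv, mul_smul, mul_smul]
    exact congrArg (v • ·) ht

end GrothGr.FiniteOver
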