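import Groth.Agent.GrMod.HullDual
import Groth.Agent.GrMod.Ext
import Mathlib.RingTheory.Length
import Mathlib.Algebra.Module.FinitePresentation
import Mathlib.LinearAlgebra.Quotient.Pi

/-!
# Finitely generated graded modules are determined by their localization at the irrelevant ideal

For a Noetherian positively graded ring `R` with `R 0` a field and irrelevant ideal `m`, two
finitely generated graded modules with isomorphic localizations at `m` are isomorphic (graded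
Krull–Schmidt argument).

Helper library (no milestone statements here).
-/

set_option autoImplicit false

universe u

open DirectSum GrLC

namespace GrothGr.KS

/-- Length of a quotient. -/
noncomputable def qlen (R : Type u) [CommRing R] {X : Type u} [AddCommGroup X] [Module R X]
    (S : Submodule R X) : ℕ∞ := Module.length R (X ⧸ S)

section Generic

variable {R : Type u} [CommRing R] {X Y Z : Type u} [AddCommGroup X] [Module R X] [AddCommGroup Y]
  [Module R Y] [AddCommGroup Z] [Module R Z]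

theorem qlen_eq_of (φ : X →ₗ[R] Y) (S : Submodule R X) (T : Submodule R Y)
    (h₁ : ∀ x, φ x ∈ T ↔ x ∈ S) (h₂ : ∀ y, ∃ x, y - φ x ∈ T) : qlen R S = qlen R T := by
  have hk : LinearMap.ker (T.mkQ ∘ₗ φ) = S := by
    ext x
    rw [LinearMap.mem_ker, LinearMap.comp_apply, Submodule.mkQ_apply, Submodule.Quotient.mk_eq_zero]
    exact h₁ x
  have hs : Function.Surjective (T.mkQ ∘ₗ φ) := fun q => by
    obtain ⟨y, rfl⟩ := Submodule.mkQ_surjective T q
    obtain ⟨x, hx⟩ := h₂ y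
    exact ⟨x, ((Submodule.Quotient.eq T).2 hx).symm⟩
  exact ((Submodule.quotEquivOfEq _ _ hk.symm).trans
    ((T.mkQ ∘ₗ φ).quotKerEquivOfSurjective hs)).length_eq

theorem qlen_add_of (φ : X →ₗ[R] Y) (ψ : X →ₗ[R] Z) (S : Submodule R X) (T : Submodule R Y)
    (U : Submodule R Z) (h₁ : ∀ x, φ x ∈ T ∧ ψ x ∈ U ↔ x ∈ S)
    (h₂ : ∀ y z, ∃ x, φ x = y ∧ ψ x = z) : qlen R S = qlen R T + qlen R U := by
  let χ : X →ₗ[R] (Y ⧸ T) × (Z ⧸ U) := (T.mkQ ∘ₗ φ).prod (U.mkQ ∘ₗ ψ)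
  have hk : LinearMap.ker χ = S := by
    ext x
    rw [LinearMap.mem_ker, show χ x = (T.mkQ (φ x), U.mkQ (ψ x)) from rfl, Prod.mk_eq_zero,
      Submodule.mkQ_apply, Submodule.mkQ_apply,
      Submodule.Quotient.mk_eq_zero, Submodule.Quotient.mk_eq_zero]
    exact h₁ x
  have hs : Function.Surjective χ := fun q => by
    obtain ⟨y, hy⟩ := Submodule.mkQ_surjective T q.1
    obtain ⟨z, hz⟩ := Submodule.mkQ_surjective U q.2
    obtain ⟨x, hxy, hxz⟩ := h₂ y z
    exact ⟨x, Prod.ext ((congrArg T.mkQ hxy).trans hy) ((congrArg U.mkQ hxz).trans hz)⟩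
  unfold qlen
  rw [← Module.length_prod]
  exact ((Submodule.quotEquivOfEq _ _ hk.symm).trans (χ.quotKerEquivOfSurjective hs)).length_eq

end Generic

variable {R : Type u} [CommRing R] {𝒜 : ℤ → AddSubgroup R} [GradedRing 𝒜]
variable {M : Type u} [AddCommGroup M] [Module R M] {ℳ : ℤ → AddSubgroup M} [Decomposition ℳ]
  [SetLike.GradedSMul 𝒜 ℳ]
variable {N : Type u} [AddCommGroup N] [Module R N] {𝒩 : ℤ → AddSubgroup N} [Decomposition 𝒩]
  [SetLike.GradedSMul 𝒜 𝒩]

omit [GradedRing 𝒜] [SetLike.GradedSMul 𝒜 ℳ] in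
theorem ext_hom {f g : M →ₗ[R] N} (h : ∀ i, ∀ x ∈ ℳ i, f x = g x) : f = g := by
  refine LinearMap.ext fun x => ?_
  induction x using DirectSum.Decomposition.inductionOn ℳ with
  | zero => rw [map_zero, map_zero]
  | add a b ha hb => rw [map_add, map_add, ha, hb]
  | @homogeneous i x => exact h i x x.2

omit [GradedRing 𝒜] [SetLike.GradedSMul 𝒜 ℳ] [SetLike.GradedSMul 𝒜 𝒩] in
theorem degPart_mem_deg (g : M →ₗ[R] N) (d i : ℤ) [GradedRing 𝒜] [SetLike.GradedSMul 𝒜 ℳ]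
    [SetLike.GradedSMul 𝒜 𝒩] {x : M} (hx : x ∈ ℳ i) :
    degPart 𝒜 ℳ 𝒩 g d x ∈ 𝒩 (i + d) := by
  rw [degPart_of_mem 𝒜 ℳ 𝒩 g d hx]
  exact pr_mem 𝒩 _ _

omit [GradedRing 𝒜] [SetLike.GradedSMul 𝒜 ℳ] [SetLike.GradedSMul 𝒜 𝒩] in
theorem isHomogeneous_ker_deg {f : M →ₗ[R] N} {d : ℤ} (hf : ∀ i, ∀ x ∈ ℳ i, f x ∈ 𝒩 (i + d)) :
    (LinearMap.ker f).IsHomogeneous ℳ := fun g m hm => by
  rw [LinearMap.mem_ker] at hm ⊢
  rw [← pr_apply ℳ g m, map_pr_deg ℳ 𝒩 (f := f) (d := d) hf, hm, map_zero]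

omit [GradedRing 𝒜] [SetLike.GradedSMul 𝒜 ℳ] [SetLike.GradedSMul 𝒜 𝒩] in
theorem isHomogeneous_range_deg {f : M →ₗ[R] N} {d : ℤ} (hf : ∀ i, ∀ x ∈ ℳ i, f x ∈ 𝒩 (i + d)) :
    (LinearMap.range f).IsHomogeneous 𝒩 := by
  rintro g _ ⟨x, rfl⟩
  refine ⟨pr ℳ (g - d) x, ?_⟩
  rw [map_pr_deg ℳ 𝒩 (f := f) (d := d) hf, sub_add_cancel, pr_apply]

section Q

variable {Q : Type u} [AddCommGroup Q] [Module R Q] (𝒬 : ℤ → AddSubgroup Q) [Decomposition 𝒬]

/-- No nontrivial decomposition into homogeneous submodules. -/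
def Indec (R : Type u) [CommRing R] {Q : Type u} [AddCommGroup Q] [Module R Q]
    (𝒬 : ℤ → AddSubgroup Q) [Decomposition 𝒬] : Prop :=
  Nontrivial Q ∧ ∀ A B : Submodule R Q, A.IsHomogeneous 𝒬 → B.IsHomogeneous 𝒬 → IsCompl A B →
    A = ⊥ ∨ B = ⊥

variable [SetLike.GradedSMul 𝒜 𝒬]

variable (𝒜) in
/-- The degree zero part of an endomorphism. -/
noncomputable def dz (x : Q →ₗ[R] Q) : Q →ₗ[R] Q := degPart 𝒜 𝒬 𝒬 x 0

theorem dz_of_mem (x : Q →ₗ[R] Q) {i : ℤ} {q : Q} (hq : q ∈ 𝒬 i) :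
    dz 𝒜 𝒬 x q = pr 𝒬 i (x q) := by
  unfold dz
  rw [degPart_of_mem 𝒜 𝒬 𝒬 x 0 hq, add_zero]

theorem dz_isGrHom (x : Q →ₗ[R] Q) : IsGrHom 𝒬 𝒬 (dz 𝒜 𝒬 x) := fun i q hq => by
  rw [dz_of_mem 𝒬 x hq]
  exact pr_mem 𝒬 i _

theorem dz_zero : dz 𝒜 𝒬 (0 : Q →ₗ[R] Q) = 0 := ext_hom (ℳ := 𝒬) fun i q hq => by
  simp [dz_of_mem 𝒬 _ hq]

theorem dz_id : dz 𝒜 𝒬 (LinearMap.id : Q →ₗ[R] Q) = LinearMap.id :=
  ext_hom (ℳ := 𝒬) fun i q hq => by
    rw [dz_of_mem 𝒬 _ hq, LinearMap.id_apply, pr_of_mem 𝒬 hq]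

theorem dz_add (x y : Q →ₗ[R] Q) : dz 𝒜 𝒬 (x + y) = dz 𝒜 𝒬 x + dz 𝒜 𝒬 y :=
  ext_hom (ℳ := 𝒬) fun i q hq => by
    rw [LinearMap.add_apply, dz_of_mem 𝒬 _ hq, dz_of_mem 𝒬 _ hq, dz_of_mem 𝒬 _ hq,
      LinearMap.add_apply, map_add]

theorem dz_sum {κ : Type*} (s : Finset κ) (x : κ → Q →ₗ[R] Q) :
    dz 𝒜 𝒬 (∑ j ∈ s, x j) = ∑ j ∈ s, dz 𝒜 𝒬 (x j) := by
  classical
  induction s using Finset.induction_on with
  | empty => rw [Finset.sum_empty, Finset.sum_empty, dz_zero]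
  | insert a s ha ih => rw [Finset.sum_insert ha, Finset.sum_insert ha, dz_add, ih]

variable [IsNoetherianRing R] [Module.Finite R Q]
  (hpos : ∀ n : ℤ, n < 0 → 𝒜 n = ⊥) (h0 : IsField (GrLC.deg0 𝒜))

include hpos h0 in
/-- Fitting's lemma. -/
theorem bijective_or_pow_eq_zero (hQ : Indec R 𝒬) {x : Q →ₗ[R] Q} (hx : IsGrHom 𝒬 𝒬 x) :
    Function.Bijective x ∨ IsNilpotent x := by
  obtain ⟨n₀, hn₀⟩ := Filter.eventually_atTop.1 (Module.End.eventually_disjoint_ker_pow_range_pow x)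
  have hdisj := hn₀ (n₀ + 1) (Nat.le_succ _)
  have hy : ∀ n : ℕ, IsGrHom 𝒬 𝒬 (x ^ n) := fun n => by
    induction n with
    | zero => exact isGrHom_id 𝒬
    | succ n ih =>
      intro i q hq
      rw [pow_succ, Module.End.mul_apply]
      exact ih i _ (hx i q hq)
  set y := x ^ (n₀ + 1) with hydef
  have hsup : LinearMap.ker y ⊔ LinearMap.range y = ⊤ := by
    rw [eq_top_iff]
    intro q _
    obtain ⟨s, -, hs⟩ := exists_sum_pr 𝒬 q
    rw [← hs]
    refine Submodule.sum_mem _ fun i _ => ?_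
    letI : Field (GrLC.deg0 𝒜) := h0.toField
    haveI := finite_piece (𝒜 := 𝒜) hpos 𝒬 i
    let yi : GrLC.comp 𝒜 𝒬 i →ₗ[GrLC.deg0 𝒜] GrLC.comp 𝒜 𝒬 i :=
      { toFun := fun v => ⟨y v, hy _ i v v.2⟩
        map_add' := fun a b => Subtype.ext (map_add y (a : Q) (b : Q))
        map_smul' := fun r a => Subtype.ext (map_smul y (r : R) (a : Q)) }
    have hd : Disjoint (LinearMap.ker yi) (LinearMap.range yi) := by
      rw [Submodule.disjoint_def]
      rintro v hv ⟨w, rfl⟩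
      refine Subtype.ext (Submodule.disjoint_def.1 hdisj _ ?_ ⟨(w : Q), rfl⟩)
      exact congrArg Subtype.val (LinearMap.mem_ker.1 hv)
    have hv : (⟨pr 𝒬 i q, pr_mem 𝒬 i q⟩ : GrLC.comp 𝒜 𝒬 i) ∈
        LinearMap.ker yi ⊔ LinearMap.range yi := by
      rw [Submodule.eq_top_of_disjoint _ _
        (le_of_eq (by rw [add_comm, LinearMap.finrank_range_add_finrank_ker])) hd]
      exact Submodule.mem_top
    obtain ⟨a, ha, _, ⟨w, rfl⟩, hab⟩ := Submodule.mem_sup.1 hv
    exact Submodule.mem_sup.2 ⟨(a : Q), congrArg Subtype.val (LinearMap.mem_ker.1 ha), y (w : Q),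
      ⟨_, rfl⟩, congrArg Subtype.val hab⟩
  rcases hQ.2 (LinearMap.ker y) (LinearMap.range y) (isHomogeneous_ker (hy _))
    (isHomogeneous_range (hy _)) ⟨hdisj, codisjoint_iff.2 hsup⟩ with h | h
  · refine Or.inl ?_
    rw [h, bot_sup_eq] at hsup
    have hu : IsUnit (x ^ (n₀ + 1)) :=
      (Module.End.isUnit_iff _).2 ⟨LinearMap.ker_eq_bot.1 h, LinearMap.range_eq_top.1 hsup⟩
    exact (Module.End.isUnit_iff _).1 ((isUnit_pow_iff (Nat.succ_ne_zero _)).1 hu)
  · exact Or.inr ⟨n₀ + 1, LinearMap.range_eq_bot.1 h⟩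

omit [IsNoetherianRing R] [Module.Finite R Q] [SetLike.GradedSMul 𝒜 𝒬] in
theorem not_bijective_zero (hQ : Indec R 𝒬) : ¬ Function.Bijective (0 : Q →ₗ[R] Q) := by
  haveI := hQ.1
  obtain ⟨a, b, hab⟩ := exists_pair_ne Q
  exact fun h => hab (h.injective rfl)

include hpos h0 in
theorem bijective_of_add (hQ : Indec R 𝒬) {a b : Q →ₗ[R] Q} (ha : IsGrHom 𝒬 𝒬 a)
    (hab : IsGrHom 𝒬 𝒬 (a + b)) (h : Function.Bijective (a + b)) :
    Function.Bijective a ∨ Function.Bijective b := by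
  let e := LinearEquiv.ofBijective (a + b) h
  have he : IsGrHom 𝒬 𝒬 e.symm.toLinearMap := isGrHom_symm e hab
  rcases bijective_or_pow_eq_zero (𝒜 := 𝒜) 𝒬 hpos h0 hQ (IsGrHom.comp he ha) with h1 | h1
  · refine Or.inl ?_
    have := e.bijective.comp h1
    convert this using 1
    exact funext fun q => (e.apply_symm_apply (a q)).symm
  · refine Or.inr ?_
    have h2 := (Module.End.isUnit_iff _).1 (IsNilpotent.isUnit_one_sub h1)
    have := e.bijective.comp h2
    convert this using 1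
    funext q
    show b q = e (q - e.symm (a q))
    rw [map_sub, e.apply_symm_apply]
    show b q = (a + b) q - a q
    rw [LinearMap.add_apply, add_sub_cancel_left]

include hpos h0 in
theorem exists_bijective_of_sum (hQ : Indec R 𝒬) {κ : Type*} (s : Finset κ) (x : κ → Q →ₗ[R] Q)
    (hx : ∀ j, IsGrHom 𝒬 𝒬 (x j)) (h : Function.Bijective (∑ j ∈ s, x j : Q →ₗ[R] Q)) :
    ∃ j ∈ s, Function.Bijective (x j) := by
  classical
  induction s using Finset.induction_on with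
  | empty => exact absurd (Finset.sum_empty (f := x) ▸ h) (not_bijective_zero 𝒬 hQ)
  | insert a s ha ih =>
    rw [Finset.sum_insert ha] at h
    have hs : IsGrHom 𝒬 𝒬 (∑ j ∈ s, x j : Q →ₗ[R] Q) := fun i q hq => by
      rw [LinearMap.sum_apply]
      exact sum_mem fun j _ => hx j i q hq
    have hsum : IsGrHom 𝒬 𝒬 (x a + ∑ j ∈ s, x j) := fun i q hq =>
      add_mem (hx a i q hq) (hs i q hq)
    rcases bijective_of_add 𝒬 hpos h0 hQ (hx a) hsum h with h' | h'
    · exact ⟨a, Finset.mem_insert_self a s, h'⟩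
    · obtain ⟨j, hj, hj'⟩ := ih h'
      exact ⟨j, Finset.mem_insert_of_mem hj, hj'⟩

variable {X : Type u} [AddCommGroup X] [Module R X]

/-- Maps out of `Q` that are not split injective up to degree shifts. -/
def bad (hQ : Indec R 𝒬) (X : Type u) [AddCommGroup X] [Module R X] : Submodule R (Q →ₗ[R] X) where
  carrier := {h | ∀ g : X →ₗ[R] Q, ¬ Function.Bijective (dz 𝒜 𝒬 (g ∘ₗ h))}
  add_mem' {a b} ha hb g hg := by
    rw [LinearMap.comp_add, dz_add] at hg
    rcases bijective_of_add 𝒬 hpos h0 hQ (dz_isGrHom 𝒬 _)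
      (fun i q hq => add_mem (dz_isGrHom 𝒬 _ i q hq) (dz_isGrHom 𝒬 _ i q hq)) hg with h | h
    · exact ha g h
    · exact hb g h
  zero_mem' g := by
    rw [LinearMap.comp_zero, dz_zero]
    exact not_bijective_zero 𝒬 hQ
  smul_mem' r a ha g := by
    rw [LinearMap.comp_smul, ← LinearMap.smul_comp]
    exact ha (r • g)

variable {𝒬}
variable (hQ : Indec R 𝒬)

theorem mem_bad {h : Q →ₗ[R] X} :
    h ∈ bad 𝒬 hpos h0 hQ X ↔ ∀ g : X →ₗ[R] Q, ¬ Function.Bijective (dz 𝒜 𝒬 (g ∘ₗ h)) := Iff.rfl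

/-- The multiplicity of `Q` in `X`. -/
noncomputable def mult (X : Type u) [AddCommGroup X] [Module R X] : ℕ∞ :=
  qlen R (bad 𝒬 hpos h0 hQ X)

variable {m : Ideal R} (hmsp : m = Ideal.span (⋃ n ∈ Set.Ioi (0 : ℤ), (𝒜 n : Set R)))

omit hpos h0 hQ in
/-- Lower bound on the degrees of a finitely generated module. -/
theorem exists_lowest (hpos : ∀ n : ℤ, n < 0 → 𝒜 n = ⊥) [Nontrivial Q] :
    ∃ j, ∃ q ∈ 𝒬 j, q ≠ 0 ∧ ∀ k, k < j → 𝒬 k = ⊥ := by
  classical
  obtain ⟨n, d, g, hg, hsurj⟩ := exists_free_presentation 𝒜 𝒬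
  obtain ⟨B, hB⟩ : ∃ B : ℤ, ∀ i, B ≤ d i := by
    obtain ⟨B, hB⟩ := (Set.finite_range d).bddBelow
    exact ⟨B, fun i => hB ⟨i, rfl⟩⟩
  have hlow : ∀ k, k < B → 𝒬 k = ⊥ := fun k hk => (AddSubgroup.eq_bot_iff_forall _).2 fun q hq => by
    obtain ⟨v, rfl⟩ := hsurj q
    rw [← pr_of_mem 𝒬 hq, ← map_pr (freePc 𝒜 d) 𝒬 hg, show pr (freePc 𝒜 d) k v = 0 from ?_,
      map_zero]
    funext i
    have h := (mem_freePc 𝒜 d k _).1 (pr_mem (freePc 𝒜 d) k v) i
    have hlt : k - d i < 0 := by linarith [hB i]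
    rw [hpos _ hlt, AddSubgroup.mem_bot] at h
    exact h
  obtain ⟨x, hx⟩ := exists_ne (0 : Q)
  obtain ⟨j₁, hj₁⟩ := exists_pr_ne_zero 𝒬 hx
  let P : ℤ → Prop := fun j => ∃ q ∈ 𝒬 j, q ≠ 0
  obtain ⟨j, ⟨q, hq, hq0⟩, hmin⟩ := Int.exists_least_of_bdd (P := P) ⟨B, fun z ⟨q, hq, hq0⟩ => by
    by_contra hlt
    rw [hlow z (not_le.1 hlt), AddSubgroup.mem_bot] at hq
    exact hq0 hq⟩ ⟨j₁, _, pr_mem 𝒬 j₁ x, hj₁⟩
  refine ⟨j, q, hq, hq0, fun k hk => (AddSubgroup.eq_bot_iff_forall _).2 fun q' hq' => ?_⟩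
  by_contra h
  exact absurd (hmin k ⟨q', hq', h⟩) (not_le.2 hk)

include hmsp in
theorem smul_mem_bad {s : R} (hs : s ∈ m) (h : Q →ₗ[R] X) : s • h ∈ bad 𝒬 hpos h0 hQ X := by
  subst hmsp
  refine Submodule.span_induction (p := fun r _ => r • h ∈ bad 𝒬 hpos h0 hQ X) ?_ ?_ ?_ ?_ hs
  · intro r hr g hg
    simp only [Set.mem_iUnion, Set.mem_Ioi, SetLike.mem_coe] at hr
    obtain ⟨a, ha, hra⟩ := hr
    haveI := hQ.1
    obtain ⟨j, q₀, hq₀, hne, hlow⟩ := exists_lowest (𝒬 := 𝒬) hpos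
    obtain ⟨q, hq⟩ := hg.surjective q₀
    refine hne ?_
    have h1 : dz 𝒜 𝒬 (g ∘ₗ (r • h)) (pr 𝒬 j q) = q₀ := by
      rw [map_pr 𝒬 𝒬 (dz_isGrHom 𝒬 _), hq, pr_of_mem 𝒬 hq₀]
    rw [← h1, dz_of_mem 𝒬 _ (pr_mem 𝒬 j q), LinearMap.comp_apply, LinearMap.smul_apply, map_smul,
      pr_smul 𝒬 𝒜 hra]
    have h2 := pr_mem 𝒬 (j - a) (g (h (pr 𝒬 j q)))
    rw [hlow (j - a) (by linarith), AddSubgroup.mem_bot] at h2
    rw [h2, smul_zero]
  · rw [zero_smul]; exact zero_mem _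
  · intro a b _ _ ha hb; rw [add_smul]; exact add_mem ha hb
  · intro a b _ hb; rw [smul_eq_mul, mul_smul]; exact Submodule.smul_mem _ _ hb

theorem mult_self_ne_zero : mult hpos h0 hQ Q ≠ 0 := by
  haveI : Nontrivial ((Q →ₗ[R] Q) ⧸ bad 𝒬 hpos h0 hQ Q) := Submodule.Quotient.nontrivial_iff.2
    fun h => by
      have h1 : (LinearMap.id : Q →ₗ[R] Q) ∈ bad 𝒬 hpos h0 hQ Q := h ▸ Submodule.mem_top
      exact h1 LinearMap.id (by rw [LinearMap.id_comp, dz_id]; exact Function.bijective_id)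
  exact (Module.length_pos (R := R) (M := (Q →ₗ[R] Q) ⧸ bad 𝒬 hpos h0 hQ Q)).ne'

theorem mult_eq_zero_of_subsingleton (X : Type u) [AddCommGroup X] [Module R X] [Subsingleton X] :
    mult hpos h0 hQ X = 0 := by
  haveI : Subsingleton (Q →ₗ[R] X) := ⟨fun a b => LinearMap.ext fun q => Subsingleton.elim _ _⟩
  exact Module.length_eq_zero_iff.2 inferInstance

theorem mult_congr {Y : Type u} [AddCommGroup Y] [Module R Y] (e : X ≃ₗ[R] Y) :
    mult hpos h0 hQ X = mult hpos h0 hQ Y := by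
  refine qlen_eq_of ((LinearEquiv.congrRight e : _ ≃ₗ[R] _).toLinearMap) _ _ (fun h => ?_)
    fun y => ⟨e.symm.toLinearMap ∘ₗ y, ?_⟩
  · refine ⟨fun hh g => ?_, fun hh g => hh (g ∘ₗ e.toLinearMap)⟩
    have h1 := hh (g ∘ₗ e.symm.toLinearMap)
    have h2 : (g ∘ₗ e.symm.toLinearMap) ∘ₗ (LinearEquiv.congrRight e h) = g ∘ₗ h :=
      LinearMap.ext fun q => congrArg g (e.symm_apply_apply (h q))
    exact h2 ▸ h1
  · have h1 : (LinearEquiv.congrRight e) (e.symm.toLinearMap ∘ₗ y) = y :=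
      LinearMap.ext fun q => e.apply_symm_apply (y q)
    rw [LinearEquiv.coe_coe, h1, sub_self]
    exact zero_mem _

include hmsp in
/-- Multiplicities only depend on the localization at `m`. -/
theorem mult_eq_of_local {Y : Type u} [AddCommGroup Y] [Module R Y] (f : X →ₗ[R] Y)
    (g : Y →ₗ[R] X) {s t : R} (ht : 1 - t * s ∈ m) (hgf : g ∘ₗ f = s • LinearMap.id)
    (hfg : f ∘ₗ g = s • LinearMap.id) : mult hpos h0 hQ X = mult hpos h0 hQ Y := by
  refine qlen_eq_of (LinearMap.llcomp R Q X Y f) _ _ (fun h => ⟨fun hh => ?_, fun hh g' => ?_⟩)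
    fun y => ⟨t • (g ∘ₗ y), ?_⟩
  · -- `s • h` is bad, hence so is `h`
    have h1 : s • h ∈ bad 𝒬 hpos h0 hQ X := fun g' => by
      have := hh (g' ∘ₗ g)
      have h2 : (g' ∘ₗ g) ∘ₗ (LinearMap.llcomp R Q X Y f h) = g' ∘ₗ (s • h) :=
        LinearMap.ext fun q => congrArg g' (LinearMap.congr_fun hgf (h q))
      exact h2 ▸ this
    have h2 : h = t • (s • h) + (1 - t * s) • h := by
      rw [smul_smul, sub_smul, one_smul, add_sub_cancel]
    rw [h2]
    exact add_mem (Submodule.smul_mem _ _ h1) (smul_mem_bad hpos h0 hQ hmsp ht h)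
  · exact hh (g' ∘ₗ f)
  · have h2 : y - LinearMap.llcomp R Q X Y f (t • (g ∘ₗ y)) = (1 - t * s) • y :=
      LinearMap.ext fun q => by
        have h3 := LinearMap.congr_fun hfg (y q)
        simp only [LinearMap.smul_apply, LinearMap.id_apply, LinearMap.comp_apply] at h3
        simp only [LinearMap.sub_apply, LinearMap.smul_apply, LinearMap.comp_apply,
          LinearMap.llcomp_apply, map_smul, h3, sub_smul, one_smul, smul_smul]
    rw [h2]
    exact smul_mem_bad hpos h0 hQ hmsp ht y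

theorem mult_isCompl {A B : Submodule R X} (h : IsCompl A B) :
    mult hpos h0 hQ X = mult hpos h0 hQ A + mult hpos h0 hQ B := by
  let e := (Submodule.prodEquivOfIsCompl A B h).symm
  let pA : X →ₗ[R] A := LinearMap.fst R A B ∘ₗ e.toLinearMap
  let pB : X →ₗ[R] B := LinearMap.snd R A B ∘ₗ e.toLinearMap
  have hpA : ∀ a : A, pA (a : X) = a := fun a => by
    show (e (a : X)).1 = a
    rw [Submodule.prodEquivOfIsCompl_symm_apply_left]
  have hpB : ∀ b : B, pB (b : X) = b := fun b => by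
    show (e (b : X)).2 = b
    rw [Submodule.prodEquivOfIsCompl_symm_apply_right]
  have hpA' : ∀ b : B, pA (b : X) = 0 := fun b => by
    show (e (b : X)).1 = 0
    rw [Submodule.prodEquivOfIsCompl_symm_apply_right]
  have hpB' : ∀ a : A, pB (a : X) = 0 := fun a => by
    show (e (a : X)).2 = 0
    rw [Submodule.prodEquivOfIsCompl_symm_apply_left]
  have hsum : ∀ x : X, (pA x : X) + (pB x : X) = x := fun x =>
    (Submodule.coe_prodEquivOfIsCompl' A B h (e x)).symm.trans (e.symm_apply_apply x)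
  refine qlen_add_of (LinearMap.llcomp R Q X A pA) (LinearMap.llcomp R Q X B pB) _ _ _
    (fun f => ⟨fun hh g hg => ?_, fun hh => ⟨fun g => ?_, fun g => ?_⟩⟩)
    fun y z => ⟨A.subtype ∘ₗ y + B.subtype ∘ₗ z, ?_, ?_⟩
  · have h1 : g ∘ₗ f = (g ∘ₗ A.subtype) ∘ₗ (pA ∘ₗ f) + (g ∘ₗ B.subtype) ∘ₗ (pB ∘ₗ f) :=
      LinearMap.ext fun q => by
        show g (f q) = g (pA (f q) : X) + g (pB (f q) : X)
        rw [← map_add, hsum]
    rw [h1, dz_add] at hg
    rcases bijective_of_add 𝒬 hpos h0 hQ (dz_isGrHom 𝒬 _)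
      (fun i q hq => add_mem (dz_isGrHom 𝒬 _ i q hq) (dz_isGrHom 𝒬 _ i q hq)) hg with h2 | h2
    · exact hh.1 _ h2
    · exact hh.2 _ h2
  · exact hh (g ∘ₗ pA)
  · exact hh (g ∘ₗ pB)
  · refine LinearMap.ext fun q => ?_
    show pA ((y q : X) + (z q : X)) = y q
    rw [map_add, hpA, hpA', add_zero]
  · refine LinearMap.ext fun q => ?_
    show pB ((y q : X) + (z q : X)) = z q
    rw [map_add, hpB, hpB', zero_add]

include hmsp in
theorem mult_ne_top [m.IsMaximal] [Module.Finite R X] : mult hpos h0 hQ X ≠ ⊤ := by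
  haveI := Module.finitePresentation_of_finite R Q
  haveI : Module.Finite R (Q →ₗ[R] X) := Module.Finite.of_injective
    (LinearMap.lcomp R X (Module.Finite.exists_fin' R Q).choose_spec.choose)
    (fun a b hab => LinearMap.ext fun q => by
      obtain ⟨v, rfl⟩ := (Module.Finite.exists_fin' R Q).choose_spec.choose_spec q
      exact LinearMap.congr_fun hab v)
  obtain ⟨k, φ, hφ⟩ := Module.Finite.exists_fin' R (Q →ₗ[R] X)
  let Ψ : (Fin k → R) →ₗ[R] (Q →ₗ[R] X) ⧸ bad 𝒬 hpos h0 hQ X := (Submodule.mkQ _) ∘ₗ φ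
  let P : Submodule R (Fin k → R) := Submodule.pi Set.univ fun _ => m
  have hP : P ≤ LinearMap.ker Ψ := by
    intro v hv
    rw [LinearMap.mem_ker, ← Finset.univ_sum_single v, map_sum]
    refine Finset.sum_eq_zero fun i _ => ?_
    rw [show Pi.single i (v i) = v i • Pi.single i (1 : R) by
      rw [← Pi.single_smul, smul_eq_mul, mul_one], LinearMap.comp_apply, map_smul,
      Submodule.mkQ_apply, Submodule.Quotient.mk_eq_zero]
    exact smul_mem_bad hpos h0 hQ hmsp (hv i trivial) _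
  have hsurj : Function.Surjective (P.liftQ Ψ hP) := fun y => by
    obtain ⟨z, rfl⟩ := ((Submodule.mkQ_surjective _).comp hφ) y
    exact ⟨Submodule.Quotient.mk z, rfl⟩
  refine ne_top_of_le_ne_top ?_ (Module.length_le_of_surjective _ hsurj)
  rw [(Submodule.quotientPi (fun _ : Fin k => (m : Submodule R R))).length_eq,
    Module.length_pi_of_fintype]
  haveI : IsSimpleModule R (R ⧸ m) := isSimpleModule_iff_isCoatom.2 (Ideal.IsMaximal.out)
  rw [Finset.sum_congr rfl fun i _ => Module.length_eq_one R (R ⧸ m), Finset.sum_const,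
    Finset.card_univ, Fintype.card_fin, nsmul_eq_mul, mul_one]
  exact ENat.coe_ne_top k

variable (ℳ) in
include hpos h0 in
/-- A module with positive multiplicity of `Q` has a summand isomorphic to `Q`. -/
theorem exists_summand_of_mult_ne_zero [Module.Finite R M] (hne : mult hpos h0 hQ M ≠ 0) :
    ∃ A B : Submodule R M, A.IsHomogeneous ℳ ∧ B.IsHomogeneous ℳ ∧ IsCompl A B ∧
      Nonempty (Q ≃ₗ[R] A) := by
  classical
  obtain ⟨h, hh⟩ : ∃ h : Q →ₗ[R] M, h ∉ bad 𝒬 hpos h0 hQ M := by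
    by_contra hall
    push Not at hall
    refine hne (Module.length_eq_zero_iff.2 ?_)
    exact Submodule.Quotient.subsingleton_iff.2 (eq_top_iff.2 fun x _ => hall x)
  rw [mem_bad] at hh
  push Not at hh
  obtain ⟨g, hg⟩ := hh
  obtain ⟨D, hD⟩ := exists_sum_degPart 𝒜 𝒬 ℳ h
  have hgh : dz 𝒜 𝒬 (g ∘ₗ h) =
      ∑ j ∈ D, degPart 𝒜 ℳ 𝒬 g (-j) ∘ₗ degPart 𝒜 𝒬 ℳ h j := by
    conv_lhs => rw [← hD]
    rw [show g ∘ₗ (∑ j ∈ D, degPart 𝒜 𝒬 ℳ h j) = ∑ j ∈ D, g ∘ₗ degPart 𝒜 𝒬 ℳ h j from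
      LinearMap.ext fun q => by
        simp only [LinearMap.comp_apply, LinearMap.sum_apply, map_sum], dz_sum]
    refine Finset.sum_congr rfl fun j _ => ext_hom (ℳ := 𝒬) fun i q hq => ?_
    rw [dz_of_mem 𝒬 _ hq, LinearMap.comp_apply, LinearMap.comp_apply,
      degPart_of_mem 𝒜 ℳ 𝒬 g (-j) (degPart_mem_deg (𝒜 := 𝒜) h j i hq), add_neg_cancel_right]
  rw [hgh] at hg
  obtain ⟨j, -, hj⟩ := exists_bijective_of_sum 𝒬 hpos h0 hQ D _ (fun j i q hq => by
    have := degPart_mem_deg (𝒜 := 𝒜) g (-j) (i + j) (ℳ := ℳ) (𝒩 := 𝒬)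
      (degPart_mem_deg (𝒜 := 𝒜) h j i hq)
    rwa [add_neg_cancel_right] at this) hg
  set h' := degPart 𝒜 𝒬 ℳ h j
  set g' := degPart 𝒜 ℳ 𝒬 g (-j)
  refine ⟨LinearMap.range h', LinearMap.ker g',
    isHomogeneous_range_deg fun i q hq => degPart_mem_deg (𝒜 := 𝒜) h j i hq,
    isHomogeneous_ker_deg fun i x hx => degPart_mem_deg (𝒜 := 𝒜) g (-j) i hx, ⟨?_, ?_⟩,
    ⟨LinearEquiv.ofInjective h' (fun a b hab => hj.injective (congrArg g' hab))⟩⟩
  · rw [Submodule.disjoint_def]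
    rintro _ ⟨q, rfl⟩ hq
    have : q = 0 := hj.injective (by
      rw [LinearMap.comp_apply, LinearMap.mem_ker.1 hq, map_zero])
    rw [this, map_zero]
  · rw [codisjoint_iff, eq_top_iff]
    intro x _
    obtain ⟨q, hq⟩ := hj.surjective (g' x)
    refine Submodule.mem_sup.2 ⟨h' q, ⟨q, rfl⟩, x - h' q, ?_, add_sub_cancel _ _⟩
    rw [LinearMap.mem_ker, map_sub, ← hq]
    exact sub_self _

end Q

section Main

variable [IsNoetherianRing R]

omit [GradedRing 𝒜] [SetLike.GradedSMul 𝒜 ℳ] in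
/-- A nonzero module has an indecomposable summand. -/
theorem exists_indec_summand [Module.Finite R M] [Nontrivial M] :
    ∃ (P B : Submodule R M) (hP : P.IsHomogeneous ℳ), B.IsHomogeneous ℳ ∧ IsCompl P B ∧
      (letI := (subPc_isInternal ℳ hP).chooseDecomposition; Indec R (subPc ℳ P)) := by
  let S : Set (Submodule R M) := {B | ∃ P : Submodule R M, P ≠ ⊥ ∧ P.IsHomogeneous ℳ ∧
    B.IsHomogeneous ℳ ∧ IsCompl P B}
  have hS : S.Nonempty :=
    ⟨⊥, ⊤, top_ne_bot, isHomogeneous_top, isHomogeneous_bot, isCompl_top_bot⟩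
  obtain ⟨B, ⟨P, hPne, hP, hB, hPB⟩, hmax⟩ :=
    WellFounded.has_min (IsWellFounded.wf (r := fun a b : Submodule R M => b < a)) S hS
  refine ⟨P, B, hP, hB, hPB, ?_⟩
  letI := (subPc_isInternal ℳ hP).chooseDecomposition
  refine ⟨Submodule.nontrivial_iff_ne_bot.2 hPne, fun A C hA hC hAC => ?_⟩
  by_contra hcon
  push Not at hcon
  have hA' := isHomogeneous_map (subtype_isGrHom ℳ P) hA
  have hC' := isHomogeneous_map (subtype_isGrHom ℳ P) hC
  have hsup : A.map P.subtype ⊔ C.map P.subtype = P := by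
    rw [← Submodule.map_sup, hAC.sup_eq_top, Submodule.map_subtype_top]
  refine hmax (B ⊔ C.map P.subtype) ⟨A.map P.subtype,
    fun h => hcon.1 (Submodule.map_injective_of_injective P.injective_subtype
      (h.trans (Submodule.map_bot _).symm)), hA', isHomogeneous_sup hB hC', ⟨?_, ?_⟩⟩ ?_
  · rw [Submodule.disjoint_def]
    intro x hx hx'
    obtain ⟨b, hb, c, hc, rfl⟩ := Submodule.mem_sup.1 hx'
    have hxP : b + c ∈ P := Submodule.map_subtype_le P A hx
    have hbP : b ∈ P := by simpa using sub_mem hxP (Submodule.map_subtype_le P C hc)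
    have hb0 : b = 0 := Submodule.disjoint_def.1 hPB.disjoint b hbP hb
    subst hb0
    rw [zero_add] at hx ⊢
    obtain ⟨a, ha, hax⟩ := hx
    obtain ⟨c', hc', rfl⟩ := hc
    have : a = c' := Subtype.ext hax
    rw [Submodule.disjoint_def.1 hAC.disjoint c' (this ▸ ha) hc', map_zero]
  · rw [codisjoint_iff, sup_comm B, ← sup_assoc, hsup, hPB.sup_eq_top]
  · refine lt_of_le_of_ne le_sup_left fun heq => hcon.2 ?_
    have h1 : C.map P.subtype ≤ P ⊓ B :=
      le_inf (Submodule.map_subtype_le P C) (le_sup_right.trans heq.ge)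
    rw [hPB.inf_eq_bot, le_bot_iff] at h1
    exact Submodule.map_injective_of_injective P.injective_subtype
      (h1.trans (Submodule.map_bot _).symm)

variable (hpos : ∀ n : ℤ, n < 0 → 𝒜 n = ⊥) (h0 : IsField (GrLC.deg0 𝒜))
  {m : Ideal R} [m.IsMaximal] (hmsp : m = Ideal.span (⋃ n ∈ Set.Ioi (0 : ℤ), (𝒜 n : Set R)))

variable (ℳ) in
include hmsp in
/-- Krull–Schmidt: equal multiplicities give an isomorphism. -/
theorem nonempty_equiv_of_mult [Module.Finite R M] :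
    ∀ (B A : Submodule R M), A.IsHomogeneous ℳ → B.IsHomogeneous ℳ → IsCompl A B →
    ∀ (X : GMod.{u} 𝒜), Module.Finite R X.carrier →
      (∀ (Q : GMod.{u} 𝒜) [Module.Finite R Q.carrier] (hQ : Indec R Q.gr),
        mult hpos h0 hQ A = mult hpos h0 hQ X.carrier) →
      Nonempty (A ≃ₗ[R] X.carrier) := by
  intro B
  induction B using (IsWellFounded.wf (r := fun a b : Submodule R M => b < a)).induction with
  | _ B ih =>
  intro A hA hB hAB X hX hmult
  haveI : Module.Finite R X.carrier := hX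
  rcases eq_or_ne A ⊥ with hA0 | hA0
  · haveI : Subsingleton A := (Submodule.subsingleton_iff_eq_bot).2 hA0
    by_cases hXn : Nontrivial X.carrier
    · obtain ⟨P, B', hP, hB', hPB', hind⟩ := exists_indec_summand (R := R) (ℳ := X.gr)
      letI := (subPc_isInternal X.gr hP).chooseDecomposition
      haveI := subPc_gradedSMul 𝒜 X.gr P
      haveI : Module.Finite R (sub 𝒜 X.gr hP).carrier := inferInstanceAs (Module.Finite R P)
      have h1 : mult hpos h0 hind A = mult hpos h0 hind X.carrier := hmult (sub 𝒜 X.gr hP) hind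
      rw [mult_eq_zero_of_subsingleton hpos h0 hind A, mult_isCompl hpos h0 hind hPB'] at h1
      exact absurd (add_eq_zero.1 h1.symm).1 (mult_self_ne_zero hpos h0 hind)
    · haveI : Subsingleton X.carrier := not_nontrivial_iff_subsingleton.1 hXn
      exact ⟨{ toFun := fun _ => 0, invFun := fun _ => 0, map_add' := fun _ _ => (add_zero 0).symm
               map_smul' := fun r _ => (smul_zero r).symm
               left_inv := fun _ => Subsingleton.elim _ _
               right_inv := fun _ => Subsingleton.elim _ _ }⟩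
  · letI := (subPc_isInternal ℳ hA).chooseDecomposition
    haveI := subPc_gradedSMul 𝒜 ℳ A
    haveI : Nontrivial A := Submodule.nontrivial_iff_ne_bot.2 hA0
    obtain ⟨P, C, hP, hC, hPC, hind⟩ := exists_indec_summand (R := R) (ℳ := subPc ℳ A)
    letI := (subPc_isInternal (subPc ℳ A) hP).chooseDecomposition
    haveI := subPc_gradedSMul 𝒜 (subPc ℳ A) P
    haveI : Module.Finite R (sub 𝒜 (subPc ℳ A) hP).carrier := inferInstanceAs (Module.Finite R P)
    have h1 : mult hpos h0 hind A = mult hpos h0 hind X.carrier :=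
      hmult (sub 𝒜 (subPc ℳ A) hP) hind
    have hXne : mult hpos h0 hind X.carrier ≠ 0 := by
      rw [← h1, mult_isCompl hpos h0 hind hPC]
      exact fun h => mult_self_ne_zero hpos h0 hind (add_eq_zero.1 h).1
    obtain ⟨P', X', hP', hX', hPX', ⟨e⟩⟩ :=
      exists_summand_of_mult_ne_zero X.gr hpos h0 hind hXne
    set C' := C.map A.subtype
    have hC' : C'.IsHomogeneous ℳ := isHomogeneous_map (subtype_isGrHom ℳ A) hC
    have hPm : (P.map A.subtype).IsHomogeneous ℳ := isHomogeneous_map (subtype_isGrHom ℳ A) hP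
    have hlt : B < B ⊔ P.map A.subtype := by
      refine lt_of_le_of_ne le_sup_left fun heq => ?_
      have h2 : P.map A.subtype ≤ A ⊓ B :=
        le_inf (Submodule.map_subtype_le A P) (le_sup_right.trans heq.ge)
      rw [hAB.inf_eq_bot, le_bot_iff] at h2
      exact (Submodule.nontrivial_iff_ne_bot.1 hind.1) (Submodule.map_injective_of_injective
        A.injective_subtype (h2.trans (Submodule.map_bot _).symm))
    have hcompl : IsCompl C' (B ⊔ P.map A.subtype) := by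
      refine ⟨?_, ?_⟩
      · rw [Submodule.disjoint_def]
        intro x hx hx'
        obtain ⟨b, hb, p, hp, rfl⟩ := Submodule.mem_sup.1 hx'
        have hbA : b ∈ A := by
          simpa using sub_mem (Submodule.map_subtype_le A C hx) (Submodule.map_subtype_le A P hp)
        obtain rfl : b = 0 := Submodule.disjoint_def.1 hAB.disjoint b hbA hb
        rw [zero_add] at hx ⊢
        obtain ⟨c, hc, hcx⟩ := hx
        obtain ⟨p', hp', rfl⟩ := hp
        have : c = p' := Subtype.ext hcx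
        rw [Submodule.disjoint_def.1 hPC.disjoint p' hp' (this ▸ hc), map_zero]
      · rw [codisjoint_iff, sup_comm B, ← sup_assoc, ← Submodule.map_sup, sup_comm C,
          hPC.sup_eq_top, Submodule.map_subtype_top, hAB.sup_eq_top]
    letI := (subPc_isInternal X.gr hX').chooseDecomposition
    haveI := subPc_gradedSMul 𝒜 X.gr X'
    let eC : C ≃ₗ[R] C' := Submodule.equivMapOfInjective A.subtype A.injective_subtype C
    obtain ⟨e'⟩ := ih (B ⊔ P.map A.subtype) hlt C' hC' (isHomogeneous_sup hB hPm) hcompl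
      (sub 𝒜 X.gr hX') (inferInstanceAs (Module.Finite R X')) fun Q _ hQ => by
        have h2 := hmult Q hQ
        rw [mult_isCompl hpos h0 hQ hPC, mult_isCompl hpos h0 hQ hPX',
          ← mult_congr hpos h0 hQ e, mult_congr hpos h0 hQ eC] at h2
        exact ENat.add_right_injective_of_ne_top (mult_ne_top hpos h0 hQ hmsp (X := P)) h2
    exact ⟨((Submodule.prodEquivOfIsCompl P C hPC).symm.trans (e.prodCongr (eC.trans e'))).trans
      (Submodule.prodEquivOfIsCompl P' X' hPX')⟩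

variable (ℳ 𝒩) in
include hpos h0 hmsp ℳ 𝒩 in
/-- Finitely generated graded modules with isomorphic localizations at `m` are isomorphic. -/
theorem nonempty_equiv_of_localized [Module.Finite R M] [Module.Finite R N]
    (φ : LocalizedModule m.primeCompl M ≃ₗ[R] LocalizedModule m.primeCompl N) :
    Nonempty (M ≃ₗ[R] N) := by
  haveI := Module.finitePresentation_of_finite R M
  haveI := Module.finitePresentation_of_finite R N
  set S := m.primeCompl
  set iM := LocalizedModule.mkLinearMap S M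
  set iN := LocalizedModule.mkLinearMap S N
  obtain ⟨f, a, hf⟩ := Module.FinitePresentation.exists_lift_of_isLocalizedModule S iN
    (φ.toLinearMap ∘ₗ iM)
  obtain ⟨g, b, hg⟩ := Module.FinitePresentation.exists_lift_of_isLocalizedModule S iM
    (φ.symm.toLinearMap ∘ₗ iN)
  have hfa : ∀ x, iN (f x) = (a : R) • φ (iM x) := fun x => LinearMap.congr_fun hf x
  have hgb : ∀ y, iM (g y) = (b : R) • φ.symm (iN y) := fun y => LinearMap.congr_fun hg y
  have key : ∀ {L : Type u} [AddCommGroup L] [Module R L] [Module.Finite R L] (u v : L →ₗ[R] L),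
      (∀ x, LocalizedModule.mkLinearMap S L (u x) = LocalizedModule.mkLinearMap S L (v x)) →
      ∃ c : S, (c : R) • u = (c : R) • v := by
    intro L _ _ _ u v huv
    classical
    obtain ⟨n, x, hx⟩ := Module.Finite.exists_fin (R := R) (M := L)
    choose c hc using fun i => (IsLocalizedModule.eq_iff_exists S
      (LocalizedModule.mkLinearMap S L)).1 (huv (x i))
    refine ⟨∏ i, c i, LinearMap.ext_on_range hx fun i => ?_⟩
    simp only [LinearMap.smul_apply]
    rw [← Finset.prod_erase_mul _ _ (Finset.mem_univ i), Submonoid.coe_mul, mul_smul, mul_smul]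
    exact congrArg _ (hc i)
  obtain ⟨c₁, hc₁⟩ := key (g ∘ₗ f) (((b : R) * a) • LinearMap.id) fun x => by
    show iM (g (f x)) = iM (((b : R) * a) • x)
    rw [hgb, hfa, map_smul, φ.symm_apply_apply, map_smul, mul_smul]
  obtain ⟨c₂, hc₂⟩ := key (f ∘ₗ g) (((b : R) * a) • LinearMap.id) fun y => by
    show iN (f (g y)) = iN (((b : R) * a) • y)
    rw [hfa, hgb, map_smul, φ.apply_symm_apply, map_smul, ← mul_smul, mul_comm]
  set s : R := (c₁ : R) * c₂ * (b * a) with hsdef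
  have hs : s ∉ m := ((c₁ * c₂) * (b * a)).2
  obtain ⟨t, ht⟩ : ∃ t, 1 - t * s ∈ m := by
    obtain ⟨t, i, hi, h1⟩ := Ideal.IsMaximal.exists_inv ‹m.IsMaximal› hs
    exact ⟨t, by rw [← h1, add_sub_cancel_left]; exact hi⟩
  have h1 : (((c₁ : R) * c₂) • g) ∘ₗ f = s • LinearMap.id := by
    rw [LinearMap.smul_comp, hsdef, mul_comm (c₁ : R), mul_smul, hc₁, ← mul_smul, ← mul_smul]
  have h2 : f ∘ₗ (((c₁ : R) * c₂) • g) = s • LinearMap.id := by
    rw [LinearMap.comp_smul, hsdef, mul_smul, hc₂, ← mul_smul, ← mul_smul]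
  obtain ⟨e⟩ := nonempty_equiv_of_mult ℳ hpos h0 hmsp ⊥ ⊤ isHomogeneous_top isHomogeneous_bot
    isCompl_top_bot (GMod.of 𝒜 N 𝒩) ‹Module.Finite R N› fun Q _ hQ =>
      (mult_congr hpos h0 hQ Submodule.topEquiv).trans
        (mult_eq_of_local hpos h0 hQ hmsp f (((c₁ : R) * c₂) • g) ht h1 h2)
  exact ⟨Submodule.topEquiv.symm.trans e⟩

end Main

end GrothGr.KS
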