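import Groth.Agent.GrMod.CanonicalFiniteLocal
import Groth.Agent.GrMod.ExtGraded
import Groth.Agent.GrMod.FiniteOver
import Groth.Agent.GrMod.KrullSchmidt
import Groth.Agent.GrMod.CanonicalCM
import Mathlib.RingTheory.KrullDimension.Basic

/-!
# Canonical modules along finite homomorphisms of graded rings

Helper library (no milestone statements here).
-/

set_option autoImplicit false

universe u

open DirectSum GrLC CategoryTheory

namespace GrothGr.FiniteCanonical

/-- Functoriality of `Ext` in the first variable. -/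
noncomputable def extLeftCongr {A : Type u} [CommRing A] {M M' : Type u} [AddCommGroup M]
    [Module A M] [AddCommGroup M'] [Module A M'] (e : M ≃ₗ[A] M') (N : ModuleCat.{u} A) (i : ℕ) :
    Abelian.Ext (ModuleCat.of A M) N i ≃ₗ[A] Abelian.Ext (ModuleCat.of A M') N i :=
  LinearEquiv.ofLinearMap
    ((Abelian.Ext.mk₀ e.toModuleIso.inv).precompOfLinear A _ (zero_add i))
    ((Abelian.Ext.mk₀ e.toModuleIso.hom).precompOfLinear A _ (zero_add i))
    (LinearMap.ext fun x => by simp [← ModuleCat.ofHom_comp])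
    (LinearMap.ext fun x => by simp [← ModuleCat.ofHom_comp])

theorem ringKrullDim_le_of_integral (F W : Type u) [CommRing F] [CommRing W] [Algebra F W]
    [Algebra.IsIntegral F W] : ringKrullDim W ≤ ringKrullDim F :=
  Order.krullDim_le_of_strictMono (PrimeSpectrum.comap (algebraMap F W)) fun x y hxy => by
    haveI := x.isPrime
    exact Ideal.IsIntegral.comap_lt_comap (R := F) (I := x.asIdeal) (J := y.asIdeal) hxy

variable {R : Type u} [CommRing R] [LocCoh.IsCohenMacaulayRing R] {𝒜 : ℤ → AddSubgroup R}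
  [GradedRing 𝒜] {S : Type u} [CommRing S] [IsNoetherianRing S] [Algebra R S] [Module.Finite R S]
  {𝒮 : ℤ → AddSubgroup S} [GradedRing 𝒮]

/-- `K_S ≅ Ext^(dim R - dim S)_R(S, K_R)`. -/
theorem nonempty_canonical_ext (hpos : ∀ n : ℤ, n < 0 → 𝒜 n = ⊥) (h0 : IsField (GrLC.deg0 𝒜))
    {m : HomogeneousIdeal 𝒜} (hm : GrLC.IsStarLocal 𝒜 m)
    (hmsp : m.toIdeal = Ideal.span (⋃ n ∈ Set.Ioi (0 : ℤ), (𝒜 n : Set R))) {n : ℕ}
    (hn : ringKrullDim R = n) (I : GrLC.StarInjRes 𝒜 𝒜) {E' : Type u} [AddCommGroup E'] [Module R E']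
    {𝓔 : ℤ → AddSubgroup E'} [Decomposition 𝓔] [SetLike.GradedSMul 𝒜 𝓔]
    {e : (R ⧸ m.toIdeal) →ₗ[R] E'} (he : IsStarInjHull 𝒜 (quotGr 𝒜 m) 𝓔 e)
    {C : Type u} [AddCommGroup C] [Module R C] (𝒞 : ℤ → AddSubgroup C) [Decomposition 𝒞]
    [SetLike.GradedSMul 𝒜 𝒞] (hC : IsStarCanonical 𝒜 𝒞 𝓔 m n I)
    (hf : ∀ j : ℤ, (𝒜 j).map (algebraMap R S : R →+ S) ≤ 𝒮 j)
    (hf0 : (𝒜 0).map (algebraMap R S : R →+ S) = 𝒮 0) (hpos' : ∀ j : ℤ, j < 0 → 𝒮 j = ⊥)
    (h0' : IsField (GrLC.deg0 𝒮)) {m' : HomogeneousIdeal 𝒮} (hm' : GrLC.IsStarLocal 𝒮 m')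
    (hm'sp : m'.toIdeal = Ideal.span (⋃ j ∈ Set.Ioi (0 : ℤ), (𝒮 j : Set S))) {n' : ℕ}
    (hn' : ringKrullDim S = n') (I' : GrLC.StarInjRes 𝒮 𝒮) {E'' : Type u} [AddCommGroup E'']
    [Module S E''] {𝓔'' : ℤ → AddSubgroup E''} [Decomposition 𝓔''] [SetLike.GradedSMul 𝒮 𝓔'']
    {e' : (S ⧸ m'.toIdeal) →ₗ[S] E''} (he' : IsStarInjHull 𝒮 (quotGr 𝒮 m') 𝓔'' e')
    {C' : Type u} [AddCommGroup C'] [Module S C'] [Module R C'] [IsScalarTower R S C']
    (𝒞' : ℤ → AddSubgroup C') [Decomposition 𝒞'] [SetLike.GradedSMul 𝒮 𝒞']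
    (hC' : IsStarCanonical 𝒮 𝒞' 𝓔'' m' n' I') :
    Nonempty (C' ≃ₗ[R] Abelian.Ext.{u} (ModuleCat.of R S) (ModuleCat.of R C) (n - n')) := by
  haveI := hC.1
  haveI := hC'.1
  haveI : Module.Finite R C' := Module.Finite.trans S C'
  haveI hmax : m.toIdeal.IsMaximal := isMaximal_irrelevant 𝒜 hpos h0 hm hmsp
  haveI hmax' : m'.toIdeal.IsMaximal := isMaximal_irrelevant 𝒮 hpos' h0' hm' hm'sp
  haveI : Algebra.IsIntegral R S := Algebra.IsIntegral.of_finite R S
  have hle : n' ≤ n := by
    have h := ringKrullDim_le_of_integral R S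
    rw [hn, hn'] at h
    exact_mod_cast h
  -- the localizations
  let A := Localization.AtPrime m.toIdeal
  let B := Localization.AtPrime m'.toIdeal
  have hunit : ∀ r : m.toIdeal.primeCompl, IsUnit (algebraMap R B r) := fun r => by
    rw [IsScalarTower.algebraMap_apply R S B]
    exact IsLocalization.map_units B (⟨_, fun h => r.2 ((FiniteOver.comap_eq hf hmsp hm'sp).le h)⟩ :
      m'.toIdeal.primeCompl)
  letI : Algebra A B := (IsLocalization.lift hunit).toAlgebra
  haveI : IsScalarTower R A B :=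
    IsScalarTower.of_algebraMap_eq fun r => (IsLocalization.lift_eq hunit r).symm
  haveI := FiniteOver.isLocalizedModule_restrict hf hpos hmsp hm'sp (M := S) (M' := B)
    (Algebra.linearMap S B)
  let eS : LocalizedModule m.toIdeal.primeCompl S ≃ₗ[A] B :=
    (IsLocalizedModule.iso m.toIdeal.primeCompl
      ((Algebra.linearMap S B).restrictScalars R)).extendScalarsOfIsLocalization
        m.toIdeal.primeCompl A
  haveI : Module.Finite A B := Module.Finite.of_isLocalizedModule m.toIdeal.primeCompl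
    ((Algebra.linearMap S B).restrictScalars R)
  let KB := LocalizedModule m'.toIdeal.primeCompl C'
  letI : Module A KB := Module.compHom KB (algebraMap A B)
  haveI : IsScalarTower A B KB := IsScalarTower.of_algebraMap_smul fun a x => rfl
  haveI : IsScalarTower R A KB := IsScalarTower.of_algebraMap_smul fun r x => by
    show algebraMap A B (algebraMap R A r) • x = r • x
    rw [← IsScalarTower.algebraMap_apply R A B, algebraMap_smul]
  haveI := FiniteOver.isLocalizedModule_restrict hf hpos hmsp hm'sp (M := C') (M' := KB)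
    (LocalizedModule.mkLinearMap m'.toIdeal.primeCompl C')
  haveI : Module.Finite A KB := Module.Finite.of_isLocalizedModule m.toIdeal.primeCompl
    ((LocalizedModule.mkLinearMap m'.toIdeal.primeCompl C').restrictScalars R)
  -- the graded model of Ext
  haveI : SetLike.GradedSMul 𝒜 𝒮 := ⟨fun {a g r s} hr hs => by
    rw [Algebra.smul_def]
    exact SetLike.mul_mem_graded (FiniteOver.algebraMap_mem hf hr) hs⟩
  haveI : SetLike.GradedSMul 𝒜 𝒞' := ⟨fun {a g r c} hr hc => by
    rw [← algebraMap_smul S r c]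
    exact SetLike.GradedSMul.smul_mem (FiniteOver.algebraMap_mem hf hr) hc⟩
  obtain ⟨⟨D, hD, ⟨eD⟩⟩, ⟨eL⟩⟩ := ExtGr.exists_graded_ext 𝒜 𝒞 m.toIdeal (n - n')
    (GMod.of 𝒜 S 𝒮) ‹Module.Finite R S›
  haveI := hD
  haveI : Module.Finite A (LocalizedModule m.toIdeal.primeCompl D.carrier) :=
    Module.Finite.of_isLocalizedModule m.toIdeal.primeCompl
      (LocalizedModule.mkLinearMap m.toIdeal.primeCompl D.carrier)
  let eX : LocalizedModule m.toIdeal.primeCompl D.carrier ≃ₗ[A]
      Abelian.Ext (ModuleCat.of A B) (ModuleCat.of A (LocalizedModule m.toIdeal.primeCompl C))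
        (n - n') :=
    ((Groth.LocDual.localizedEquiv m.toIdeal eD).trans eL).trans (extLeftCongr eS _ _)
  haveI : Module.Finite A (Abelian.Ext (ModuleCat.of A B)
      (ModuleCat.of A (LocalizedModule m.toIdeal.primeCompl C)) (n - n')) := Module.Finite.equiv eX
  haveI : Module.Finite A (LocalizedModule m.toIdeal.primeCompl C) :=
    Module.Finite.of_isLocalizedModule m.toIdeal.primeCompl
      (LocalizedModule.mkLinearMap m.toIdeal.primeCompl C)
  -- the local statement
  obtain ⟨E₀, _, _, f, hf₀, ⟨eK⟩⟩ := exists_local_data 𝒜 he hC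
  obtain ⟨E₁, _, _, f', hf₁⟩ := GrothMatlis.exists_hull B (IsLocalRing.ResidueField B)
  obtain ⟨eK'⟩ := nonempty_canonical_localized 𝒮 n' I' he' hC' hf₁
  have hCM := LocCoh.IsCohenMacaulayRing.isCohenMacaulayLocalRing_localization (R := R) m.toIdeal
  have hd := ringKrullDim_at_starLocal 𝒜 hm hn
  have hmaxA : (IsLocalRing.maximalIdeal A).map (algebraMap A B) =
      (m.toIdeal.map (algebraMap R S)).map (algebraMap S B) := by
    rw [← IsLocalization.AtPrime.map_eq_maximalIdeal m.toIdeal A, Ideal.map_map, Ideal.map_map,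
      ← IsScalarTower.algebraMap_eq, ← IsScalarTower.algebraMap_eq]
  have hrad : ((IsLocalRing.maximalIdeal A).map (algebraMap A B)).radical =
      IsLocalRing.maximalIdeal B := by
    rw [hmaxA]
    refine le_antisymm ?_ ?_
    · rw [(IsLocalRing.maximalIdeal.isMaximal B).isPrime.radical_le_iff,
        ← IsLocalization.AtPrime.map_eq_maximalIdeal m'.toIdeal B]
      exact Ideal.map_mono (FiniteOver.map_le hf hmsp hm'sp)
    · rw [← IsLocalization.AtPrime.map_eq_maximalIdeal m'.toIdeal B]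
      exact (Ideal.map_mono (FiniteOver.le_radical hf hpos hmsp hm'sp)).trans
        (Ideal.map_radical_le _)
  have hres₀ : ∀ s : S, ∃ r : R, s - algebraMap R S r ∈ m'.toIdeal := fun s => by
    obtain ⟨r, -, hr⟩ := hf0.ge (pr_mem 𝒮 0 s)
    refine ⟨r, ?_⟩
    rw [hm'sp]
    refine mem_irrelevant_of_decompose_zero 𝒮 hpos' ?_
    show pr 𝒮 0 (s - algebraMap R S r) = 0
    rw [show algebraMap R S r = pr 𝒮 0 s from hr, map_sub, pr_of_mem 𝒮 (pr_mem 𝒮 0 s), sub_self]
  have hres : ∀ b : B, ∃ a : A, b - algebraMap A B a ∈ IsLocalRing.maximalIdeal B := fun b => by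
    obtain ⟨s, t, rfl⟩ := IsLocalization.exists_mk'_eq m'.toIdeal.primeCompl b
    obtain ⟨r, hr⟩ := hres₀ s
    obtain ⟨r', hr'⟩ := hres₀ t
    have hr'm : r' ∈ m.toIdeal.primeCompl := fun h => t.2 (by
      have := add_mem hr' (FiniteOver.map_le hf hmsp hm'sp (Ideal.mem_map_of_mem _ h))
      rwa [sub_add_cancel] at this)
    refine ⟨IsLocalization.mk' A r ⟨r', hr'm⟩, ?_⟩
    set a := IsLocalization.mk' A r (⟨r', hr'm⟩ : m.toIdeal.primeCompl)
    have ha : algebraMap A B a * algebraMap S B (algebraMap R S r') =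
        algebraMap S B (algebraMap R S r) := by
      rw [← IsScalarTower.algebraMap_apply R S B, IsScalarTower.algebraMap_apply R A B r',
        ← map_mul, IsLocalization.mk'_spec A r (⟨r', hr'm⟩ : m.toIdeal.primeCompl),
        ← IsScalarTower.algebraMap_apply, ← IsScalarTower.algebraMap_apply]
    have hu : IsUnit (algebraMap S B (t : S) * algebraMap S B (algebraMap R S r')) :=
      (IsLocalization.map_units B t).mul
        (by rw [← IsScalarTower.algebraMap_apply]; exact hunit ⟨r', hr'm⟩)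
    refine (Ideal.unit_mul_mem_iff_mem _ hu).1 ?_
    have h1 : algebraMap S B (t : S) * algebraMap S B (algebraMap R S r') *
        (IsLocalization.mk' B s t - algebraMap A B a) =
        algebraMap S B ((s - algebraMap R S r) * algebraMap R S r' -
          algebraMap R S r * ((t : S) - algebraMap R S r')) := by
      rw [map_sub, map_mul, map_mul, map_sub, map_sub,
        ← IsLocalization.mk'_spec B s t, ← ha]
      ring
    rw [h1, ← IsLocalization.AtPrime.map_eq_maximalIdeal m'.toIdeal B]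
    exact Ideal.mem_map_of_mem _ (sub_mem (Ideal.mul_mem_right _ _ hr) (Ideal.mul_mem_left _ _ hr'))
  obtain ⟨Θ⟩ := CanFinite.nonempty_canonical_ext (B := B) hCM hd hf₀ eK hrad hres hle hf₁
    (K' := KB) eK'
  let φ : LocalizedModule m.toIdeal.primeCompl C' ≃ₗ[R]
      LocalizedModule m.toIdeal.primeCompl D.carrier :=
    (IsLocalizedModule.iso m.toIdeal.primeCompl
      ((LocalizedModule.mkLinearMap m'.toIdeal.primeCompl C').restrictScalars R)).trans
        ((Θ.trans eX.symm).restrictScalars R)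
  obtain ⟨ψ⟩ := KS.nonempty_equiv_of_localized 𝒞' D.gr hpos h0 hmsp φ
  exact ⟨ψ.trans eD⟩

end GrothGr.FiniteCanonical
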