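import Groth.Agent.GrMod.Compare
import Groth.Agent.GrMod.Quot

/-!
# The long exact sequence of graded local cohomology

Horseshoe resolutions, the degree-preserving connecting map, null homotopies, shifts of resolutions.
Helper library (no milestone statements here).
-/

universe u

open DirectSum GrLC

namespace GrothGr

variable {ι : Type} [AddCommGroup ι] [DecidableEq ι]
variable {R : Type u} [CommRing R] {𝒜 : ι → AddSubgroup R} [GradedRing 𝒜]

theorem isStarInj_prod {M N : Type u} [AddCommGroup M] [Module R M] [AddCommGroup N] [Module R N]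
    {ℳ : ι → AddSubgroup M} [Decomposition ℳ] [SetLike.GradedSMul 𝒜 ℳ] {𝒩 : ι → AddSubgroup N}
    [Decomposition 𝒩] [SetLike.GradedSMul 𝒜 𝒩]
    (hM : IsStarInj 𝒜 ℳ) (hN : IsStarInj 𝒜 𝒩) : IsStarInj 𝒜 (prodPc ℳ 𝒩) := by
  intro A B f hf hfi g hg
  obtain ⟨h₁, hh₁, he₁⟩ := hM A B f hf hfi (LinearMap.fst R M N ∘ₗ g) fun j x hx => (hg j x hx).1
  obtain ⟨h₂, hh₂, he₂⟩ := hN A B f hf hfi (LinearMap.snd R M N ∘ₗ g) fun j x hx => (hg j x hx).2
  exact ⟨h₁.prod h₂, fun j x hx => ⟨hh₁ j x hx, hh₂ j x hx⟩,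
    LinearMap.ext fun x => Prod.ext (LinearMap.congr_fun he₁ x) (LinearMap.congr_fun he₂ x)⟩

theorem mem_gam_prod_iff {M N : Type u} [AddCommGroup M] [Module R M] [AddCommGroup N] [Module R N]
    (a : Ideal R) (x : M) (y : N) : (x, y) ∈ gam a (M × N) ↔ x ∈ gam a M ∧ y ∈ gam a N := by
  refine ⟨fun h => ⟨map_gam (LinearMap.fst R M N) a h, map_gam (LinearMap.snd R M N) a h⟩,
    fun ⟨h₁, h₂⟩ => ?_⟩
  have := add_mem (map_gam (LinearMap.inl R M N) a h₁) (map_gam (LinearMap.inr R M N) a h₂)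
  simpa using this

/-- Bundle a product. -/
noncomputable abbrev prodGMod (X Y : GMod.{u} 𝒜) : GMod.{u} 𝒜 :=
  GMod.of 𝒜 (X.carrier × Y.carrier) (prodPc X.gr Y.gr)

section Horse

variable {A B C : Type u} [AddCommGroup A] [Module R A] [AddCommGroup B] [Module R B]
  [AddCommGroup C] [Module R C]
  {𝒢 : ι → AddSubgroup A} [Decomposition 𝒢] [SetLike.GradedSMul 𝒜 𝒢]
  {ℬ : ι → AddSubgroup B} [Decomposition ℬ] [SetLike.GradedSMul 𝒜 ℬ]
  {𝒞 : ι → AddSubgroup C} [Decomposition 𝒞] [SetLike.GradedSMul 𝒜 𝒞]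

/-- Twisting data making the sum of two resolutions a resolution of the middle term. -/
structure Horse (f : A →ₗ[R] B) (g : B →ₗ[R] C) (EA : StarInjRes 𝒜 𝒢) (EC : StarInjRes 𝒜 𝒞) where
  u : B →ₗ[R] (EA.X 0).carrier
  u_grHom : IsGrHom ℬ (EA.X 0).gr u
  u_comp : ∀ x, u (f x) = EA.ε x
  τ : ∀ n, (EC.X n).carrier →ₗ[R] (EA.X (n + 1)).carrier
  τ_grHom : ∀ n, IsGrHom (EC.X n).gr (EA.X (n + 1)).gr (τ n)
  τ_zero : ∀ b, EA.d 0 (u b) + τ 0 (EC.ε (g b)) = 0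
  τ_succ : ∀ n y, EA.d (n + 1) (τ n y) + τ (n + 1) (EC.d n y) = 0

variable (f : A →ₗ[R] B) (g : B →ₗ[R] C) (EA : StarInjRes 𝒜 𝒢) (EC : StarInjRes 𝒜 𝒞)
  (hf : IsGrHom 𝒢 ℬ f) (hfi : Function.Injective f) (hg : IsGrHom ℬ 𝒞 g)
  (hgs : Function.Surjective g) (hex : LinearMap.ker g = LinearMap.range f)

include hf hfi hg hgs hex in
theorem nonempty_horse : Nonempty (Horse (ℬ := ℬ) f g EA EC) := by
  obtain ⟨u, hu, huf⟩ := EA.starInj 0 (GMod.of 𝒜 A 𝒢) (GMod.of 𝒜 B ℬ) f hf hfi EA.ε EA.ε_grHom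
  have huf' : ∀ x, u (f x) = EA.ε x := fun x => LinearMap.congr_fun huf x
  have hneg : IsGrHom ℬ (EA.X 1).gr (-(EA.d 0 ∘ₗ u)) := fun j x hx =>
    neg_mem (EA.d_grHom 0 j _ (hu j x hx))
  obtain ⟨τ₀, hτ₀, hτ₀e⟩ := exists_lift_of_ker_le 𝒜 ℬ (EC.X 0).gr (EA.X 1).gr (EA.starInj 1)
    (g := EC.ε ∘ₗ g) (fun j x hx => EC.ε_grHom j _ (hg j x hx)) hneg (fun b hb => by
      have hb' : g b = 0 := EC.ε_injective (hb.trans (map_zero EC.ε).symm)
      obtain ⟨x, rfl⟩ := hex.le hb'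
      show -(EA.d 0 (u (f x))) = 0
      rw [huf', LinearMap.mem_ker.1 (EA.exact_zero.ge ⟨x, rfl⟩), neg_zero])
  have h0 : ∀ b, EA.d 0 (u b) + τ₀ (EC.ε (g b)) = 0 := fun b => by
    rw [show τ₀ (EC.ε (g b)) = -(EA.d 0 (u b)) from LinearMap.congr_fun hτ₀e b, add_neg_cancel]
  let P : ∀ n, ((EC.X n).carrier →ₗ[R] (EA.X (n + 1)).carrier) → Prop := fun n τ =>
    IsGrHom (EC.X n).gr (EA.X (n + 1)).gr τ ∧
      ∀ y, EC.d n y = 0 → EA.d (n + 1) (τ y) = 0
  have hP0 : P 0 τ₀ := ⟨hτ₀, fun y hy => by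
    obtain ⟨c, rfl⟩ := EC.exact_zero.le hy
    obtain ⟨b, rfl⟩ := hgs c
    rw [show τ₀ (EC.ε (g b)) = -(EA.d 0 (u b)) from LinearMap.congr_fun hτ₀e b, map_neg,
      LinearMap.mem_ker.1 ((EA.exact_succ 0).ge ⟨u b, rfl⟩), neg_zero]⟩
  have hstep : ∀ n τ, P n τ → ∃ τ', P (n + 1) τ' ∧ ∀ y, EA.d (n + 1) (τ y) + τ' (EC.d n y) = 0 := by
    intro n τ hτ
    obtain ⟨τ', hτ', he⟩ := exists_lift_of_ker_le 𝒜 (EC.X n).gr (EC.X (n + 1)).gr
      (EA.X (n + 1 + 1)).gr (EA.starInj (n + 1 + 1)) (EC.d_grHom n)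
      (f := -(EA.d (n + 1) ∘ₗ τ)) (fun j x hx => neg_mem (EA.d_grHom (n + 1) j _ (hτ.1 j x hx)))
      (fun y hy => by
        show -(EA.d (n + 1) (τ y)) = 0
        rw [hτ.2 y hy, neg_zero])
    have he' : ∀ y, τ' (EC.d n y) = -(EA.d (n + 1) (τ y)) := fun y => LinearMap.congr_fun he y
    refine ⟨τ', ⟨hτ', fun y hy => ?_⟩, fun y => by rw [he', add_neg_cancel]⟩
    obtain ⟨z, rfl⟩ := (EC.exact_succ n).le hy
    rw [he', map_neg, LinearMap.mem_ker.1 ((EA.exact_succ (n + 1)).ge ⟨τ z, rfl⟩), neg_zero]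
  choose nx hnx hnxe using hstep
  let seq : ∀ n, {τ // P n τ} := fun n => Nat.rec (motive := fun n => {τ // P n τ}) ⟨τ₀, hP0⟩
    (fun k a => ⟨nx k a.1 a.2, hnx k a.1 a.2⟩) n
  exact ⟨⟨u, hu, huf', fun n => (seq n).1, fun n => (seq n).2.1, h0,
    fun n y => hnxe n (seq n).1 (seq n).2 y⟩⟩

variable {f g EA EC}

/-- The differential of the horseshoe. -/
def Horse.D (H : Horse (ℬ := ℬ) f g EA EC) (n : ℕ) :
    (EA.X n).carrier × (EC.X n).carrier →ₗ[R] (EA.X (n + 1)).carrier × (EC.X (n + 1)).carrier :=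
  (LinearMap.coprod (EA.d n) (H.τ n)).prod (EC.d n ∘ₗ LinearMap.snd R _ _)

/-- The augmentation of the horseshoe. -/
def Horse.aug (H : Horse (ℬ := ℬ) f g EA EC) : B →ₗ[R] (EA.X 0).carrier × (EC.X 0).carrier :=
  H.u.prod (EC.ε ∘ₗ g)

theorem Horse.D_apply (H : Horse (ℬ := ℬ) f g EA EC) (n : ℕ) (x : (EA.X n).carrier)
    (y : (EC.X n).carrier) : H.D n (x, y) = (EA.d n x + H.τ n y, EC.d n y) := rfl

/-- The resolution of the middle term. -/
@[reducible] noncomputable def Horse.res (H : Horse (ℬ := ℬ) f g EA EC) (hg : IsGrHom ℬ 𝒞 g)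
    (hex : LinearMap.ker g = LinearMap.range f) (hgs : Function.Surjective g) :
    StarInjRes 𝒜 ℬ where
  X n := prodGMod (EA.X n) (EC.X n)
  d n := H.D n
  ε := H.aug
  d_grHom n j z hz := ⟨add_mem (EA.d_grHom n j _ hz.1) (H.τ_grHom n j _ hz.2), EC.d_grHom n j _ hz.2⟩
  ε_grHom j b hb := ⟨H.u_grHom j b hb, EC.ε_grHom j _ (hg j b hb)⟩
  ε_injective := by
    refine (injective_iff_map_eq_zero _).2 fun b hb => ?_
    have hb1 : H.u b = 0 := congrArg Prod.fst hb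
    have hb2 : EC.ε (g b) = 0 := congrArg Prod.snd hb
    obtain ⟨x, rfl⟩ := hex.le (EC.ε_injective (hb2.trans (map_zero _).symm))
    rw [H.u_comp] at hb1
    rw [EA.ε_injective (hb1.trans (map_zero _).symm), map_zero]
  exact_zero := by
    refine le_antisymm (fun z hz => ?_) ?_
    · obtain ⟨x, y⟩ := z
      have h1 : EA.d 0 x + H.τ 0 y = 0 := congrArg Prod.fst hz
      have h2 : EC.d 0 y = 0 := congrArg Prod.snd hz
      obtain ⟨c, rfl⟩ := EC.exact_zero.le h2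
      obtain ⟨b, rfl⟩ := hgs c
      have h3 : EA.d 0 (x - H.u b) = 0 := by
        have h4 := H.τ_zero b
        rw [map_sub, sub_eq_zero]
        exact add_right_cancel (h1.trans h4.symm)
      obtain ⟨w, hw⟩ := EA.exact_zero.le h3
      refine ⟨b + f w, ?_⟩
      show (H.u (b + f w), EC.ε (g (b + f w))) = _
      rw [map_add, H.u_comp, hw, add_sub_cancel, map_add,
        LinearMap.mem_ker.1 (hex.ge ⟨w, rfl⟩), add_zero]
    · rintro _ ⟨b, rfl⟩
      show (EA.d 0 (H.u b) + H.τ 0 (EC.ε (g b)), EC.d 0 (EC.ε (g b))) = 0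
      rw [H.τ_zero, LinearMap.mem_ker.1 (EC.exact_zero.ge ⟨g b, rfl⟩)]
      rfl
  exact_succ n := by
    refine le_antisymm (fun z hz => ?_) ?_
    · obtain ⟨x, y⟩ := z
      have h1 : EA.d (n + 1) x + H.τ (n + 1) y = 0 := congrArg Prod.fst hz
      have h2 : EC.d (n + 1) y = 0 := congrArg Prod.snd hz
      obtain ⟨y', rfl⟩ := (EC.exact_succ n).le h2
      have h3 : EA.d (n + 1) (x - H.τ n y') = 0 := by
        rw [map_sub, sub_eq_zero]
        exact add_right_cancel (h1.trans (H.τ_succ n y').symm)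
      obtain ⟨x', hx'⟩ := (EA.exact_succ n).le h3
      refine ⟨(x', y'), ?_⟩
      show (EA.d n x' + H.τ n y', EC.d n y') = _
      rw [hx', sub_add_cancel]
    · rintro _ ⟨⟨x, y⟩, rfl⟩
      show (EA.d (n + 1) (EA.d n x + H.τ n y) + H.τ (n + 1) (EC.d n y),
        EC.d (n + 1) (EC.d n y)) = 0
      rw [map_add, LinearMap.mem_ker.1 ((EA.exact_succ n).ge ⟨x, rfl⟩), zero_add, H.τ_succ,
        LinearMap.mem_ker.1 ((EC.exact_succ n).ge ⟨y, rfl⟩)]
      rfl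
  starInj n := isStarInj_prod (EA.starInj n) (EC.starInj n)

variable (H : Horse (ℬ := ℬ) f g EA EC) (a : HomogeneousIdeal 𝒜)

/-- The connecting map on cocycles. -/
def Horse.cycδ (i : ℕ) : EC.cocyc a i →ₗ[R] EA.cocyc a (i + 1) :=
  (H.τ i).restrict fun y hy => ⟨map_gam _ _ hy.1, by
    have h := H.τ_succ i y
    rw [show EC.d i y = 0 from hy.2, map_zero, add_zero] at h
    exact h⟩

theorem Horse.cycδ_mapsTo (i : ℕ) :
    (EC.cobdy a i).comap (EC.cocyc a i).subtype ≤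
      ((EA.cobdy a (i + 1)).comap (EA.cocyc a (i + 1)).subtype).comap (H.cycδ a i) := by
  intro z hz
  cases i with
  | zero =>
    have h0 : (z : (EC.X 0).carrier) = 0 := hz
    show H.τ 0 (z : (EC.X 0).carrier) ∈ EA.cobdy a 1
    rw [h0, map_zero]
    exact zero_mem _
  | succ n =>
    obtain ⟨w, hw, hwz⟩ := hz
    refine ⟨-(H.τ n w), neg_mem (map_gam _ _ hw), ?_⟩
    show EA.d (n + 1) (-(H.τ n w)) = H.τ (n + 1) (z : (EC.X (n + 1)).carrier)
    rw [map_neg, ← show EC.d n w = (z : (EC.X (n + 1)).carrier) from hwz]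
    exact neg_eq_of_add_eq_zero_right (H.τ_succ n w)

/-- The connecting map. -/
def Horse.δ (i : ℕ) : EC.H a i →ₗ[R] EA.H a (i + 1) :=
  Submodule.mapQ _ _ (H.cycδ a i) (H.cycδ_mapsTo a i)

theorem Horse.δ_grHom (i : ℕ) : IsGrHom (EC.Hgr a i) (EA.Hgr a (i + 1)) (H.δ a i) := by
  rintro j _ ⟨z, hz, rfl⟩
  exact ⟨H.cycδ a i z, H.τ_grHom i j _ hz, rfl⟩

section Maps

variable (hg : IsGrHom ℬ 𝒞 g) (hex : LinearMap.ker g = LinearMap.range f)
  (hgs : Function.Surjective g)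

/-- The first map on cocycles. -/
noncomputable def Horse.cycInl (i : ℕ) : EA.cocyc a i →ₗ[R] (H.res hg hex hgs).cocyc a i :=
  (LinearMap.inl R (EA.X i).carrier (EC.X i).carrier).restrict fun x hx =>
    ⟨(mem_gam_prod_iff a.toIdeal x (0 : (EC.X i).carrier)).2 ⟨hx.1, zero_mem _⟩, by
      show (EA.d i x + H.τ i 0, EC.d i 0) = (0 : (EA.X (i + 1)).carrier × (EC.X (i + 1)).carrier)
      rw [show EA.d i x = 0 from hx.2, map_zero, map_zero, add_zero]
      rfl⟩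

theorem Horse.cycInl_mapsTo (i : ℕ) :
    (EA.cobdy a i).comap (EA.cocyc a i).subtype ≤
      (((H.res hg hex hgs).cobdy a i).comap ((H.res hg hex hgs).cocyc a i).subtype).comap
        (H.cycInl a hg hex hgs i) := by
  intro z hz
  cases i with
  | zero =>
    have h0 : (z : (EA.X 0).carrier) = 0 := hz
    show ((z : (EA.X 0).carrier), (0 : (EC.X 0).carrier)) ∈ (⊥ : Submodule R _)
    rw [h0]
    exact zero_mem _
  | succ n =>
    obtain ⟨w, hw, hwz⟩ := hz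
    refine ⟨(w, 0), (mem_gam_prod_iff a.toIdeal w (0 : (EC.X n).carrier)).2 ⟨hw, zero_mem _⟩, ?_⟩
    show (EA.d n w + H.τ n 0, EC.d n 0) = ((z : (EA.X (n + 1)).carrier), (0 : (EC.X (n + 1)).carrier))
    rw [map_zero, map_zero, add_zero, show EA.d n w = _ from hwz]
    rfl

/-- The first map. -/
noncomputable def Horse.inlH (i : ℕ) : EA.H a i →ₗ[R] (H.res hg hex hgs).H a i :=
  Submodule.mapQ _ _ (H.cycInl a hg hex hgs i) (H.cycInl_mapsTo a hg hex hgs i)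

theorem Horse.inlH_grHom (i : ℕ) :
    IsGrHom (EA.Hgr a i) ((H.res hg hex hgs).Hgr a i) (H.inlH a hg hex hgs i) := by
  rintro j _ ⟨z, hz, rfl⟩
  exact ⟨H.cycInl a hg hex hgs i z, ⟨hz, zero_mem _⟩, rfl⟩

/-- The second map on cocycles. -/
noncomputable def Horse.cycSnd (i : ℕ) : (H.res hg hex hgs).cocyc a i →ₗ[R] EC.cocyc a i :=
  (LinearMap.snd R (EA.X i).carrier (EC.X i).carrier).restrict fun z hz =>
    ⟨((mem_gam_prod_iff a.toIdeal z.1 z.2).1 hz.1).2,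
      (congrArg Prod.snd (show H.D i z = 0 from hz.2) : EC.d i z.2 = 0)⟩

theorem Horse.cycSnd_mapsTo (i : ℕ) :
    ((H.res hg hex hgs).cobdy a i).comap ((H.res hg hex hgs).cocyc a i).subtype ≤
      ((EC.cobdy a i).comap (EC.cocyc a i).subtype).comap (H.cycSnd a hg hex hgs i) := by
  intro z hz
  cases i with
  | zero =>
    have h0 : (z.1 : (EA.X 0).carrier × (EC.X 0).carrier) = 0 := hz
    show (z.1 : (EA.X 0).carrier × (EC.X 0).carrier).2 = 0
    rw [h0]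
    rfl
  | succ n =>
    obtain ⟨w, hw, hwz⟩ := hz
    exact ⟨w.2, ((mem_gam_prod_iff a.toIdeal w.1 w.2).1 hw).2,
      (congrArg Prod.snd (show H.D n w = _ from hwz) :)⟩

/-- The second map. -/
noncomputable def Horse.sndH (i : ℕ) : (H.res hg hex hgs).H a i →ₗ[R] EC.H a i :=
  Submodule.mapQ _ _ (H.cycSnd a hg hex hgs i) (H.cycSnd_mapsTo a hg hex hgs i)

theorem Horse.sndH_grHom (i : ℕ) :
    IsGrHom ((H.res hg hex hgs).Hgr a i) (EC.Hgr a i) (H.sndH a hg hex hgs i) := by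
  rintro j _ ⟨z, hz, rfl⟩
  exact ⟨H.cycSnd a hg hex hgs i z, hz.2, rfl⟩

theorem Horse.exact_δ_inl (i : ℕ) :
    Function.Exact (H.δ a i) (H.inlH a hg hex hgs (i + 1)) := by
  intro x
  obtain ⟨z, rfl⟩ := Submodule.Quotient.mk_surjective _ x
  constructor
  · intro hx
    obtain ⟨⟨w, y⟩, hw, hwz⟩ := (Submodule.Quotient.mk_eq_zero _).1 hx
    have hw' := (mem_gam_prod_iff a.toIdeal w y).1 hw
    have h1 : EA.d i w + H.τ i y = (z : (EA.X (i + 1)).carrier) := congrArg Prod.fst hwz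
    have h2 : EC.d i y = 0 := congrArg Prod.snd hwz
    refine ⟨Submodule.Quotient.mk ⟨y, hw'.2, h2⟩, ?_⟩
    refine (Submodule.Quotient.eq _).2 ⟨-w, neg_mem hw'.1, ?_⟩
    show EA.d i (-w) = H.τ i y - (z : (EA.X (i + 1)).carrier)
    rw [← h1, map_neg]
    abel
  · rintro ⟨y, hy⟩
    obtain ⟨y, rfl⟩ := Submodule.Quotient.mk_surjective _ y
    rw [← hy]
    refine (Submodule.Quotient.mk_eq_zero _).2 ⟨(0, (y : (EC.X i).carrier)),
      (mem_gam_prod_iff a.toIdeal (0 : (EA.X i).carrier) _).2 ⟨zero_mem _, y.2.1⟩, ?_⟩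
    show (EA.d i 0 + H.τ i (y : (EC.X i).carrier), EC.d i (y : (EC.X i).carrier)) =
      (H.τ i (y : (EC.X i).carrier), (0 : (EC.X (i + 1)).carrier))
    rw [map_zero, zero_add, show EC.d i (y : (EC.X i).carrier) = 0 from y.2.2]

theorem Horse.exact_inl_snd (i : ℕ) :
    Function.Exact (H.inlH a hg hex hgs i) (H.sndH a hg hex hgs i) := by
  intro x
  obtain ⟨⟨⟨x₁, x₂⟩, hz⟩, rfl⟩ := Submodule.Quotient.mk_surjective _ x
  have hz1 := (mem_gam_prod_iff a.toIdeal x₁ x₂).1 hz.1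
  have hd1 : EA.d i x₁ + H.τ i x₂ = 0 := congrArg Prod.fst (show H.D i (x₁, x₂) = 0 from hz.2)
  constructor
  · intro hx
    have hx' : x₂ ∈ EC.cobdy a i := by
      have h := (Submodule.Quotient.mk_eq_zero ((EC.cobdy a i).comap (EC.cocyc a i).subtype)).1 hx
      exact h
    cases i with
    | zero =>
      obtain rfl : x₂ = 0 := hx'
      rw [map_zero, add_zero] at hd1
      exact ⟨Submodule.Quotient.mk ⟨x₁, hz1.1, hd1⟩, rfl⟩
    | succ n =>
      obtain ⟨y, hy, rfl⟩ := hx'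
      have hcyc : EA.d (n + 1) (x₁ - H.τ n y) = 0 := by
        rw [map_sub, sub_eq_zero]
        exact add_right_cancel (hd1.trans (H.τ_succ n y).symm)
      refine ⟨Submodule.Quotient.mk ⟨x₁ - H.τ n y, sub_mem hz1.1 (map_gam _ _ hy), hcyc⟩,
        (Submodule.Quotient.eq _).2 ⟨(0, -y),
          (mem_gam_prod_iff a.toIdeal (0 : (EA.X n).carrier) (-y)).2 ⟨zero_mem _, neg_mem hy⟩, ?_⟩⟩
      show (EA.d n 0 + H.τ n (-y), EC.d n (-y)) =
        ((x₁ - H.τ n y, (0 : (EC.X (n + 1)).carrier)) - (x₁, EC.d n y))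
      refine Prod.ext ?_ ?_
      · show EA.d n 0 + H.τ n (-y) = x₁ - H.τ n y - x₁
        rw [map_zero, map_neg]
        abel
      · show EC.d n (-y) = 0 - EC.d n y
        rw [map_neg, zero_sub]
  · rintro ⟨w, hw⟩
    obtain ⟨w, rfl⟩ := Submodule.Quotient.mk_surjective _ w
    rw [← hw]
    exact (Submodule.Quotient.mk_eq_zero _).2 (zero_mem _)

theorem Horse.exact_snd_δ (i : ℕ) : Function.Exact (H.sndH a hg hex hgs i) (H.δ a i) := by
  intro x
  obtain ⟨⟨y, hy⟩, rfl⟩ := Submodule.Quotient.mk_surjective _ x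
  constructor
  · intro hx
    obtain ⟨w, hw, hwz⟩ := (Submodule.Quotient.mk_eq_zero _).1 hx
    refine ⟨Submodule.Quotient.mk ⟨(-w, y),
      (mem_gam_prod_iff a.toIdeal (-w) y).2 ⟨neg_mem hw, hy.1⟩, ?_⟩, rfl⟩
    show (EA.d i (-w) + H.τ i y, EC.d i y) = (0 : (EA.X (i + 1)).carrier × (EC.X (i + 1)).carrier)
    rw [show EC.d i y = 0 from hy.2, map_neg, show EA.d i w = H.τ i y from hwz, neg_add_cancel]
    rfl
  · rintro ⟨w, hw⟩
    obtain ⟨⟨⟨w₁, w₂⟩, hwc⟩, rfl⟩ := Submodule.Quotient.mk_surjective _ w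
    rw [← hw]
    have hd1 : EA.d i w₁ + H.τ i w₂ = 0 := congrArg Prod.fst (show H.D i (w₁, w₂) = 0 from hwc.2)
    refine (Submodule.Quotient.mk_eq_zero _).2
      ⟨-w₁, neg_mem ((mem_gam_prod_iff a.toIdeal w₁ w₂).1 hwc.1).1, ?_⟩
    show EA.d i (-w₁) = H.τ i w₂
    rw [map_neg]
    exact neg_eq_of_add_eq_zero_right hd1

theorem Horse.inlH_zero_injective : Function.Injective (H.inlH a hg hex hgs 0) := by
  refine (injective_iff_map_eq_zero _).2 fun x hx => ?_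
  obtain ⟨z, rfl⟩ := Submodule.Quotient.mk_surjective _ x
  have h := (Submodule.Quotient.mk_eq_zero _).1 hx
  exact (Submodule.Quotient.mk_eq_zero _).2
    (congrArg Prod.fst (show ((z : (EA.X 0).carrier), (0 : (EC.X 0).carrier)) = 0 from h))

end Maps

end Horse

/-- A chain map killing the augmentation is null on cohomology. -/
theorem cocyc_mem_cobdy_of_null {A B : Type u} [AddCommGroup A] [Module R A] [AddCommGroup B]
    [Module R B] {𝒢 : ι → AddSubgroup A} [Decomposition 𝒢] [SetLike.GradedSMul 𝒜 𝒢]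
    {ℬ : ι → AddSubgroup B} [Decomposition ℬ] [SetLike.GradedSMul 𝒜 ℬ]
    {E : StarInjRes 𝒜 𝒢} {F : StarInjRes 𝒜 ℬ}
    (φ : ∀ n, (E.X n).carrier →ₗ[R] (F.X n).carrier)
    (hφ : ∀ n, IsGrHom (E.X n).gr (F.X n).gr (φ n)) (hε : ∀ x, φ 0 (E.ε x) = 0)
    (hd : ∀ n x, φ (n + 1) (E.d n x) = F.d n (φ n x)) (a : HomogeneousIdeal 𝒜) (i : ℕ)
    {z : (E.X i).carrier} (hz : z ∈ E.cocyc a i) : φ i z ∈ F.cobdy a i := by
  let P : ∀ n, ((E.X (n + 1)).carrier →ₗ[R] (F.X n).carrier) → Prop := fun n s =>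
    IsGrHom (E.X (n + 1)).gr (F.X n).gr s ∧ ∀ x, F.d n (φ n x) = F.d n (s (E.d n x))
  obtain ⟨s₀, hs₀, hs₀e⟩ := exists_lift_of_ker_le 𝒜 (E.X 0).gr (E.X 1).gr (F.X 0).gr (F.starInj 0)
    (E.d_grHom 0) (hφ 0) (fun x hx => by
      obtain ⟨w, rfl⟩ := E.exact_zero.le hx
      exact hε w)
  have hs₀e' : ∀ x, s₀ (E.d 0 x) = φ 0 x := fun x => LinearMap.congr_fun hs₀e x
  have h0 : P 0 s₀ := ⟨hs₀, fun x => by rw [hs₀e']⟩
  have hstep : ∀ n s, P n s → ∃ t, P (n + 1) t ∧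
      ∀ x, φ (n + 1) x = F.d n (s x) + t (E.d (n + 1) x) := by
    intro n s hs
    obtain ⟨t, ht, hte⟩ := exists_lift_of_ker_le 𝒜 (E.X (n + 1)).gr (E.X (n + 1 + 1)).gr
      (F.X (n + 1)).gr (F.starInj (n + 1)) (E.d_grHom (n + 1))
      (f := φ (n + 1) - F.d n ∘ₗ s)
      (fun g m hm => sub_mem (hφ (n + 1) g m hm) (F.d_grHom n g _ (hs.1 g m hm))) (fun x hx => by
        obtain ⟨y, rfl⟩ := (E.exact_succ n).le hx
        show φ (n + 1) (E.d n y) - F.d n (s (E.d n y)) = 0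
        rw [hd, hs.2, sub_self])
    have hte' : ∀ x, t (E.d (n + 1) x) = φ (n + 1) x - F.d n (s x) := fun x =>
      LinearMap.congr_fun hte x
    refine ⟨t, ⟨ht, fun x => ?_⟩, fun x => by rw [hte', add_sub_cancel]⟩
    rw [hte', map_sub, show F.d (n + 1) (F.d n (s x)) = 0 from
      LinearMap.mem_ker.1 ((F.exact_succ n).ge ⟨s x, rfl⟩), sub_zero]
  choose t ht hte using hstep
  let seq : ∀ n, {s // P n s} := fun n => Nat.rec (motive := fun n => {s // P n s}) ⟨s₀, h0⟩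
    (fun k a => ⟨t k a.1 a.2, ht k a.1 a.2⟩) n
  cases i with
  | zero =>
    rw [← hs₀e', show E.d 0 z = 0 from hz.2, map_zero]
    exact zero_mem _
  | succ n =>
    refine ⟨(seq n).1 z, map_gam _ _ hz.1, ?_⟩
    rw [hte n (seq n).1 (seq n).2 z, show E.d (n + 1) z = 0 from hz.2, map_zero, add_zero]

section Shift

variable {M : Type u} [AddCommGroup M] [Module R M] {ℳ : ι → AddSubgroup M} [Decomposition ℳ]
  [SetLike.GradedSMul 𝒜 ℳ]

/-- A shift is bundled. -/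
noncomputable abbrev shiftGMod (X : GMod.{u} 𝒜) (g : ι) : GMod.{u} 𝒜 :=
  GMod.of 𝒜 X.carrier (shiftPc X.gr g)

theorem isStarInj_shiftPc {g : ι} (hM : IsStarInj 𝒜 ℳ) :
    IsStarInj 𝒜 (shiftPc ℳ g) := by
  intro A B f hf hfi φ hφ
  obtain ⟨h, hh, he⟩ := hM (shiftGMod A (-g)) (shiftGMod B (-g)) f (fun j x hx => hf _ x hx) hfi φ
    (fun j x hx => by
      have := hφ (j - -g) x hx
      simp only [shiftPc, sub_neg_eq_add, add_sub_cancel_right] at this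
      exact this)
  refine ⟨h, fun j x hx => ?_, he⟩
  exact hh (j - g) x (by
    show x ∈ B.gr (j - g - -g)
    simpa using hx)

theorem isStarInj_shiftGMod (X : GMod.{u} 𝒜) (g : ι) (hX : IsStarInj 𝒜 X.gr) :
    IsStarInj 𝒜 (shiftGMod X g).gr :=
  @isStarInj_shiftPc ι _ _ R _ 𝒜 _ X.carrier X.acg X.mod X.gr X.dec X.gsmul g hX

/-- The shifted resolution. -/
@[reducible] noncomputable def shiftRes (E : StarInjRes 𝒜 ℳ) (g : ι) :
    StarInjRes 𝒜 (shiftPc ℳ g) where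
  X n := shiftGMod (E.X n) g
  d := E.d
  ε := E.ε
  d_grHom n j x hx := E.d_grHom n _ x hx
  ε_grHom j x hx := E.ε_grHom _ x hx
  ε_injective := E.ε_injective
  exact_zero := E.exact_zero
  exact_succ := E.exact_succ
  starInj n := by
    exact isStarInj_shiftGMod (E.X n) g (E.starInj n)

end Shift

end GrothGr
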