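import Groth.Agent.GrMod.CanonicalEnd
import Groth.Agent.GrMod.LES
import Groth.Agent.GrMod.Positive
import Mathlib.LinearAlgebra.Dual.Lemmas

/-!
# The *injective envelope of `R ⧸ R₊` is the graded dual

Helper library (no milestone statements here).
-/

universe u

open DirectSum GrLC

namespace GrothGr

variable {R : Type u} [CommRing R] {𝒜 : ℤ → AddSubgroup R} [GradedRing 𝒜]
  (hpos : ∀ n : ℤ, n < 0 → 𝒜 n = ⊥) {m : HomogeneousIdeal 𝒜}
  (hmsp : m.toIdeal = Ideal.span (⋃ n ∈ Set.Ioi (0 : ℤ), (𝒜 n : Set R)))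
  (hne : m.toIdeal ≠ ⊤) (h0 : IsField (GrLC.deg0 𝒜))
  {E' : Type u} [AddCommGroup E'] [Module R E'] {𝓔 : ℤ → AddSubgroup E'} [Decomposition 𝓔]
  [SetLike.GradedSMul 𝒜 𝓔] {e : (R ⧸ m.toIdeal) →ₗ[R] E'}
  (he : IsStarInjHull 𝒜 (quotGr 𝒜 m) 𝓔 e)
  {C : Type u} [AddCommGroup C] [Module R C] {𝒞 : ℤ → AddSubgroup C} [Decomposition 𝒞]
  [SetLike.GradedSMul 𝒜 𝒞]

include hpos hmsp he in
theorem exists_smul_hull_ne_zero {j : ℤ} {w : E'} (hw : w ∈ 𝓔 j) (hw0 : w ≠ 0) :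
    ∃ r ∈ 𝒜 (-j), r • w ≠ 0 := by
  obtain ⟨l, r, hr, ⟨x, hx⟩, hne'⟩ := IsStarEss.exists_homogeneous_smul 𝒜 (ℳ := quotGr 𝒜 m)
    (f := e) he.toIsStarEss (isHomogeneous_range he.grHom) hw hw0
  have h1 : r • w ∈ 𝓔 (l + j) := smul_mem 𝓔 𝒜 hr hw
  have h2 : e x ∈ 𝓔 0 := he.grHom 0 x (quotGr_eq_top hpos hmsp x)
  have hlj : l + j = 0 := by
    by_contra hlj
    exact hne' (by rw [← pr_of_mem 𝓔 h1, ← hx, pr_of_mem_ne 𝓔 h2 (Ne.symm hlj)])
  exact ⟨r, (show l = -j by omega) ▸ hr, hne'⟩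

include he in
theorem e_one_mem : e 1 ∈ 𝓔 0 := he.grHom 0 1 (one_mem_quotGr 𝒜 m)

include he hne in
theorem e_one_ne_zero : e 1 ≠ 0 := fun h => hne ((Ideal.eq_top_iff_one _).2
  (Ideal.Quotient.eq_zero_iff_mem.1 ((map_one _).trans (he.injective (h.trans (map_zero e).symm)))))

/-- `R₀ → E₀`. -/
def socleMap : GrLC.deg0 𝒜 →ₗ[GrLC.deg0 𝒜] GrLC.comp 𝒜 𝓔 0 :=
  LinearMap.toSpanSingleton (GrLC.deg0 𝒜) (GrLC.comp 𝒜 𝓔 0) ⟨e 1, e_one_mem he⟩

include hpos hmsp hne h0 in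
theorem socleMap_bijective : Function.Bijective (socleMap he) := by
  constructor
  · rw [injective_iff_map_eq_zero]
    intro c hc
    by_contra hc0
    obtain ⟨d, hd⟩ := h0.mul_inv_cancel hc0
    have h1 : (c : R) • e 1 = 0 := congrArg Subtype.val hc
    refine e_one_ne_zero hne he ?_
    rw [← one_smul R (e 1), show (1 : R) = (d : R) * (c : R) by
      rw [mul_comm]; exact (congrArg Subtype.val hd).symm, mul_smul, h1, smul_zero]
  · intro w
    rcases eq_or_ne w 0 with rfl | hw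
    · exact ⟨0, map_zero _⟩
    have hw' : (w : E') ≠ 0 := fun h => hw (Subtype.ext h)
    obtain ⟨l, s, hs, ⟨x, hx⟩, hne'⟩ := IsStarEss.exists_homogeneous_smul 𝒜 (ℳ := quotGr 𝒜 m)
      (f := e) he.toIsStarEss (isHomogeneous_range he.grHom) (show (w : E') ∈ 𝓔 0 from w.2) hw'
    have h1 : s • (w : E') ∈ 𝓔 (l + 0) := smul_mem 𝓔 𝒜 hs w.2
    have h2 : e x ∈ 𝓔 0 := he.grHom 0 x (quotGr_eq_top hpos hmsp x)
    have hl : l = 0 := by
      by_contra hl
      exact hne' (by rw [← pr_of_mem 𝓔 h1, ← hx, pr_of_mem_ne 𝓔 h2 (by omega)])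
    subst hl
    obtain ⟨y, hy, rfl⟩ : ∃ y ∈ 𝒜 0, Ideal.Quotient.mk m.toIdeal y = x :=
      quotGr_eq_top hpos hmsp x
    obtain ⟨t, ht⟩ := h0.mul_inv_cancel (a := (⟨s, hs⟩ : GrLC.deg0 𝒜)) fun h =>
      hne' (by rw [show s = 0 from congrArg Subtype.val h, zero_smul])
    refine ⟨t * ⟨y, hy⟩, Subtype.ext ?_⟩
    show ((t : R) * y) • e 1 = (w : E')
    rw [mul_smul, show y • e 1 = e (Ideal.Quotient.mk m.toIdeal y) by
      rw [← map_smul, Algebra.smul_def, mul_one, Ideal.Quotient.algebraMap_eq], hx, smul_smul,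
      mul_comm, show s * (t : R) = 1 from congrArg Subtype.val ht, one_smul]

variable (𝒞) in
include hpos hmsp he in
/-- A functional on one piece extends to a homogeneous map into the envelope. -/
theorem exists_extend_piece (i d : ℤ) (h : i + d = 0)
    (μ : GrLC.comp 𝒜 𝒞 i →ₗ[GrLC.deg0 𝒜] GrLC.comp 𝒜 𝓔 0) :
    ∃ f : C →ₗ[R] E', IsGrHomDeg 𝒞 𝓔 f d ∧ ∀ c : GrLC.comp 𝒜 𝒞 i, f c = μ c := by
  classical
  let N : Submodule R C :=
    { carrier := {c | ∀ k, k < i → pr 𝒞 k c = 0}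
      add_mem' := fun {a b} ha hb k hk => by rw [map_add, ha k hk, hb k hk, add_zero]
      zero_mem' := fun k _ => map_zero _
      smul_mem' := fun r c hc k hk => by
        obtain ⟨s, -, hs⟩ := exists_sum_pr 𝒜 r
        rw [← hs, Finset.sum_smul, map_sum]
        refine Finset.sum_eq_zero fun l _ => ?_
        rcases lt_or_ge l 0 with hl | hl
        · have h := pr_mem 𝒜 l r
          rw [hpos l hl, AddSubgroup.mem_bot] at h
          rw [h, zero_smul, map_zero]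
        · rw [pr_smul 𝒞 𝒜 (pr_mem 𝒜 l r), hc (k - l) (by omega), smul_zero] }
  have hN : N.IsHomogeneous 𝒞 := fun g c hc k hk => by
    by_cases hgk : g = k
    · subst hgk; exact (pr_of_mem 𝒞 (decompose 𝒞 c g).2).trans (hc g hk)
    · exact pr_of_mem_ne 𝒞 (decompose 𝒞 c g).2 hgk
  let ν : N → GrLC.comp 𝒜 𝓔 0 := fun c => μ ⟨pr 𝒞 i (c : C), pr_mem 𝒞 i _⟩
  have hν : ∀ (r : R) (c : N), (ν (r • c) : E') = r • (ν c : E') := by
    intro r c
    have h1 : pr 𝒞 i (r • (c : C)) = pr 𝒜 0 r • pr 𝒞 i (c : C) := by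
      obtain ⟨s, hs', hs⟩ := exists_sum_pr 𝒜 r
      conv_lhs => rw [← hs, Finset.sum_smul, map_sum]
      rw [Finset.sum_eq_single 0 (fun l _ hl => ?_) (fun h0' => by rw [hs' 0 h0', zero_smul, map_zero]),
        pr_smul 𝒞 𝒜 (pr_mem 𝒜 0 r), sub_zero]
      rcases lt_or_gt_of_ne hl with hl' | hl'
      · have h := pr_mem 𝒜 l r
        rw [hpos l hl', AddSubgroup.mem_bot] at h
        rw [h, zero_smul, map_zero]
      · rw [pr_smul 𝒞 𝒜 (pr_mem 𝒜 l r), c.2 (i - l) (by omega), smul_zero]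
    have h2 : ν (r • c) = (⟨pr 𝒜 0 r, pr_mem 𝒜 0 r⟩ : GrLC.deg0 𝒜) • ν c := by
      show μ _ = _ • μ _
      rw [← map_smul]
      exact congrArg μ (Subtype.ext h1)
    rw [h2]
    show pr 𝒜 0 r • (ν c : E') = r • (ν c : E')
    obtain ⟨s, hs', hs⟩ := exists_sum_pr 𝒜 r
    conv_rhs => rw [← hs, Finset.sum_smul]
    refine (Finset.sum_eq_single (f := fun l => pr 𝒜 l r • (ν c : E')) 0 (fun l _ hl => ?_)
      (fun h0' => by rw [hs' 0 h0', zero_smul])).symm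
    have h3 : pr 𝒜 l r • (ν c : E') ∈ 𝓔 (l + 0) := smul_mem 𝓔 𝒜 (pr_mem 𝒜 l r) (ν c).2
    rcases lt_or_gt_of_ne hl with hl' | hl'
    · have h := pr_mem 𝒜 l r
      rw [hpos l hl', AddSubgroup.mem_bot] at h
      rw [h, zero_smul]
    · rw [hull_piece_eq_bot hpos hmsp he (by omega), AddSubgroup.mem_bot] at h3
      exact h3
  let F : N →ₗ[R] E' :=
    { toFun := fun c => (ν c : E')
      map_add' := fun a b => by
        rw [← AddMemClass.coe_add]
        refine congrArg Subtype.val (?_ : ν (a + b) = ν a + ν b)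
        show μ _ = μ _ + μ _
        rw [← map_add]
        exact congrArg μ (Subtype.ext (map_add (pr 𝒞 i) (a : C) (b : C)))
      map_smul' := hν }
  letI : Decomposition (shiftPc 𝓔 (-d)) := (shiftPc_isInternal 𝓔 (-d)).chooseDecomposition
  haveI : SetLike.GradedSMul 𝒜 (shiftPc 𝓔 (-d)) := ⟨fun {a g r x} hr hx => by
    show r • x ∈ 𝓔 (a + g - -d)
    rw [add_sub_assoc]
    exact smul_mem 𝓔 𝒜 hr hx⟩
  obtain ⟨f, hf, hfe⟩ := isStarInj_shiftPc he.starInj (g := -d) (sub 𝒜 𝒞 hN)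
    (GMod.of 𝒜 C 𝒞) N.subtype (subtype_isGrHom 𝒞 N) Subtype.val_injective F (fun g c hc => by
      change N at c
      show (ν c : E') ∈ 𝓔 (g - -d)
      by_cases hg : g = i
      · subst hg
        rw [sub_neg_eq_add, h]
        exact (ν c).2
      · have hz : ν c = 0 := by
          show μ _ = 0
          rw [← map_zero μ]
          exact congrArg μ (Subtype.ext (pr_of_mem_ne 𝒞 (show Subtype.val c ∈ 𝒞 g from hc) hg))
        rw [hz]
        exact zero_mem _)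
  refine ⟨f, fun g c hc => ?_, fun c => ?_⟩
  · have := hf g c hc
    show f c ∈ 𝓔 (g + d)
    rwa [show shiftPc 𝓔 (-d) g = 𝓔 (g + d) by rw [shiftPc, sub_neg_eq_add]] at this
  · have hcN : (c : C) ∈ N := fun k hk => pr_of_mem_ne 𝒞 (show (c : C) ∈ 𝒞 i from c.2) (by omega)
    refine (LinearMap.congr_fun hfe ⟨_, hcN⟩).trans ?_
    exact congrArg (fun z => (μ z : E')) (Subtype.ext (pr_of_mem 𝒞 (show (c : C) ∈ 𝒞 i from c.2)))

variable (𝒞) in
/-- Restriction of a homogeneous map to the piece it sends to the socle degree. -/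
noncomputable def resPiece (d i : ℤ) (h : i + d = 0) :
    homDeg 𝒜 𝒞 𝓔 d →ₗ[GrLC.deg0 𝒜] (GrLC.comp 𝒜 𝒞 i →ₗ[GrLC.deg0 𝒜] GrLC.comp 𝒜 𝓔 0) where
  toFun f :=
    { toFun := fun c => ⟨(f : C →ₗ[R] E') c, h ▸ f.2 i c c.2⟩
      map_add' := fun a b => Subtype.ext (map_add _ _ _)
      map_smul' := fun r a => Subtype.ext (map_smul (f : C →ₗ[R] E') (r : R) (a : C)) }
  map_add' _ _ := rfl
  map_smul' _ _ := rfl

include hpos hmsp he in
theorem resPiece_bijective (d i : ℤ) (h : i + d = 0) :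
    Function.Bijective (resPiece (𝒜 := 𝒜) (𝓔 := 𝓔) 𝒞 d i h) := by
  constructor
  · rw [injective_iff_map_eq_zero]
    intro f hf
    refine Subtype.ext (LinearMap.ext fun c => ?_)
    obtain ⟨s, -, hs⟩ := exists_sum_pr 𝒞 c
    rw [← hs, map_sum]
    refine (Finset.sum_eq_zero fun k _ => ?_).trans (LinearMap.zero_apply _).symm
    by_contra hk
    have hk' : (f : C →ₗ[R] E') (pr 𝒞 k c) ∈ 𝓔 (k + d) := f.2 k _ (pr_mem 𝒞 k c)
    obtain ⟨r, hr, hr0⟩ := exists_smul_hull_ne_zero hpos hmsp he hk' hk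
    apply hr0
    have hmem := smul_mem 𝒞 𝒜 hr (pr_mem 𝒞 k c)
    rw [show -(k + d) + k = i by omega] at hmem
    rw [← map_smul]
    exact congrArg Subtype.val (LinearMap.congr_fun hf ⟨_, hmem⟩)
  · intro μ
    obtain ⟨f, hf, hfμ⟩ := exists_extend_piece hpos hmsp he 𝒞 i d h μ
    exact ⟨⟨f, hf⟩, LinearMap.ext fun c => Subtype.ext (hfμ c)⟩

variable (𝒞) in
/-- Homogeneous maps of degree `d` into the envelope are the functionals on `C (-d)`. -/
noncomputable def homDualEquiv (d i : ℤ) (h : i + d = 0) :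
    homDeg 𝒜 𝒞 𝓔 d ≃ₗ[GrLC.deg0 𝒜] Module.Dual (GrLC.deg0 𝒜) (GrLC.comp 𝒜 𝒞 i) :=
  (LinearEquiv.ofBijective (resPiece 𝒞 d i h) (resPiece_bijective hpos hmsp he d i h)).trans
    (LinearEquiv.congrRight (LinearEquiv.ofBijective (socleMap he)
      (socleMap_bijective hpos hmsp hne h0 he)).symm)

theorem homDualEquiv_spec (d i : ℤ) (h : i + d = 0) (f : homDeg 𝒜 𝒞 𝓔 d) (c : GrLC.comp 𝒜 𝒞 i) :
    (homDualEquiv hpos hmsp hne h0 he 𝒞 d i h f c : R) • e 1 = (f : C →ₗ[R] E') c :=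
  congrArg Subtype.val ((LinearEquiv.ofBijective (socleMap he)
    (socleMap_bijective hpos hmsp hne h0 he)).apply_symm_apply (resPiece 𝒞 d i h f c))

variable (𝒞) in
include hpos in
/-- The pieces of a Noetherian graded module are finite over `R₀`. -/
theorem finite_piece [IsNoetherian R C] (i : ℤ) :
    Module.Finite (GrLC.deg0 𝒜) (GrLC.comp 𝒜 𝒞 i) := by
  classical
  let N : Submodule R C :=
    { carrier := {c | ∀ k, k < i → pr 𝒞 k c = 0}
      add_mem' := fun {a b} ha hb k hk => by rw [map_add, ha k hk, hb k hk, add_zero]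
      zero_mem' := fun k _ => map_zero _
      smul_mem' := fun r c hc k hk => by
        obtain ⟨s, -, hs⟩ := exists_sum_pr 𝒜 r
        rw [← hs, Finset.sum_smul, map_sum]
        refine Finset.sum_eq_zero fun l _ => ?_
        rcases lt_or_ge l 0 with hl | hl
        · have h := pr_mem 𝒜 l r
          rw [hpos l hl, AddSubgroup.mem_bot] at h
          rw [h, zero_smul, map_zero]
        · rw [pr_smul 𝒞 𝒜 (pr_mem 𝒜 l r), hc (k - l) (by omega), smul_zero] }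
  obtain ⟨T, hT⟩ := IsNoetherian.noetherian N
  refine Module.Finite.iff_fg.2 ⟨T.image (pr 𝒞 i), le_antisymm (Submodule.span_le.2 ?_) fun c hc => ?_⟩
  · intro x hx
    obtain ⟨t, -, rfl⟩ := Finset.mem_image.1 hx
    exact pr_mem 𝒞 i t
  · have hcN : c ∈ Submodule.span R (T : Set C) :=
      hT ▸ fun k hk => pr_of_mem_ne 𝒞 (show c ∈ 𝒞 i from hc) (by omega)
    suffices key : ∀ z ∈ Submodule.span R (T : Set C),
        pr 𝒞 i z ∈ Submodule.span (GrLC.deg0 𝒜) ((T.image (pr 𝒞 i) : Finset C) : Set C) by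
      have := key c hcN
      rwa [pr_of_mem 𝒞 (show c ∈ 𝒞 i from hc)] at this
    intro z hz
    have hzN : z ∈ N := hT.le hz
    induction hz using Submodule.span_induction with
    | mem y hy => exact Submodule.subset_span (Finset.mem_coe.2 (Finset.mem_image_of_mem _ hy))
    | zero => rw [map_zero]; exact zero_mem _
    | add a b ha hb iha ihb =>
      rw [map_add]
      exact add_mem (iha (hT.le ha)) (ihb (hT.le hb))
    | smul r y hy ih =>
      have hy' : ∀ k, k < i → pr 𝒞 k y = 0 := hT.le hy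
      obtain ⟨s, -, hs⟩ := exists_sum_pr 𝒜 r
      rw [← hs, Finset.sum_smul, map_sum]
      refine sum_mem fun l _ => ?_
      rcases lt_trichotomy l 0 with hl | rfl | hl
      · have h := pr_mem 𝒜 l r
        rw [hpos l hl, AddSubgroup.mem_bot] at h
        rw [h, zero_smul, map_zero]
        exact zero_mem _
      · rw [pr_smul 𝒞 𝒜 (pr_mem 𝒜 0 r), sub_zero]
        exact Submodule.smul_mem _ (⟨_, pr_mem 𝒜 0 r⟩ : GrLC.deg0 𝒜) (ih (hT.le hy))
      · rw [pr_smul 𝒞 𝒜 (pr_mem 𝒜 l r), hy' (i - l) (by omega), smul_zero]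
        exact zero_mem _

include hpos hmsp hne h0 he in
/-- A fg graded module is the graded dual of its graded dual. -/
theorem existsUnique_eval [IsNoetherian R C] (d i : ℤ) (h : i + d = 0)
    (L : homDeg 𝒜 𝒞 𝓔 d →ₗ[GrLC.deg0 𝒜] GrLC.deg0 𝒜) :
    ∃! c : GrLC.comp 𝒜 𝒞 i, ∀ f : homDeg 𝒜 𝒞 𝓔 d, (f : C →ₗ[R] E') c = (L f : R) • e 1 := by
  haveI := finite_piece hpos 𝒞 i
  set Θ := homDualEquiv hpos hmsp hne h0 he 𝒞 d i h
  have hsep : ∀ c : GrLC.comp 𝒜 𝒞 i, (∀ μ : Module.Dual (GrLC.deg0 𝒜) (GrLC.comp 𝒜 𝒞 i), μ c = 0) → c = 0 := by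
    letI : Field (GrLC.deg0 𝒜) := h0.toField
    exact fun c hc => (Module.forall_dual_apply_eq_zero_iff _ _).1 hc
  have hsurj : Function.Surjective (Module.Dual.eval (GrLC.deg0 𝒜) (GrLC.comp 𝒜 𝒞 i)) := by
    letI : Field (GrLC.deg0 𝒜) := h0.toField
    exact (Module.evalEquiv (GrLC.deg0 𝒜) (GrLC.comp 𝒜 𝒞 i)).surjective
  obtain ⟨c, hc⟩ := hsurj (L ∘ₗ Θ.symm.toLinearMap)
  have hc' : ∀ f, Θ f c = L f := fun f => by
    refine (LinearMap.congr_fun hc (Θ f)).trans ?_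
    exact congrArg L (Θ.symm_apply_apply f)
  refine ⟨c, fun f => ?_, fun c' hc'' => ?_⟩
  · rw [← hc' f]
    exact (homDualEquiv_spec hpos hmsp hne h0 he d i h f c).symm
  · refine sub_eq_zero.1 (hsep _ fun μ => ?_)
    obtain ⟨f, rfl⟩ := Θ.surjective μ
    rw [map_sub, sub_eq_zero, hc' f]
    refine (socleMap_bijective hpos hmsp hne h0 he).1 (Subtype.ext ?_)
    exact (homDualEquiv_spec hpos hmsp hne h0 he d i h f c').trans (hc'' f)

end GrothGr
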