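import Groth.Agent.GrMod.StarLocal
import Groth.Agent.GrMod.StarInjDim
import Groth.Agent.Gorenstein.BassInjective
import Mathlib.Algebra.Module.FinitePresentation

/-!
# The *injective envelope of `R ⧸ m` localized at `m`

Helper library (no milestone statements here).
-/

universe u

open DirectSum GrLC TensorProduct

namespace GrothGr

variable {R : Type u} [CommRing R] [IsNoetherianRing R]

/-- Bass numbers `μ^1` below `P` control injectivity of `M_P`. -/
theorem injective_localized_of_bassNum (P : Ideal R) [P.IsPrime] (M : Type u) [AddCommGroup M]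
    [Module R M] (h : ∀ (q : Ideal R) [q.IsPrime], q ≤ P → bassNum q M 1 = 0) :
    Module.Injective (Localization.AtPrime P) (LocalizedModule P.primeCompl M) := by
  set A := Localization.AtPrime P
  obtain ⟨E, _, _, e, he⟩ := GrothMatlis.exists_hull R M
  haveI := he.isInjective
  haveI : Module.Injective A (LocalizedModule P.primeCompl E) :=
    Module.injective_of_isLocalizedModule P.primeCompl (LocalizedModule.mkLinearMap P.primeCompl E)
  let G := LocalizedModule.map P.primeCompl e
  have hG : Function.Injective G := LocalizedModule.map_injective P.primeCompl e he.injective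
  suffices hs : Function.Surjective G from
    GrothGoren.injLT_one_iff.1 (GrothGoren.injLT_of_equiv (LinearEquiv.ofBijective G ⟨hG, hs⟩).symm
      (GrothGoren.injLT_one_iff.2 inferInstance))
  intro y
  induction y using LocalizedModule.induction_on with
  | h x t =>
    by_contra hne
    have hc : (LinearMap.range e).mkQ x ≠ 0 := fun h0 => by
      obtain ⟨z, hz⟩ := (Submodule.Quotient.mk_eq_zero _).1 h0
      exact hne ⟨LocalizedModule.mk z t, by rw [LocalizedModule.map_mk, hz]⟩
    set c := (LinearMap.range e).mkQ x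
    -- the annihilator of `c` lies in `P`
    have hle : (R ∙ c).annihilator ≤ P := by
      intro r hr
      by_contra hrP
      rw [Submodule.mem_annihilator_span_singleton, ← map_smul, Submodule.mkQ_apply,
        Submodule.Quotient.mk_eq_zero] at hr
      obtain ⟨z, hz⟩ := hr
      refine hne ⟨LocalizedModule.mk z (⟨r, hrP⟩ * t), ?_⟩
      rw [LocalizedModule.map_mk, hz]
      exact LocalizedModule.mk_cancel_common_left (⟨r, hrP⟩ : P.primeCompl) t x
    obtain ⟨q, hq, hqP⟩ := Ideal.exists_minimalPrimes_le hle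
    haveI := hq.1.1
    have hass : q ∈ associatedPrimes R (R ∙ c) :=
      Module.associatedPrimes.minimalPrimes_annihilator_subset_associatedPrimes R _ hq
    obtain ⟨hqp, hne'⟩ := GrothGoren.bassNum_one_ne_zero_of_ass he q
      (associatedPrimes.subset_of_injective (R ∙ c).injective_subtype hass)
    exact hne' (h q hqP)

variable {ι : Type} [AddCommGroup ι] [DecidableEq ι] [Module.Free ℤ ι] [Module.Finite ℤ ι]
variable (𝒜 : ι → AddSubgroup R) [GradedRing 𝒜] {m : HomogeneousIdeal 𝒜}

theorem bassNum_one_hull_eq_zero [m.toIdeal.IsPrime] {E' : Type u} [AddCommGroup E'] [Module R E']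
    {𝓔 : ι → AddSubgroup E'} [Decomposition 𝓔] [SetLike.GradedSMul 𝒜 𝓔]
    {e : (R ⧸ m.toIdeal) →ₗ[R] E'} (he : IsStarInjHull 𝒜 (quotGr 𝒜 m) 𝓔 e)
    (q : Ideal R) [q.IsPrime] (hq : q ≤ m.toIdeal) : bassNum q E' 1 = 0 := by
  by_cases hqh : q.IsHomogeneous 𝒜
  · exact bassNum_eq_zero_of_isStarInj_of_isHomogeneous 𝒜 𝓔 he.starInj q hqh 0
  haveI : (core 𝒜 q).IsPrime := by
    refine isPrime_of_homogeneous 𝒜 (q.homogeneousCore 𝒜).isHomogeneous
      (fun h => ‹q.IsPrime›.ne_top (top_le_iff.1 (h ▸ core_le 𝒜 q))) fun a b x y hx hy hxy => ?_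
    exact (‹q.IsPrime›.mem_or_mem (core_le 𝒜 q hxy)).imp (mem_core_of_mem 𝒜 hx) (mem_core_of_mem 𝒜 hy)
  have h0 : bassNum (core 𝒜 q) E' 0 = 0 := by
    by_contra hne
    obtain ⟨-, x, hx⟩ := isAssociatedPrime_iff.1 ((bassNum_zero_ne_zero_iff (core 𝒜 q) E').1 hne)
    obtain ⟨k, hk⟩ : x ∈ gam m.toIdeal E' := by rw [gam_eq_top 𝒜 m he]; trivial
    have hle : m.toIdeal ≤ core 𝒜 q := fun r hr =>
      (inferInstance : (core 𝒜 q).IsPrime).mem_of_pow_mem k ((SetLike.ext_iff.1 hx _).2
        (Submodule.mem_colon_singleton.2 (hk _ (Ideal.pow_mem_pow hr k))))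
    refine hqh ?_
    rw [le_antisymm hq (hle.trans (core_le 𝒜 q))]
    exact m.isHomogeneous
  obtain ⟨-, h₁, h₂⟩ := regular_coreLoc 𝒜 q
  obtain ⟨d, hd⟩ : ∃ d : ℕ, (q.map (Ideal.Quotient.mk (core 𝒜 q))).height = d := by
    generalize (q.map (Ideal.Quotient.mk (core 𝒜 q))).height = x at h₁
    induction x using ENat.recTopCoe with
    | top =>
      rw [h₁] at h₂
      exact absurd h₂ (by
        rw [not_le]
        exact WithBot.coe_lt_coe.2 (ENat.coe_lt_top _))
    | coe x => exact ⟨x, rfl⟩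
  obtain ⟨hlt, hge⟩ := bassNum_core_shift 𝒜 𝓔 q hd
  rcases Nat.lt_or_ge 1 d with hd1 | hd1
  · exact hlt 1 hd1
  rw [hge 1 hd1]
  rcases Nat.eq_zero_or_pos d with rfl | hpos
  · exact bassNum_eq_zero_of_isStarInj_of_isHomogeneous 𝒜 𝓔 he.starInj _
      (q.homogeneousCore 𝒜).isHomogeneous 0
  · rwa [show 1 - d = 0 by omega]

/-- The *envelope localized at `m` is the injective hull of the residue field. -/
theorem exists_hull_localized [m.toIdeal.IsPrime] {E' : Type u} [AddCommGroup E'] [Module R E']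
    {𝓔 : ι → AddSubgroup E'} [Decomposition 𝓔] [SetLike.GradedSMul 𝒜 𝓔]
    {e : (R ⧸ m.toIdeal) →ₗ[R] E'} (he : IsStarInjHull 𝒜 (quotGr 𝒜 m) 𝓔 e) :
    ∃ f : IsLocalRing.ResidueField (Localization.AtPrime m.toIdeal) →ₗ[Localization.AtPrime m.toIdeal]
      LocalizedModule m.toIdeal.primeCompl E', InjHull.IsInjectiveHull f := by
  set A := Localization.AtPrime m.toIdeal
  have hinj := injective_localized_of_bassNum m.toIdeal E' fun q _ hq =>
    bassNum_one_hull_eq_zero 𝒜 he q hq
  let y := LocalizedModule.mk (e 1) (1 : m.toIdeal.primeCompl)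
  have hye : ∀ r, r • e 1 = e (Ideal.Quotient.mk m.toIdeal r) := fun r => by
    rw [← map_smul, Algebra.smul_def, mul_one]
    rfl
  have hykill : IsLocalRing.maximalIdeal A ≤ LinearMap.ker (LinearMap.toSpanSingleton A _ y) := by
    rw [← IsLocalization.AtPrime.map_eq_maximalIdeal m.toIdeal A, Ideal.map_le_iff_le_comap]
    intro r hr
    show algebraMap R A r • LocalizedModule.mk (e 1) (1 : m.toIdeal.primeCompl) = 0
    rw [algebraMap_smul, LocalizedModule.smul'_mk, hye, Ideal.Quotient.eq_zero_iff_mem.2 hr,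
      map_zero, LocalizedModule.zero_mk]
  let f : IsLocalRing.ResidueField A →ₗ[A] LocalizedModule m.toIdeal.primeCompl E' :=
    Submodule.liftQ _ (LinearMap.toSpanSingleton A _ y) hykill
  have hfmk : ∀ a : A, f (IsLocalRing.residue A a) = a • y := fun a => rfl
  have hf1 : y ≠ 0 := by
    intro h0
    rw [show y = LocalizedModule.mk (e 1) 1 from rfl, ← LocalizedModule.zero_mk
      (1 : m.toIdeal.primeCompl), LocalizedModule.mk_eq] at h0
    obtain ⟨u, hu⟩ := h0
    simp only [one_smul, smul_zero, Submonoid.smul_def, hye] at hu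
    exact u.2 (Ideal.Quotient.eq_zero_iff_mem.1 (he.injective (hu.trans (map_zero e).symm)))
  refine ⟨f, { isInjective := hinj, toIsEssentialInj := GrothMatlis.essential_iff.2 ⟨?_, ?_⟩ }⟩
  · rw [← LinearMap.ker_eq_bot, Submodule.eq_bot_iff]
    intro q hq
    obtain ⟨a, rfl⟩ := IsLocalRing.residue_surjective q
    rw [IsLocalRing.residue_eq_zero_iff]
    intro hu
    rw [LinearMap.mem_ker, hfmk] at hq
    exact hf1 (hu.smul_left_cancel.1 (hq.trans (smul_zero a).symm))
  · intro w hw
    induction w using LocalizedModule.induction_on with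
    | h x t =>
      obtain ⟨k, hk⟩ : x ∈ gam m.toIdeal E' := by rw [gam_eq_top 𝒜 m he]; trivial
      obtain ⟨a, ha0, ha⟩ := exists_socle (R := A) (m.toIdeal.map (algebraMap R A)) k
        (LocalizedModule.mk x t) hw fun a ha => by
          rw [← Ideal.map_pow] at ha
          refine Submodule.span_induction (fun y hy => ?_) (zero_smul A _)
            (fun y y' _ _ h h' => by rw [add_smul, h, h', add_zero])
            (fun c y _ h => by rw [smul_eq_mul, mul_smul, h, smul_zero]) ha
          obtain ⟨r, hr, rfl⟩ := hy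
          rw [algebraMap_smul, LocalizedModule.smul'_mk, hk r hr, LocalizedModule.zero_mk]
      refine ⟨a, ?_, ha0⟩
      obtain ⟨z, u, hzu, hz⟩ := exists_clear m.toIdeal.primeCompl m.toIdeal
        (IsNoetherian.noetherian _) (a • LocalizedModule.mk x t)
        ((Submodule.mem_torsionBySet_iff _ _).2 fun r => ha r r.2)
      obtain ⟨s, hs, q, hq⟩ := exists_smul_mem_of_ess 𝒜 m.toIdeal m.isHomogeneous 𝓔
        (LinearMap.range e) he.essential hz
      obtain ⟨c, rfl⟩ := Ideal.Quotient.mk_surjective q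
      refine ⟨IsLocalRing.residue A (IsLocalization.mk' A c (⟨s, hs⟩ * u)), ?_⟩
      rw [hfmk, hzu, ← Localization.mk_eq_mk', LocalizedModule.mk_smul_mk, mul_one, hye, hq]
      exact LocalizedModule.mk_cancel_common_left (⟨s, hs⟩ : m.toIdeal.primeCompl) u z

/-- The *canonical module localizes to a canonical module. -/
theorem nonempty_canonical_localized [m.toIdeal.IsPrime] (n : ℕ) (I : StarInjRes 𝒜 𝒜)
    {E' : Type u} [AddCommGroup E'] [Module R E'] {𝓔 : ι → AddSubgroup E'} [Decomposition 𝓔]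
    [SetLike.GradedSMul 𝒜 𝓔] {e : (R ⧸ m.toIdeal) →ₗ[R] E'}
    (he : IsStarInjHull 𝒜 (quotGr 𝒜 m) 𝓔 e) {C : Type u} [AddCommGroup C] [Module R C]
    {𝒞 : ι → AddSubgroup C} [Decomposition 𝒞] [SetLike.GradedSMul 𝒜 𝒞]
    (hC : IsStarCanonical 𝒜 𝒞 𝓔 m n I)
    {E₀ : Type u} [AddCommGroup E₀] [Module (Localization.AtPrime m.toIdeal) E₀]
    {f₀ : IsLocalRing.ResidueField (Localization.AtPrime m.toIdeal) →ₗ[Localization.AtPrime m.toIdeal] E₀}
    (hf₀ : InjHull.IsInjectiveHull f₀) :
    Nonempty ((LocalizedModule m.toIdeal.primeCompl C →ₗ[Localization.AtPrime m.toIdeal] E₀)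
      ≃ₗ[Localization.AtPrime m.toIdeal]
        LocCoh.H (IsLocalRing.maximalIdeal (Localization.AtPrime m.toIdeal)) n
          (Localization.AtPrime m.toIdeal)) := by
  obtain ⟨hfin, φ, -⟩ := hC
  haveI := hfin
  haveI : Module.FinitePresentation R C := Module.finitePresentation_of_finite R C
  set A := Localization.AtPrime m.toIdeal
  set S := m.toIdeal.primeCompl
  obtain ⟨f, hf⟩ := exists_hull_localized 𝒜 he
  obtain ⟨eE, -⟩ := GrothMatlis.hull_unique hf hf₀
  let eHom : LocalizedModule S (C →ₗ[R] E') ≃ₗ[A]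
      (LocalizedModule S C →ₗ[A] LocalizedModule S E') :=
    (IsLocalizedModule.iso S (LocalizedModule.map S (M := C) (N := E'))).extendScalarsOfIsLocalization S A
  let eφ : LocalizedModule S (C →ₗ[R] E') ≃ₗ[A] LocalizedModule S (I.H m n) :=
    LinearEquiv.ofBijective (LocalizedModule.map S φ.toLinearMap)
      ⟨LocalizedModule.map_injective _ _ φ.injective, LocalizedModule.map_surjective _ _ φ.surjective⟩
  obtain ⟨eH⟩ := nonempty_H_equiv 𝒜 𝒜 m I n
  let eH' : LocalizedModule S (I.H m n) ≃ₗ[A] LocalizedModule S (LocCoh.H m.toIdeal n R) :=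
    LinearEquiv.ofBijective (LocalizedModule.map S eH.toLinearMap)
      ⟨LocalizedModule.map_injective _ _ eH.injective, LocalizedModule.map_surjective _ _ eH.surjective⟩
  obtain ⟨eA⟩ := nonempty_localized_H_equiv m.toIdeal R n
  let eR : LocalizedModule S R ≃ₗ[A] A :=
    ((IsLocalizedModule.isBaseChange S A (LocalizedModule.mkLinearMap S R)).equiv).symm ≪≫ₗ
      TensorProduct.AlgebraTensorModule.rid R A A
  exact ⟨(LinearEquiv.congrRight (M := LocalizedModule S C) eE).symm ≪≫ₗ eHom.symm ≪≫ₗ eφ ≪≫ₗ eH' ≪≫ₗ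
    eA ≪≫ₗ ((localCohomology _ n).mapIso eR.toModuleIso).toLinearEquiv⟩

end GrothGr
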