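import Groth.Prelude.Def_Wider
import Groth.Agent.GrMod.Basic
import Groth.Agent.Matlis.Hull

/-!
# *Essential extensions, *injective graded modules and their existence

Helper library (no milestone statements here).
-/

universe u

open DirectSum GrLC

namespace GrothGr

variable {ι : Type} [AddCommGroup ι] [DecidableEq ι]
variable {R : Type u} [CommRing R]
variable {M : Type u} [AddCommGroup M] [Module R M]
variable {N : Type u} [AddCommGroup N] [Module R N]

section Ess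

variable {σ : Type u} [SetLike σ R] [AddSubgroupClass σ R] (𝒜 : ι → σ) [GradedRing 𝒜]
variable {ℳ : ι → AddSubgroup M} {𝒩 : ι → AddSubgroup N} [Decomposition 𝒩]
  [SetLike.GradedSMul 𝒜 𝒩] {f : M →ₗ[R] N}

theorem IsStarEss.exists_homogeneous_smul (hf : IsStarEss ℳ 𝒩 f)
    (hrange : (LinearMap.range f).IsHomogeneous 𝒩) {g : ι} {x : N} (hxg : x ∈ 𝒩 g) (hx : x ≠ 0) :
    ∃ (a : ι) (r : R), r ∈ 𝒜 a ∧ r • x ∈ LinearMap.range f ∧ r • x ≠ 0 := by
  have h := hf.essential (R ∙ x) (isHomogeneous_span_singleton 𝒜 hxg) (by simpa using hx)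
  obtain ⟨y, hy, hy0⟩ := Submodule.exists_mem_ne_zero_of_ne_bot h
  obtain ⟨r, rfl⟩ := Submodule.mem_span_singleton.1 hy.1
  obtain ⟨j, hj⟩ := exists_pr_ne_zero 𝒩 hy0
  have key : pr 𝒩 j (r • x) = (decompose 𝒜 r (j - g) : R) • x := by
    clear hy hy0 hj
    induction r using DirectSum.Decomposition.inductionOn 𝒜 with
    | zero => simp
    | @homogeneous a r =>
      rw [pr_smul 𝒩 𝒜 r.2]
      by_cases h : a = j - g
      · subst h
        rw [decompose_of_mem_same 𝒜 r.2, sub_sub_cancel, pr_of_mem 𝒩 hxg]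
      · rw [decompose_of_mem_ne 𝒜 r.2 h, zero_smul, pr_of_mem_ne 𝒩 hxg, smul_zero]
        exact fun hc => h (by rw [hc, sub_sub_cancel])
    | add r r' h h' =>
      rw [add_smul, map_add, h, h', decompose_add, DirectSum.add_apply, AddMemClass.coe_add,
        add_smul]
  refine ⟨j - g, _, (decompose 𝒜 r (j - g)).2, ?_, key ▸ hj⟩
  rw [← key]
  exact hrange j hy.2

open Classical in
/-- *Essential extensions are essential. -/
theorem IsStarEss.exists_smul (hf : IsStarEss ℳ 𝒩 f)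
    (hrange : (LinearMap.range f).IsHomogeneous 𝒩) {x : N} (hx : x ≠ 0) :
    ∃ (a : ι) (r : R), r ∈ 𝒜 a ∧ r • x ∈ LinearMap.range f ∧ r • x ≠ 0 := by
  suffices key : ∀ (n : ℕ) (x : N) (s : Finset ι), (∀ j, j ∉ s → pr 𝒩 j x = 0) → s.card ≤ n →
      x ≠ 0 → ∃ (a : ι) (r : R), r ∈ 𝒜 a ∧ r • x ∈ LinearMap.range f ∧ r • x ≠ 0 by
    obtain ⟨s, hs, -⟩ := exists_sum_pr 𝒩 x
    exact key _ x s hs le_rfl hx
  intro n
  induction n with
  | zero =>
    intro x s hs hcard hx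
    exact absurd (eq_zero_of_pr 𝒩 fun j => hs j (by simp [Finset.card_eq_zero.1 (Nat.le_zero.1 hcard)])) hx
  | succ n ih =>
    intro x s hs hcard hx
    obtain ⟨g, hg⟩ := exists_pr_ne_zero 𝒩 hx
    obtain ⟨a, r, hr, hrx, hr0⟩ :=
      IsStarEss.exists_homogeneous_smul 𝒜 hf hrange (pr_mem 𝒩 g x) hg
    by_cases hy : r • (x - pr 𝒩 g x) = 0
    · rw [smul_sub, sub_eq_zero] at hy
      exact ⟨a, r, hr, hy ▸ hrx, hy ▸ hr0⟩
    have hgs : g ∈ s := not_not.1 fun h => hg (hs g h)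
    have hs' : ∀ j, j ∉ (s.erase g).image (a + ·) → pr 𝒩 j (r • (x - pr 𝒩 g x)) = 0 := by
      intro j hj
      rw [pr_smul 𝒩 𝒜 hr, map_sub]
      rcases eq_or_ne (j - a) g with h | h
      · rw [h, pr_of_mem 𝒩 (pr_mem 𝒩 g x), sub_self, smul_zero]
      · rw [pr_of_mem_ne 𝒩 (pr_mem 𝒩 g x) (Ne.symm h), sub_zero, hs, smul_zero]
        intro hmem
        exact hj (Finset.mem_image.2 ⟨j - a, Finset.mem_erase.2 ⟨h, hmem⟩, add_sub_cancel a j⟩)
    have hcard' : ((s.erase g).image (a + ·)).card ≤ n := by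
      refine Finset.card_image_le.trans ?_
      rw [Finset.card_erase_of_mem hgs]
      omega
    obtain ⟨b, q, hq, hqy, hq0⟩ := ih _ _ hs' hcard' hy
    have hdec : q • (r • x) = q • (r • (x - pr 𝒩 g x)) + q • (r • pr 𝒩 g x) := by
      rw [← smul_add, ← smul_add, sub_add_cancel]
    refine ⟨b + a, q * r, SetLike.mul_mem_graded hq hr, ?_, ?_⟩
    · rw [mul_smul, hdec]
      exact add_mem hqy (Submodule.smul_mem _ _ hrx)
    · rw [mul_smul, hdec]
      intro h0
      obtain ⟨j, hj⟩ := exists_pr_ne_zero 𝒩 hq0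
      have h1 : pr 𝒩 j (q • (r • pr 𝒩 g x)) = 0 := by
        by_contra hne
        have hmem := smul_mem 𝒩 𝒜 hq (smul_mem 𝒩 𝒜 hr (pr_mem 𝒩 g x))
        have hj' : b + (a + g) = j := by
          by_contra hc
          exact hne (pr_of_mem_ne 𝒩 hmem hc)
        subst hj'
        rw [pr_smul_add 𝒩 𝒜 hq, pr_smul_add 𝒩 𝒜 hr, map_sub,
          pr_of_mem 𝒩 (pr_mem 𝒩 g x), sub_self, smul_zero, smul_zero] at hj
        exact hj rfl
      have := congrArg (pr 𝒩 j) h0
      rw [map_add, h1, add_zero, map_zero] at this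
      exact hj this

include 𝒜 in
theorem IsStarEss.isEssentialInj (hf : IsStarEss ℳ 𝒩 f)
    (hrange : (LinearMap.range f).IsHomogeneous 𝒩) : InjHull.IsEssentialInj f :=
  GrothMatlis.essential_iff.2 ⟨hf.injective, fun _ hx =>
    let ⟨_, r, _, h1, h2⟩ := IsStarEss.exists_smul 𝒜 hf hrange hx
    ⟨r, h1, h2⟩⟩

omit [AddCommGroup ι] in
theorem isStarEss_of_exists_smul (hinj : Function.Injective f) (hgr : IsGrHom ℳ 𝒩 f)
    (h : ∀ (g : ι) (x : N), x ∈ 𝒩 g → x ≠ 0 → ∃ r : R, r • x ∈ LinearMap.range f ∧ r • x ≠ 0) :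
    IsStarEss ℳ 𝒩 f := by
  refine ⟨hinj, hgr, fun P hP hP0 hcon => hP0 ((eq_bot_iff_homogeneous hP).2 fun g x hxg hxP => ?_)⟩
  by_contra hx
  obtain ⟨r, hr, hr0⟩ := h g x hxg hx
  exact hr0 ((Submodule.eq_bot_iff _).1 hcon _ ⟨P.smul_mem r hxP, hr⟩)

include 𝒜 in
theorem IsStarEss.comp {P : Type u} [AddCommGroup P] [Module R P] [Decomposition ℳ]
    [SetLike.GradedSMul 𝒜 ℳ] {𝒬 : ι → AddSubgroup P} [Decomposition 𝒬]
    [SetLike.GradedSMul 𝒜 𝒬] {g : N →ₗ[R] P} (hf : IsStarEss ℳ 𝒩 f) (hg : IsStarEss 𝒩 𝒬 g) :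
    IsStarEss ℳ 𝒬 (g ∘ₗ f) := by
  have h := GrothMatlis.IsEssentialInj.comp
    (IsStarEss.isEssentialInj 𝒜 hf (isHomogeneous_range hf.grHom))
    (IsStarEss.isEssentialInj 𝒜 hg (isHomogeneous_range hg.grHom))
  exact ⟨h.injective, IsGrHom.comp hg.grHom hf.grHom, fun Q _ hQ => h.essential Q hQ⟩

end Ess

section Inj

variable {σ : Type u} [SetLike σ R] [AddSubgroupClass σ R] (𝒜 : ι → σ) [GradedRing 𝒜]
variable (ℳ : ι → AddSubgroup M) [Decomposition ℳ] [SetLike.GradedSMul 𝒜 ℳ]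

theorem exists_maximal_homogeneous_disjoint {𝒩 : ι → AddSubgroup N} [Decomposition 𝒩]
    (A K₀ : Submodule R N) (hK₀ : K₀.IsHomogeneous 𝒩) (hd : Disjoint A K₀) :
    ∃ K : Submodule R N, K₀ ≤ K ∧ K.IsHomogeneous 𝒩 ∧ Disjoint A K ∧
      ∀ K', K ≤ K' → K'.IsHomogeneous 𝒩 → Disjoint A K' → K' = K := by
  obtain ⟨K, h₀, hK⟩ := zorn_le_nonempty₀
    {K : Submodule R N | K.IsHomogeneous 𝒩 ∧ Disjoint A K} (fun c hc hch y hy => by
      refine ⟨sSup c, ⟨?_, ?_⟩, fun z hz => le_sSup hz⟩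
      · rw [sSup_eq_iSup']
        exact isHomogeneous_iSup fun K => (hc K.2).1
      · rw [Submodule.disjoint_def]
        intro x hxA hx
        rw [Submodule.mem_sSup_of_directed ⟨y, hy⟩ hch.directedOn] at hx
        obtain ⟨L, hLc, hxL⟩ := hx
        exact Submodule.disjoint_def.1 (hc hLc).2 x hxA hxL) K₀ ⟨hK₀, hd⟩
  exact ⟨K, h₀, hK.1.1, hK.1.2, fun K' h1 h2 h3 => le_antisymm (hK.2 ⟨h2, h3⟩ h1) h1⟩

/-- A *injective module has no proper *essential extension. -/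
theorem surjective_of_isStarEss (hM : IsStarInj 𝒜 ℳ) (X : GMod.{u} 𝒜) (f : M →ₗ[R] X.carrier)
    (hf : IsStarEss ℳ X.gr f) : Function.Surjective f := by
  obtain ⟨r, hr, hrf⟩ := hM (GMod.of 𝒜 M ℳ) X f hf.grHom hf.injective LinearMap.id (isGrHom_id ℳ)
  have hrx : ∀ m, r (f m) = m := fun m => LinearMap.congr_fun hrf m
  have hker : LinearMap.ker r = ⊥ := by
    by_contra h
    refine hf.essential _ (isHomogeneous_ker hr) h ((Submodule.eq_bot_iff _).2 ?_)
    rintro x ⟨hx, m, rfl⟩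
    have : m = 0 := by rw [← hrx m]; exact hx
    rw [this, map_zero]
  intro x
  exact ⟨r x, LinearMap.ker_eq_bot.1 hker (hrx (r x))⟩

/-- A graded module without proper *essential extensions is *injective. -/
theorem isStarInj_of_surjective (h : ∀ (X : GMod.{u} 𝒜) (f : M →ₗ[R] X.carrier),
    IsStarEss ℳ X.gr f → Function.Surjective f) : IsStarInj 𝒜 ℳ := by
  intro A B f hf hfinj g hg
  have hinl : IsGrHom ℳ (prodPc ℳ B.gr) (LinearMap.inl R M B.carrier) :=
    fun i m hm => ⟨hm, zero_mem (B.gr i)⟩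
  have hinr : IsGrHom B.gr (prodPc ℳ B.gr) (LinearMap.inr R M B.carrier) :=
    fun i m hm => ⟨zero_mem (ℳ i), hm⟩
  have hD : IsGrHom A.gr (prodPc ℳ B.gr) (g.prod (-f)) :=
    fun i a ha => ⟨hg i a ha, (B.gr i).neg_mem (hf i a ha)⟩
  obtain ⟨K, hDK, hK, hdis, hmax⟩ := exists_maximal_homogeneous_disjoint (𝒩 := prodPc ℳ B.gr)
    (LinearMap.range (LinearMap.inl R M B.carrier)) (LinearMap.range (g.prod (-f)))
    (isHomogeneous_range hD) (by
      refine Submodule.disjoint_def.2 ?_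
      rintro _ ⟨m, rfl⟩ ⟨a, ha⟩
      have ha2 : -f a = 0 := congrArg Prod.snd ha
      have : a = 0 := hfinj (by rw [map_zero]; simpa using ha2)
      rw [this, map_zero] at ha
      exact ha.symm)
  letI := (quotPc_isInternal (prodPc ℳ B.gr) hK).chooseDecomposition
  haveI := quotPc_gradedSMul 𝒜 (prodPc ℳ B.gr) K
  let φ : M →ₗ[R] (M × B.carrier) ⧸ K := K.mkQ ∘ₗ LinearMap.inl R M B.carrier
  have hφg : IsGrHom ℳ (quotPc (prodPc ℳ B.gr) K) φ :=
    IsGrHom.comp (mkQ_isGrHom (prodPc ℳ B.gr) K) hinl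
  have hφ : IsStarEss ℳ (quotPc (prodPc ℳ B.gr) K) φ := by
    refine ⟨?_, hφg, fun S hS hS0 hcon => hS0 ?_⟩
    · rw [← LinearMap.ker_eq_bot, Submodule.eq_bot_iff]
      intro m hm
      have hm' : LinearMap.inl R M B.carrier m ∈ K :=
        (Submodule.Quotient.mk_eq_zero K).1 hm
      have := Submodule.disjoint_def.1 hdis _ ⟨m, rfl⟩ hm'
      exact congrArg Prod.fst this
    · have hSK := hmax (S.comap K.mkQ)
        (fun x hx => by
          show K.mkQ x ∈ S
          rw [Submodule.mkQ_apply, (Submodule.Quotient.mk_eq_zero K).2 hx]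
          exact zero_mem S)
        (isHomogeneous_comap (mkQ_isGrHom (prodPc ℳ B.gr) K) hS) (by
          rw [Submodule.disjoint_def]
          rintro _ ⟨m, rfl⟩ hmS
          have h0 : φ m = 0 := (Submodule.eq_bot_iff _).1 hcon _ ⟨hmS, m, rfl⟩
          exact Submodule.disjoint_def.1 hdis _ ⟨m, rfl⟩
            ((Submodule.Quotient.mk_eq_zero K).1 h0))
      refine (Submodule.eq_bot_iff _).2 fun q hq => ?_
      obtain ⟨x, rfl⟩ := K.mkQ_surjective q
      have hx : x ∈ S.comap K.mkQ := hq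
      rw [hSK] at hx
      exact (Submodule.Quotient.mk_eq_zero K).2 hx
  let e := LinearEquiv.ofBijective φ ⟨hφ.injective, h (GMod.of 𝒜 _ (quotPc (prodPc ℳ B.gr) K)) φ hφ⟩
  refine ⟨e.symm.toLinearMap ∘ₗ K.mkQ ∘ₗ LinearMap.inr R M B.carrier,
    IsGrHom.comp (isGrHom_symm e hφg) (IsGrHom.comp (mkQ_isGrHom (prodPc ℳ B.gr) K) hinr), ?_⟩
  refine LinearMap.ext fun a => ?_
  show e.symm (K.mkQ (0, f a)) = g a
  rw [LinearEquiv.symm_apply_eq]
  show K.mkQ (0, f a) = K.mkQ (g a, 0)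
  rw [Submodule.mkQ_apply, Submodule.mkQ_apply, Submodule.Quotient.eq]
  have h1 : (g a, -f a) ∈ K := hDK ⟨a, rfl⟩
  have : ((0 : M), f a) - (g a, (0 : B.carrier)) = -(g a, -f a) := by ext <;> simp
  rw [this]
  exact neg_mem h1

end Inj

section Envelope

variable {σ : Type u} [SetLike σ R] [AddSubgroupClass σ R] (𝒜 : ι → σ) [GradedRing 𝒜]
variable (ℳ : ι → AddSubgroup M) [Decomposition ℳ] [SetLike.GradedSMul 𝒜 ℳ]
variable {I : Type u} [AddCommGroup I] [Module R I]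

/-- Candidate pieces of a graded essential extension of `M` inside `I`. -/
structure GoodPc (e : M →ₗ[R] I) (pc : ι → AddSubgroup I) : Prop where
  indep : ∀ (s : Finset ι) (v : ι → I), (∀ g, v g ∈ pc g) → ∑ g ∈ s, v g = 0 → ∀ g ∈ s, v g = 0
  smul : ∀ (a g : ι) (r : R) (m : I), r ∈ 𝒜 a → m ∈ pc g → r • m ∈ pc (a + g)
  map : ∀ (g : ι) (m : M), m ∈ ℳ g → e m ∈ pc g
  ess : ∀ (g : ι) (x : I), x ∈ pc g → x ≠ 0 → ∃ r : R, r • x ∈ LinearMap.range e ∧ r • x ≠ 0

/-- Every graded module embedded in an injective module has a *injective envelope inside it. -/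
theorem exists_starInjHull_into (hI : Module.Injective R I) (e : M →ₗ[R] I)
    (he : Function.Injective e) :
    ∃ (E : GMod.{u} 𝒜) (f : M →ₗ[R] E.carrier), IsStarInjHull 𝒜 ℳ E.gr f ∧
      ∃ j : E.carrier →ₗ[R] I, Function.Injective j ∧ j ∘ₗ f = e := by
  classical
  have h0 : GoodPc 𝒜 ℳ e (fun g => (ℳ g).map e.toAddMonoidHom) := by
    refine ⟨fun s v hv hsum g hg => ?_, ?_, fun g m hm => ⟨m, hm, rfl⟩, ?_⟩
    · choose w hw hw' using hv
      have hw0 : ∑ i ∈ s, w i = 0 := he (by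
        rw [map_sum, map_zero, ← hsum]
        exact Finset.sum_congr rfl fun i _ => hw' i)
      have h1 : pr ℳ g (∑ i ∈ s, w i) = w g := by
        rw [map_sum, Finset.sum_eq_single g (fun i _ hne => pr_of_mem_ne ℳ (hw i) hne)
          (fun h => absurd hg h), pr_of_mem ℳ (hw g)]
      rw [hw0, map_zero] at h1
      rw [← hw' g, ← h1, map_zero]
    · rintro a g r _ hr ⟨m, hm, rfl⟩
      exact ⟨r • m, smul_mem ℳ 𝒜 hr hm, map_smul e r m⟩
    · rintro g x ⟨m, -, rfl⟩ hx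
      exact ⟨1, ⟨m, (one_smul R _).symm⟩, by simpa using hx⟩
  obtain ⟨pc, -, hpc⟩ := zorn_le_nonempty₀ {pc : ι → AddSubgroup I | GoodPc 𝒜 ℳ e pc}
    (fun c hc hch y hy => by
      have hdir : ∀ g x, x ∈ (⨆ p : c, (p : ι → AddSubgroup I) g) →
          ∃ p ∈ c, x ∈ p g := by
        intro g x hx
        haveI : Nonempty c := ⟨⟨y, hy⟩⟩
        rw [AddSubgroup.mem_iSup_of_directed] at hx
        · obtain ⟨p, hp⟩ := hx
          exact ⟨p, p.2, hp⟩
        · intro p q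
          rcases hch.total p.2 q.2 with h | h
          · exact ⟨q, h g, le_refl _⟩
          · exact ⟨p, le_refl _, h g⟩
      refine ⟨fun g => ⨆ p : c, (p : ι → AddSubgroup I) g, ⟨?_, ?_, ?_, ?_⟩,
        fun p hp g => le_iSup (fun p : c => (p : ι → AddSubgroup I) g) ⟨p, hp⟩⟩
      · intro s v hv hsum g hg
        choose p hp hvp using fun i => hdir i (v i) (hv i)
        obtain ⟨q, hqc, hq⟩ : ∃ q ∈ c, ∀ i ∈ s, p i ≤ q := by
          clear hsum hg
          induction s using Finset.induction_on with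
          | empty => exact ⟨y, hy, by simp⟩
          | @insert a t hat ih =>
            obtain ⟨q, hqc, hq⟩ := ih
            rcases hch.total (hp a) hqc with h | h
            · exact ⟨q, hqc, fun i hi => (Finset.mem_insert.1 hi).elim (fun hia => hia ▸ h) (hq i)⟩
            · exact ⟨p a, hp a, fun i hi => (Finset.mem_insert.1 hi).elim (fun hia => hia ▸ le_rfl)
                (fun hi => (hq i hi).trans h)⟩
        have := (hc hqc).indep s (fun i => if i ∈ s then v i else 0) (fun i => by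
          by_cases hi : i ∈ s
          · simp only [hi, if_true]
            exact hq i hi i (hvp i)
          · simp only [hi, if_false]
            exact zero_mem _) ((Finset.sum_congr rfl fun i hi => if_pos hi).trans hsum) g hg
        simpa [hg] using this
      · intro a g r m hr hm
        obtain ⟨p, hp, hmp⟩ := hdir g m hm
        exact AddSubgroup.mem_iSup_of_mem ⟨p, hp⟩ ((hc hp).smul a g r m hr hmp)
      · intro g m hm
        exact AddSubgroup.mem_iSup_of_mem ⟨y, hy⟩ ((hc hy).map g m hm)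
      · intro g x hx hx0
        obtain ⟨p, hp, hxp⟩ := hdir g x hx
        exact (hc hp).ess g x hxp hx0) _ h0
  have hgood : GoodPc 𝒜 ℳ e pc := hpc.1
  let E : Submodule R I :=
    { carrier := (⨆ g, pc g : AddSubgroup I)
      add_mem' := fun ha hb => add_mem ha hb
      zero_mem' := zero_mem _
      smul_mem' := fun r x hx => by
        induction r using DirectSum.Decomposition.inductionOn 𝒜 with
        | zero => rw [zero_smul]; exact zero_mem _
        | add r r' h h' => rw [add_smul]; exact add_mem h h'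
        | @homogeneous a r =>
          refine AddSubgroup.iSup_induction pc (C := fun y => (r : R) • y ∈ (⨆ g, pc g : AddSubgroup I))
            hx (fun g y hy => AddSubgroup.mem_iSup_of_mem (a + g) (hgood.smul a g r y r.2 hy))
            (by simp) fun y z hy hz => ?_
          rw [smul_add]
          exact add_mem hy hz }
  have hpE : ∀ g x, x ∈ pc g → x ∈ E := fun g x hx => AddSubgroup.mem_iSup_of_mem g hx
  let Epc : ι → AddSubgroup E := fun g => (pc g).comap E.subtype.toAddMonoidHom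
  have hEint : DirectSum.IsInternal Epc := by
    refine isInternal_of _ ?_ fun s v hv hsum g hg => Subtype.ext (hgood.indep s
      (fun i => (v i : I)) hv
      (by rw [← AddSubmonoidClass.coe_finsetSum, hsum, ZeroMemClass.coe_zero]) g hg)
    rintro ⟨x, hx⟩
    suffices h : ∀ y ∈ ⨆ g, pc g, ∃ z, z ∈ ⨆ g, Epc g ∧ (z : I) = y by
      obtain ⟨z, hz, rfl⟩ := h x hx
      exact hz
    intro y hy
    refine AddSubgroup.iSup_induction pc (C := fun y => ∃ z, z ∈ ⨆ g, Epc g ∧ (z : I) = y) hy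
      (fun g y hy => ⟨⟨y, hpE g y hy⟩, AddSubgroup.mem_iSup_of_mem g hy, rfl⟩)
      ⟨0, zero_mem _, rfl⟩ ?_
    rintro _ _ ⟨z, hz, rfl⟩ ⟨w, hw, rfl⟩
    exact ⟨z + w, add_mem hz hw, rfl⟩
  letI := hEint.chooseDecomposition
  haveI : SetLike.GradedSMul 𝒜 Epc := ⟨fun {a g r m} hr hm => hgood.smul a g r m hr hm⟩
  have heE : ∀ m, e m ∈ E := fun m => by
    obtain ⟨s, -, hs⟩ := exists_sum_pr ℳ m
    rw [← hs, map_sum]
    exact sum_mem fun g _ => hpE g _ (hgood.map g _ (pr_mem ℳ g m))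
  let f : M →ₗ[R] E := e.codRestrict E heE
  have hf : IsStarEss ℳ Epc f := isStarEss_of_exists_smul (𝒩 := Epc)
    (fun a b h => he (congrArg Subtype.val h)) (fun g m hm => hgood.map g m hm) fun g x hxg hx => by
      obtain ⟨r, ⟨m, hm⟩, hr0⟩ := hgood.ess g (x : I) hxg fun h => hx (Subtype.ext h)
      exact ⟨r, ⟨m, Subtype.ext hm⟩, fun h => hr0 (congrArg Subtype.val h)⟩
  refine ⟨GMod.of 𝒜 E Epc, f, ⟨hf, ?_⟩, E.subtype, Subtype.val_injective, rfl⟩
  refine isStarInj_of_surjective 𝒜 Epc fun X φ hφ => ?_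
  have hess := IsStarEss.isEssentialInj 𝒜 hφ (isHomogeneous_range hφ.grHom)
  obtain ⟨k, hk⟩ := hI.out φ hφ.injective E.subtype
  have hkinj : Function.Injective k := by
    refine GrothMatlis.IsEssentialInj.injective_of_comp hess fun a b h => Subtype.ext ?_
    simpa [hk] using h
  have hnew : GoodPc 𝒜 ℳ e (fun g => (X.gr g).map k.toAddMonoidHom) := by
    refine ⟨fun s v hv hsum g hg => ?_, ?_, ?_, ?_⟩
    · choose w hw hw' using hv
      have hw0 : ∑ i ∈ s, w i = 0 := hkinj (by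
        rw [map_sum, map_zero, ← hsum]
        exact Finset.sum_congr rfl fun i _ => hw' i)
      have h1 : pr X.gr g (∑ i ∈ s, w i) = w g := by
        rw [map_sum, Finset.sum_eq_single g (fun i _ hne => pr_of_mem_ne X.gr (hw i) hne)
          (fun h => absurd hg h), pr_of_mem X.gr (hw g)]
      rw [hw0, map_zero] at h1
      rw [← hw' g, ← h1, map_zero]
    · rintro a g r _ hr ⟨x, hx, rfl⟩
      exact ⟨r • x, smul_mem X.gr 𝒜 hr hx, map_smul k r x⟩
    · intro g m hm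
      exact ⟨φ (f m), hφ.grHom g _ (hgood.map g m hm), hk (f m)⟩
    · rintro g _ ⟨x, hx, rfl⟩ hx0
      have hx0' : x ≠ 0 := fun h => hx0 (by rw [h]; exact map_zero k)
      obtain ⟨b, q, -, ⟨z, hz⟩, hq⟩ :=
        IsStarEss.exists_smul 𝒜 (IsStarEss.comp 𝒜 hf hφ)
          (isHomogeneous_range (IsGrHom.comp hφ.grHom hf.grHom)) hx0'
      refine ⟨q, ⟨z, ?_⟩, fun h => hq (hkinj ?_)⟩
      · show e z = q • k x
        rw [← map_smul, ← hz]
        exact (hk (f z)).symm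
      · rw [map_zero, map_smul]
        exact h
  have hle : pc ≤ fun g => (X.gr g).map k.toAddMonoidHom := fun g x hx =>
    ⟨φ ⟨x, hpE g x hx⟩, hφ.grHom g _ hx, hk _⟩
  have hge := hpc.2 hnew hle
  intro x
  induction x using DirectSum.Decomposition.inductionOn X.gr with
  | zero => exact ⟨0, map_zero φ⟩
  | @homogeneous g x =>
    have hxE : k x ∈ pc g := hge g ⟨x, x.2, rfl⟩
    exact ⟨⟨k x, hpE g _ hxE⟩, hkinj (hk _)⟩
  | add x y hx hy =>
    obtain ⟨a, rfl⟩ := hx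
    obtain ⟨b, rfl⟩ := hy
    exact ⟨a + b, map_add φ a b⟩

theorem exists_starInjHull : ∃ (E : GMod.{u} 𝒜) (f : M →ₗ[R] E.carrier),
    IsStarInjHull 𝒜 ℳ E.gr f := by
  obtain ⟨J, _, _, i, hi, hJ⟩ := GrothMatlis.exists_embedding R M
  obtain ⟨E, f, hf, -⟩ := exists_starInjHull_into 𝒜 ℳ hJ i hi
  exact ⟨E, f, hf⟩

/-- *Injective envelopes are unique. -/
theorem starInjHull_unique {E₁ : Type u} [AddCommGroup E₁] [Module R E₁]
    {𝓔₁ : ι → AddSubgroup E₁} [Decomposition 𝓔₁] [SetLike.GradedSMul 𝒜 𝓔₁]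
    {E₂ : Type u} [AddCommGroup E₂] [Module R E₂]
    {𝓔₂ : ι → AddSubgroup E₂} [Decomposition 𝓔₂] [SetLike.GradedSMul 𝒜 𝓔₂]
    {f₁ : M →ₗ[R] E₁} {f₂ : M →ₗ[R] E₂} (h₁ : IsStarInjHull 𝒜 ℳ 𝓔₁ f₁)
    (h₂ : IsStarInjHull 𝒜 ℳ 𝓔₂ f₂) :
    ∃ β : E₁ ≃ₗ[R] E₂, IsGrHom 𝓔₁ 𝓔₂ β.toLinearMap ∧ β.toLinearMap ∘ₗ f₁ = f₂ := by
  obtain ⟨β, hβ, hβf⟩ := h₂.starInj (GMod.of 𝒜 M ℳ) (GMod.of 𝒜 E₁ 𝓔₁) f₁ h₁.grHom h₁.injective f₂
    h₂.grHom
  change E₁ →ₗ[R] E₂ at β
  have hinj : Function.Injective β := GrothMatlis.IsEssentialInj.injective_of_comp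
    (IsStarEss.isEssentialInj 𝒜 h₁.toIsStarEss (isHomogeneous_range h₁.grHom))
    (by rw [show β ∘ₗ f₁ = f₂ from hβf]; exact h₂.injective)
  have hess : InjHull.IsEssentialInj β := GrothMatlis.IsEssentialInj.right_of_comp hinj
    (f := f₁) (by
      rw [show β ∘ₗ f₁ = f₂ from hβf]
      exact IsStarEss.isEssentialInj 𝒜 h₂.toIsStarEss (isHomogeneous_range h₂.grHom))
  have hsurj := surjective_of_isStarEss 𝒜 𝓔₁ h₁.starInj (GMod.of 𝒜 E₂ 𝓔₂) β
    ⟨hinj, hβ, fun Q _ hQ => hess.essential Q hQ⟩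
  exact ⟨LinearEquiv.ofBijective β ⟨hinj, hsurj⟩, hβ, hβf⟩

end Envelope

end GrothGr
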