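import Groth.Agent.GrMod.Core

/-!
# Standard graded rings

Helper library (no milestone statements here).
-/

universe u

open DirectSum GrLC

namespace GrothGr

variable {R : Type u} [CommRing R] (𝒜 : ℤ → AddSubgroup R) [GradedRing 𝒜]

/-- Additive closure of the products `𝒜 m · 𝒜 n`. -/
abbrev prodClosure (m n : ℤ) : AddSubgroup R :=
  AddSubgroup.closure {z | ∃ x ∈ 𝒜 m, ∃ y ∈ 𝒜 n, x * y = z}

theorem mem_prodClosure_one
    (hstd : Ideal.span (⋃ n ∈ Set.Ioi (0 : ℤ), (𝒜 n : Set R)) =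
      Ideal.span ((𝒜 1 : AddSubgroup R) : Set R)) {n : ℤ} (hn : 0 ≤ n) {x : R}
    (hx : x ∈ 𝒜 (n + 1)) : x ∈ prodClosure 𝒜 n 1 := by
  have hmem : x ∈ Ideal.span ((𝒜 1 : AddSubgroup R) : Set R) := by
    rw [← hstd]
    exact Ideal.subset_span (Set.mem_biUnion (Set.mem_Ioi.2 (by omega)) hx)
  suffices key : ∀ z ∈ Submodule.span R ((𝒜 1 : AddSubgroup R) : Set R), ∀ r : R,
      pr 𝒜 (n + 1) (r * z) ∈ prodClosure 𝒜 n 1 by
    simpa [pr_of_mem 𝒜 hx] using key x hmem 1
  intro z hz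
  induction hz using Submodule.span_induction with
  | mem s hs =>
    intro r
    rw [← smul_eq_mul, pr_smul_of_mem 𝒜 𝒜 hs, add_sub_cancel_right, smul_eq_mul]
    exact AddSubgroup.subset_closure ⟨_, (decompose 𝒜 r n).2, s, hs, rfl⟩
  | zero => intro r; rw [mul_zero, map_zero]; exact zero_mem _
  | add a b _ _ ha hb => intro r; rw [mul_add, map_add]; exact add_mem (ha r) (hb r)
  | smul c a _ ha => intro r; rw [smul_eq_mul, ← mul_assoc]; exact ha _

/-- In a standard graded ring `R_(m+n) = R_m · R_n`. -/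
theorem mem_prodClosure
    (hstd : Ideal.span (⋃ n ∈ Set.Ioi (0 : ℤ), (𝒜 n : Set R)) =
      Ideal.span ((𝒜 1 : AddSubgroup R) : Set R)) {m : ℤ} (hm : 0 ≤ m) (n : ℕ) :
    ∀ {x : R}, x ∈ 𝒜 (m + n) → x ∈ prodClosure 𝒜 m n := by
  induction n with
  | zero =>
    intro x hx
    rw [Nat.cast_zero, add_zero] at hx
    exact AddSubgroup.subset_closure
      ⟨x, hx, 1, by rw [Nat.cast_zero]; exact SetLike.GradedOne.one_mem, mul_one x⟩
  | succ n ih =>
    intro x hx
    rw [show m + ((n + 1 : ℕ) : ℤ) = (m + n) + 1 by push_cast; ring] at hx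
    refine AddSubgroup.closure_induction (fun z hz => ?_) (zero_mem _)
      (fun a b _ _ ha hb => add_mem ha hb) (fun a _ ha => neg_mem ha)
      (mem_prodClosure_one 𝒜 hstd (by omega) hx)
    obtain ⟨y, hy, s, hs, rfl⟩ := hz
    refine AddSubgroup.closure_induction (p := fun y _ => y * s ∈ prodClosure 𝒜 m ((n + 1 : ℕ) : ℤ))
      (fun z hz => ?_) (by rw [zero_mul]; exact zero_mem _)
      (fun a b _ _ ha hb => by rw [add_mul]; exact add_mem ha hb)
      (fun a _ ha => by rw [neg_mul]; exact neg_mem ha) (ih hy)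
    obtain ⟨u, hu, v, hv, rfl⟩ := hz
    refine AddSubgroup.subset_closure ⟨u, hu, v * s, ?_, (mul_assoc u v s).symm⟩
    rw [Nat.cast_succ]
    exact SetLike.mul_mem_graded hv hs

end GrothGr
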