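import Groth.Agent.GrMod.Delta
import Groth.Agent.GrMod.Polynomial
import Groth.Agent.GrMod.Veronese.Type
import Mathlib.RingTheory.KrullDimension.NonZeroDivisors
import Mathlib.Algebra.MvPolynomial.Nilpotent

/-!
# Standard graded Cohen–Macaulay rings with `a = -dim` are polynomial rings

Helper library (no milestone statements here).
-/

universe u

open DirectSum GrLC

open RingTheory.Sequence (IsRegular IsWeaklyRegular)

namespace GrothGr

theorem shiftEnd_sub_one_succ_apply (r : ℕ) (f : ℤ → ℤ) (j : ℤ) :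
    ((shiftEnd - 1) ^ (r + 1)) f j = ((shiftEnd - 1) ^ r) f (j - 1) - ((shiftEnd - 1) ^ r) f j := by
  rw [pow_succ', Module.End.mul_apply]
  rfl

theorem shiftEnd_sub_one_pow_eq_zero (r : ℕ) (f : ℤ → ℤ) :
    ∀ j : ℤ, (∀ i, j - r ≤ i → i ≤ j → f i = 0) → ((shiftEnd - 1) ^ r) f j = 0 := by
  induction r with
  | zero => exact fun j h => by simpa using h j (by simp) le_rfl
  | succ r ih =>
    intro j h
    rw [shiftEnd_sub_one_succ_apply, ih (j - 1) fun i h1 h2 => h i (by push_cast; omega) (by omega),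
      ih j fun i h1 h2 => h i (by push_cast; omega) h2, sub_self]

theorem shiftEnd_sub_one_pow_apply_zero (r : ℕ) (f : ℤ → ℤ) :
    (∀ i : ℤ, -(r : ℤ) ≤ i → i ≤ -1 → f i = 0) → ((shiftEnd - 1) ^ r) f 0 = (-1) ^ r * f 0 := by
  induction r with
  | zero => intro _; simp
  | succ r ih =>
    intro h
    rw [shiftEnd_sub_one_succ_apply,
      shiftEnd_sub_one_pow_eq_zero r f (0 - 1) fun i h1 h2 => h i (by push_cast; omega) (by omega),
      ih fun i h1 h2 => h i (by push_cast; omega) h2, pow_succ]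
    ring

theorem shiftEnd_sub_one_pow_apply_one (r : ℕ) (f : ℤ → ℤ) :
    (∀ i : ℤ, 1 - (r : ℤ) ≤ i → i ≤ -1 → f i = 0) →
      ((shiftEnd - 1) ^ r) f 1 = (-1) ^ r * (f 1 - r * f 0) := by
  induction r with
  | zero => intro _; simp
  | succ r ih =>
    intro h
    rw [shiftEnd_sub_one_succ_apply, show (1 : ℤ) - 1 = 0 from rfl,
      shiftEnd_sub_one_pow_apply_zero r f fun i h1 h2 => h i (by push_cast; omega) h2,
      ih fun i h1 h2 => h i (by push_cast; omega) h2, pow_succ]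
    push_cast
    ring

variable {R : Type u} [CommRing R] {𝒜 : ℤ → AddSubgroup R} [GradedRing 𝒜]

theorem mem_deg0_iff {x : R} : x ∈ GrLC.deg0 𝒜 ↔ x ∈ 𝒜 0 := Iff.rfl

section standard

variable (hpos : ∀ n : ℤ, n < 0 → 𝒜 n = ⊥)

include hpos in
theorem eq_pr_zero_add (a : R) :
    a - pr 𝒜 0 a ∈ Ideal.span (⋃ n ∈ Set.Ioi (0 : ℤ), (𝒜 n : Set R)) := by
  refine mem_irrelevant_of_decompose_zero 𝒜 hpos ?_
  show pr 𝒜 0 (a - pr 𝒜 0 a) = 0
  rw [map_sub, pr_of_mem 𝒜 (pr_mem 𝒜 0 a), sub_self]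

include hpos in
theorem pr_zero_mul (a b : R) : pr 𝒜 0 (a * b) = pr 𝒜 0 a * pr 𝒜 0 b := by
  have h1 := Ideal.mul_mem_right b _ (eq_pr_zero_add hpos a)
  have h2 := pr_zero_of_mem_irrelevant 𝒜 hpos h1
  rw [sub_mul, map_sub, sub_eq_zero] at h2
  rw [h2, ← smul_eq_mul, pr_smul 𝒜 𝒜 (pr_mem 𝒜 0 a), sub_zero, smul_eq_mul]

include hpos in
theorem pr_one_mul (a b : R) :
    pr 𝒜 1 (a * b) = pr 𝒜 0 a * pr 𝒜 1 b + pr 𝒜 1 a * pr 𝒜 0 b := by
  classical
  obtain ⟨s, hsz, hs⟩ := exists_sum_pr 𝒜 a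
  conv_lhs => rw [← hs, Finset.sum_mul, map_sum]
  have hterm : ∀ l : ℤ, pr 𝒜 1 (pr 𝒜 l a * b) = pr 𝒜 l a * pr 𝒜 (1 - l) b := fun l => by
    rw [← smul_eq_mul, pr_smul 𝒜 𝒜 (pr_mem 𝒜 l a), smul_eq_mul]
  have hneg : ∀ l : ℤ, l < 0 → ∀ c : R, pr 𝒜 l c = 0 := fun l hl c => by
    have h := pr_mem 𝒜 l c
    rwa [hpos l hl, AddSubgroup.mem_bot] at h
  have e : ∑ l ∈ s, pr 𝒜 1 (pr 𝒜 l a * b) =
      ∑ l ∈ ({0, 1} : Finset ℤ), pr 𝒜 1 (pr 𝒜 l a * b) := by
    rw [Finset.sum_subset (Finset.subset_union_left (s₂ := ({0, 1} : Finset ℤ)))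
      fun l _ hl => by rw [hsz l hl, zero_mul, map_zero]]
    refine (Finset.sum_subset Finset.subset_union_right fun l _ hl => ?_).symm
    rw [hterm]
    rcases lt_trichotomy l 0 with h | rfl | h
    · rw [hneg l h, zero_mul]
    · simp at hl
    · have : l ≠ 1 := by rintro rfl; simp at hl
      rw [hneg (1 - l) (by omega), mul_zero]
  rw [e, Finset.sum_pair zero_ne_one, hterm, hterm, sub_zero, sub_self]

variable {N : ℕ} {x : Fin N → R}

theorem aeval_surjective_of_span (hpos : ∀ n : ℤ, n < 0 → 𝒜 n = ⊥)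
    (hstd : Ideal.span (⋃ n ∈ Set.Ioi (0 : ℤ), (𝒜 n : Set R)) = Ideal.span ((𝒜 1 : AddSubgroup R) : Set R))
    (hx : ∀ z ∈ 𝒜 1, z ∈ Submodule.span (GrLC.deg0 𝒜) (Set.range x)) :
    Function.Surjective (MvPolynomial.aeval x : MvPolynomial (Fin N) (GrLC.deg0 𝒜) →ₐ[GrLC.deg0 𝒜] R) := by
  classical
  intro a
  suffices h : a ∈ (MvPolynomial.aeval x : MvPolynomial (Fin N) (GrLC.deg0 𝒜) →ₐ[GrLC.deg0 𝒜] R).range from h
  set S := (MvPolynomial.aeval x : MvPolynomial (Fin N) (GrLC.deg0 𝒜) →ₐ[GrLC.deg0 𝒜] R).range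
  have h1 : ∀ z ∈ 𝒜 1, z ∈ S := fun z hz => by
    refine (Submodule.span_le (p := Subalgebra.toSubmodule S)).2 ?_ (hx z hz)
    rintro _ ⟨i, rfl⟩
    exact ⟨MvPolynomial.X i, MvPolynomial.aeval_X x i⟩
  have hn : ∀ n : ℕ, ∀ z ∈ 𝒜 (n : ℤ), z ∈ S := by
    intro n
    induction n with
    | zero => exact fun z hz => S.algebraMap_mem ⟨z, hz⟩
    | succ n ih =>
      intro z hz
      refine AddSubgroup.closure_induction (p := fun z _ => z ∈ S) (fun w hw => ?_) (zero_mem _)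
        (fun a c _ _ ha hc => add_mem ha hc) (fun a _ ha => neg_mem ha)
        (mem_prodClosure_one 𝒜 hstd (Int.natCast_nonneg n) (by rwa [Nat.cast_succ] at hz))
      obtain ⟨p, hp, q, hq, rfl⟩ := hw
      exact mul_mem (ih p hp) (h1 q hq)
  obtain ⟨s, -, hs⟩ := exists_sum_pr 𝒜 a
  rw [← hs]
  refine sum_mem fun l _ => ?_
  rcases lt_or_ge l 0 with hl | hl
  · have h := pr_mem 𝒜 l a
    rw [hpos l hl, AddSubgroup.mem_bot] at h
    rw [h]
    exact zero_mem _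
  · obtain ⟨n, rfl⟩ : ∃ n : ℕ, l = n := ⟨l.toNat, (Int.toNat_of_nonneg hl).symm⟩
    exact hn n _ (pr_mem 𝒜 _ a)

theorem injective_of_surjective_of_ringKrullDim {k : Type u} [Field k] {r : ℕ}
    {A : Type u} [CommRing A] (hA : ringKrullDim A = r) (φ : MvPolynomial (Fin r) k →+* A)
    (hφ : Function.Surjective φ) : Function.Injective φ := by
  rw [injective_iff_map_eq_zero]
  intro f hf
  by_contra hne
  have hle : ringKrullDim A ≤ ringKrullDim (MvPolynomial (Fin r) k ⧸ Ideal.span {f}) := by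
    refine ringKrullDim_le_of_surjective (Ideal.Quotient.lift _ φ fun a ha => ?_) fun b => ?_
    · obtain ⟨c, rfl⟩ := Ideal.mem_span_singleton'.1 ha
      rw [map_mul, hf, mul_zero]
    · obtain ⟨a, rfl⟩ := hφ b
      exact ⟨Ideal.Quotient.mk _ a, rfl⟩
  have h := (add_le_add_left hle 1).trans
    (ringKrullDim_quotient_succ_le_of_nonZeroDivisor (mem_nonZeroDivisors_of_ne_zero hne))
  rw [hA, MvPolynomial.ringKrullDim_of_isNoetherianRing, ringKrullDim_eq_zero_of_field, zero_add,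
    Nat.card_eq_fintype_card, Fintype.card_fin] at h
  have : r + 1 ≤ r := by exact_mod_cast h
  omega

end standard

variable [IsNoetherianRing R] (hpos : ∀ n : ℤ, n < 0 → 𝒜 n = ⊥) (h0 : IsField (GrLC.deg0 𝒜))
  {m : HomogeneousIdeal 𝒜} (hm : IsStarLocal 𝒜 m)
  (hmsp : m.toIdeal = Ideal.span (⋃ n ∈ Set.Ioi (0 : ℤ), (𝒜 n : Set R)))
  (hstd : Ideal.span (⋃ n ∈ Set.Ioi (0 : ℤ), (𝒜 n : Set R)) = Ideal.span ((𝒜 1 : AddSubgroup R) : Set R))
  {r : ℕ}

include hpos h0 in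
/-- A basis of `R₁`. -/
theorem exists_basis_one {r : ℕ} (h : plen 𝒜 𝒜 1 = (r : ℕ∞)) :
    ∃ x : Fin r → R, (∀ i, x i ∈ 𝒜 1) ∧ ∀ z ∈ 𝒜 1, z ∈ Submodule.span (GrLC.deg0 𝒜) (Set.range x) := by
  letI := h0.toField
  haveI := finite_piece hpos 𝒜 1
  have hr : Module.finrank (GrLC.deg0 𝒜) (GrLC.comp 𝒜 𝒜 1) = r := by
    have h' := Module.length_eq_finrank (GrLC.deg0 𝒜) (GrLC.comp 𝒜 𝒜 1)
    rw [plen, h'] at h
    exact_mod_cast h
  let b := Module.finBasisOfFinrankEq (GrLC.deg0 𝒜) (GrLC.comp 𝒜 𝒜 1) hr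
  refine ⟨fun i => ((b i : GrLC.comp 𝒜 𝒜 1) : R), fun i => (b i).2, fun z hz => ?_⟩
  have h1 : (⟨z, hz⟩ : GrLC.comp 𝒜 𝒜 1) ∈ Submodule.span (GrLC.deg0 𝒜) (Set.range b) := by
    rw [b.span_eq]
    exact Submodule.mem_top
  have h2 := Submodule.mem_map_of_mem (f := (GrLC.comp 𝒜 𝒜 1).subtype) h1
  rw [Submodule.map_span, ← Set.range_comp] at h2
  exact h2

include h0 in
theorem plen_zero_self : plen 𝒜 𝒜 0 = 1 := by
  letI := h0.toField
  let e : GrLC.deg0 𝒜 ≃ₗ[GrLC.deg0 𝒜] GrLC.comp 𝒜 𝒜 0 :=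
    { toFun := fun c => ⟨(c : R), c.2⟩
      map_add' := fun _ _ => rfl
      map_smul' := fun _ _ => rfl
      invFun := fun c => ⟨(c : R), c.2⟩
      left_inv := fun _ => rfl
      right_inv := fun _ => rfl }
  rw [plen, ← e.length_eq, Module.length_eq_finrank, Module.finrank_self, Nat.cast_one]

include hpos h0 hm hmsp hstd in
/-- If `a(R) = -r` then `R` is a polynomial ring. -/
theorem nonempty_ringEquiv_of_endDeg [LocCoh.IsCohenMacaulayRing R] (hr : ringKrullDim R = r)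
    (I : StarInjRes 𝒜 𝒜)
    (ha : endDeg (I.Hgr m r) = (((-(r : ℤ) : ℤ) : WithTop ℤ) : WithBot (WithTop ℤ))) :
    Nonempty (R ≃+* MvPolynomial (Fin r) (GrLC.deg0 𝒜)) := by
  classical
  haveI := isMaximal_irrelevant 𝒜 hpos h0 hm hmsp
  have hkill := delta_killed_pow hpos h0 hm hmsp hstd r R 𝒜 I
    (by rw [Module.supportDim_self_eq_ringKrullDim, hr])
    (fun i hi => subsingleton_H_self_of_lt hm hr I hi)
  have hΔ : ∀ j : ℤ, -(r : ℤ) < j → delta I m r j = ((plen 𝒜 𝒜 j).toNat : ℤ) := fun j hj => by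
    have hb := eq_bot_of_endDeg_lt ha.le hj
    have hz : Module.length (GrLC.deg0 𝒜) (I.Hcomp m r j) = 0 := by
      refine Module.length_eq_zero_iff.2 (subsingleton_of_forall_eq 0 fun y => Subtype.ext ?_)
      have hy : (y : I.H m r) ∈ I.Hgr m r j := y.2
      rw [hb, AddSubgroup.mem_bot] at hy
      exact hy
    simp [delta, hz]
  have hneg : ∀ j : ℤ, -(r : ℤ) < j → j < 0 → delta I m r j = 0 := fun j hj hj0 => by
    rw [hΔ j hj, plen, Module.length_eq_zero_iff.2 (subsingleton_of_forall_eq 0 fun y => Subtype.ext ?_)]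
    · rfl
    · have hy : (y : R) ∈ 𝒜 j := y.2
      rw [hpos j hj0, AddSubgroup.mem_bot] at hy
      exact hy
  have h1 := congrFun hkill 1
  rw [map_pow, map_sub, Polynomial.aeval_X, map_one,
    shiftEnd_sub_one_pow_apply_one r _ fun i h1 h2 => hneg i (by omega) (by omega),
    Pi.zero_apply, mul_eq_zero, hΔ 1 (by omega)] at h1
  rcases h1 with h1 | h1
  · simp at h1
  have hlen : plen 𝒜 𝒜 1 = (r : ℕ∞) := by
    have hfin := plen_ne_top hpos h0 𝒜 1
    rcases Nat.eq_zero_or_pos r with rfl | hr0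
    · rw [Nat.cast_zero, zero_mul, sub_zero] at h1
      rw [Nat.cast_zero, ← ENat.coe_toNat hfin]
      exact_mod_cast h1
    · rw [hΔ 0 (by omega), plen_zero_self h0, ENat.toNat_one, Nat.cast_one, mul_one, sub_eq_zero] at h1
      rw [← ENat.coe_toNat hfin]
      exact_mod_cast h1
  obtain ⟨x, hx1, hx⟩ := exists_basis_one hpos h0 hlen
  letI := h0.toField
  have hsurj := aeval_surjective_of_span hpos hstd hx
  exact ⟨(RingEquiv.ofBijective _ ⟨injective_of_surjective_of_ringKrullDim hr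
    (MvPolynomial.aeval x : MvPolynomial (Fin r) (GrLC.deg0 𝒜) →ₐ[GrLC.deg0 𝒜] R).toRingHom hsurj,
      hsurj⟩).symm⟩

include hpos h0 hm hmsp hstd in
/-- The converse: `a(k[T₁, …, T_r]) = -r`. -/
theorem endDeg_of_ringEquiv [LocCoh.IsCohenMacaulayRing R] (hr : ringKrullDim R = r)
    (I : StarInjRes 𝒜 𝒜) (ψ : R ≃+* MvPolynomial (Fin r) (GrLC.deg0 𝒜)) :
    endDeg (I.Hgr m r) = (((-(r : ℤ) : ℤ) : WithTop ℤ) : WithBot (WithTop ℤ)) := by
  classical
  haveI := isMaximal_irrelevant 𝒜 hpos h0 hm hmsp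
  letI := h0.toField
  haveI := finite_piece hpos 𝒜 1
  -- units of `R` are in degree zero on the constants
  have hC : ∀ c, pr 𝒜 0 (ψ.symm (MvPolynomial.C c)) = ψ.symm (MvPolynomial.C c) := by
    intro c
    set u := ψ.symm (MvPolynomial.C c) with hu
    by_contra hne
    have hu0 : ∃ c', ψ (pr 𝒜 0 u) = MvPolynomial.C c' := by
      by_cases hz : pr 𝒜 0 u = 0
      · exact ⟨0, by rw [hz, map_zero, map_zero]⟩
      · have hzero : (⟨pr 𝒜 0 u, pr_mem 𝒜 0 u⟩ : GrLC.deg0 𝒜) ≠ 0 := fun h => hz (congrArg Subtype.val h)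
        have hunit : IsUnit (pr 𝒜 0 u) :=
          (IsUnit.mk0 _ hzero).map (GrLC.deg0 𝒜).subtype
        obtain ⟨c', -, hc'⟩ := MvPolynomial.isUnit_iff_eq_C_of_isReduced.1 (hunit.map ψ)
        exact ⟨c', hc'⟩
    obtain ⟨c', hc'⟩ := hu0
    have hd : u - pr 𝒜 0 u = ψ.symm (MvPolynomial.C (c - c')) := by
      rw [map_sub MvPolynomial.C, map_sub, ← hc', RingEquiv.symm_apply_apply]
    have hunit : IsUnit (u - pr 𝒜 0 u) := by
      rw [hd]
      refine ((IsUnit.mk0 _ fun h => hne ?_).map MvPolynomial.C).map ψ.symm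
      rw [h, map_zero, map_zero, sub_eq_zero] at hd
      exact hd.symm
    exact m.toIdeal.ne_top_iff_one.1 (ne_top_of_isStarLocal 𝒜 hm)
      (by
        rw [Ideal.eq_top_of_isUnit_mem _ (hmsp ▸ eq_pr_zero_add hpos u : u - pr 𝒜 0 u ∈ m.toIdeal) hunit]
        exact Submodule.mem_top)
  let y : Fin r → GrLC.comp 𝒜 𝒜 1 := fun i => ⟨pr 𝒜 1 (ψ.symm (MvPolynomial.X i)), pr_mem 𝒜 1 _⟩
  set S := Submodule.span (GrLC.deg0 𝒜) (Set.range fun i => pr 𝒜 1 (ψ.symm (MvPolynomial.X i)))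
  have hspan : ∀ p : MvPolynomial (Fin r) (GrLC.deg0 𝒜), pr 𝒜 1 (ψ.symm p) ∈ S := by
    intro p
    induction p using MvPolynomial.induction_on with
    | C c =>
      rw [← hC c, pr_of_mem_ne 𝒜 (pr_mem 𝒜 0 _) zero_ne_one]
      exact zero_mem _
    | add p q hp hq => rw [map_add, map_add]; exact add_mem hp hq
    | mul_X p i hp =>
      rw [map_mul, pr_one_mul hpos]
      refine add_mem ?_ ?_
      · exact S.smul_mem (⟨pr 𝒜 0 (ψ.symm p), pr_mem 𝒜 0 _⟩ : GrLC.deg0 𝒜) (Submodule.subset_span ⟨i, rfl⟩)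
      · rw [mul_comm]
        exact S.smul_mem (⟨pr 𝒜 0 (ψ.symm (MvPolynomial.X i)), pr_mem 𝒜 0 _⟩ : GrLC.deg0 𝒜) hp
  have hx : ∀ z ∈ 𝒜 1, z ∈ S := fun z hz => by
    simpa [pr_of_mem 𝒜 hz] using hspan (ψ z)
  let x : Fin r → R := fun i => pr 𝒜 1 (ψ.symm (MvPolynomial.X i))
  have hsurj := aeval_surjective_of_span hpos hstd (x := x) hx
  let φ : MvPolynomial (Fin r) (GrLC.deg0 𝒜) ≃+* R := RingEquiv.ofBijective
    (MvPolynomial.aeval x : MvPolynomial (Fin r) (GrLC.deg0 𝒜) →ₐ[GrLC.deg0 𝒜] R).toRingHom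
    ⟨injective_of_surjective_of_ringKrullDim hr _ hsurj, hsurj⟩
  have hφX : ∀ i, φ (MvPolynomial.X i) = x i := fun i => MvPolynomial.aeval_X x i
  have hxm : ∀ i, x i ∈ m.toIdeal := fun i =>
    hmsp.ge (Ideal.subset_span (Set.mem_biUnion (Set.mem_Ioi.2 one_pos) (pr_mem 𝒜 1 _)))
  have hspanx : m.toIdeal = Ideal.span (Set.range x) := by
    refine le_antisymm ((hmsp.trans hstd).le.trans (Ideal.span_le.2 fun z hz => ?_))
      (Ideal.span_le.2 (Set.range_subset_iff.2 hxm))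
    refine (Submodule.span_le_restrictScalars (GrLC.deg0 𝒜) R (Set.range x)) (hx z hz)
  have hreg : IsRegular R (List.ofFn x) := by
    refine ⟨?_, fun h => ne_top_of_isStarLocal 𝒜 hm ?_⟩
    · have hw := isWeaklyRegular_X (GrLC.deg0 𝒜) r
      refine ((φ.toAddEquiv).isWeaklyRegular_congr ?_).1 hw
      rw [List.forall₂_iff_get]
      refine ⟨by simp, fun i h₁ h₂ z => ?_⟩
      simp [← hφX]
    · rw [hspanx, eq_top_iff]
      rw [smul_eq_mul, Ideal.mul_top] at h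
      refine h.le.trans (Ideal.span_mono fun z hz => ?_)
      simpa [List.mem_ofFn] using hz
  letI := (quotGr_isInternal 𝒜 m).chooseDecomposition
  haveI := quotGr_gradedSMul 𝒜 m
  let F := starRes 𝒜 (quotGr 𝒜 m)
  have h1 := endDeg_quotient_regular (𝒜 := 𝒜) hpos hm hr I (le_refl r) (f := x) (deg := fun _ => (1 : ℤ))
    (fun i => pr_mem 𝒜 1 _) hxm hreg (quotGr 𝒜 m)
    (Submodule.mkQ m.toIdeal) (fun j z hz => ⟨z, hz, rfl⟩) (Submodule.mkQ_surjective _)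
    ((Submodule.ker_mkQ _).trans hspanx) F
  rw [Nat.sub_self, endDeg_quot_zero hpos hmsp (ne_top_of_isStarLocal 𝒜 hm) F, Finset.sum_const,
    Finset.card_univ, Fintype.card_fin, nsmul_eq_mul, mul_one] at h1
  revert h1
  generalize endDeg (I.Hgr m r) = e
  intro h1
  have h2 := coe_add_coe_add_neg e (-(r : ℤ))
  rw [neg_neg, ← h1, ← WithBot.coe_add, ← WithTop.coe_add, zero_add] at h2
  exact h2.symm

end GrothGr
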