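import Groth.Agent.GrMod.Euler
import Groth.Agent.GrMod.PolynomialRing
import Mathlib.Algebra.MvPolynomial.Division

/-!
# Linear regular sequences over an Artinian base with infinite residue field

Helper library (no milestone statements here).
-/

universe u

open DirectSum GrLC
open scoped Pointwise

namespace GrothGr

/-- A module over a local ring with infinite residue field is no finite union of proper submodules. -/
theorem exists_avoid_submodules {S : Type*} [CommRing S] [IsLocalRing S]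
    (hinf : Infinite (IsLocalRing.ResidueField S)) {M : Type*} [AddCommGroup M] [Module S M]
    (N : Submodule S M) (F : Finset (Submodule S M)) (hF : ∀ p ∈ F, ¬ N ≤ p) :
    ∃ x ∈ N, ∀ p ∈ F, x ∉ p := by
  classical
  induction F using Finset.induction_on with
  | empty => exact ⟨0, zero_mem _, fun p hp => absurd hp (Finset.notMem_empty p)⟩
  | @insert q F hq ih =>
    obtain ⟨x, hxN, hx⟩ := ih fun p hp => hF p (Finset.mem_insert_of_mem hp)
    by_cases hxq : x ∈ q
    swap
    · refine ⟨x, hxN, fun p hp => ?_⟩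
      rcases Finset.mem_insert.1 hp with rfl | hp
      · exact hxq
      · exact hx p hp
    obtain ⟨y, hyN, hyq⟩ := SetLike.not_le_iff_exists.1 (hF q (Finset.mem_insert_self q F))
    have hres : Function.Surjective (IsLocalRing.residue S) := IsLocalRing.residue_surjective
    obtain ⟨g, hg⟩ := hres.hasRightInverse
    have hU : Set.Infinite ({z : IsLocalRing.ResidueField S | z ≠ 0}) :=
      Set.Finite.infinite_compl (Set.finite_singleton 0)
    by_contra hno
    push Not at hno
    have hmem : ∀ z : {z : IsLocalRing.ResidueField S | z ≠ 0},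
        ∃ p : {p // p ∈ F}, x + g z • y ∈ p.1 := by
      intro z
      obtain ⟨p, hp, hzp⟩ := hno (x + g z • y) (add_mem hxN (N.smul_mem _ hyN))
      rcases Finset.mem_insert.1 hp with rfl | hp
      · exfalso
        have hu : IsUnit (g z) := (IsLocalRing.residue_ne_zero_iff_isUnit _).1 (by rw [hg]; exact z.2)
        exact hyq ((Submodule.smul_mem_iff' p hu.unit).1 ((p.add_mem_iff_right hxq).1 hzp))
      · exact ⟨⟨p, hp⟩, hzp⟩
    choose G hG using hmem
    haveI := hU.to_subtype
    obtain ⟨z, w, hne, hzw⟩ := Finite.exists_ne_map_eq_of_infinite G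
    have h1 := hG z
    have h2 := hG w
    rw [← hzw] at h2
    have hu : IsUnit (g z - g w) := (IsLocalRing.residue_ne_zero_iff_isUnit _).1 (by
      rw [map_sub, hg, hg, sub_ne_zero]
      exact fun e => hne (Subtype.ext e))
    have h3 : (g z - g w) • y ∈ (G z).1 := by
      have := sub_mem h1 h2
      rwa [add_sub_add_left_eq_sub, ← sub_smul] at this
    have h4 : y ∈ (G z).1 := (Submodule.smul_mem_iff' (G z).1 hu.unit).1 h3
    exact hx (G z).1 (G z).2 (by simpa using sub_mem h1 ((G z).1.smul_mem (g z) h4))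

variable {R : Type u} [CommRing R] [IsNoetherianRing R] {𝒜 : ℤ → AddSubgroup R} [GradedRing 𝒜]
  {m : HomogeneousIdeal 𝒜}

/-- The degree-zero ring of a *local ring is local. -/
theorem isLocalRing_deg0 (hm : IsStarLocal 𝒜 m) : IsLocalRing (GrLC.deg0 𝒜) := by
  haveI : Nontrivial (GrLC.deg0 𝒜) := by
    refine ⟨0, 1, fun h => ne_top_of_isStarLocal 𝒜 hm ((Ideal.eq_top_iff_one _).2 ?_)⟩
    rw [show (1 : R) = 0 from (congrArg Subtype.val h).symm]
    exact zero_mem _
  have key : ∀ c : GrLC.deg0 𝒜, ¬ IsUnit c → (c : R) ∈ m.toIdeal := by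
    intro c hc
    refine le_of_isStarLocal 𝒜 hm (I := Ideal.span {(c : R)}) ?_ ?_ (Ideal.mem_span_singleton_self _)
    · exact Ideal.homogeneous_span 𝒜 _ fun z hz => ⟨0, (Set.mem_singleton_iff.1 hz) ▸ c.2⟩
    · intro htop
      obtain ⟨r, hr⟩ := Ideal.mem_span_singleton'.1 ((Ideal.eq_top_iff_one _).1 htop)
      refine hc (IsUnit.of_mul_eq_one (⟨pr 𝒜 0 r, pr_mem 𝒜 0 r⟩ : GrLC.deg0 𝒜) ?_)
      refine Subtype.ext ?_
      have h := congrArg (pr 𝒜 0) hr
      rw [mul_comm, ← smul_eq_mul, pr_smul 𝒜 𝒜 (show (c : R) ∈ 𝒜 0 from c.2), sub_zero,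
        pr_of_mem 𝒜 (SetLike.one_mem_graded 𝒜)] at h
      exact h
  refine IsLocalRing.of_nonunits_add fun a b ha hb hab => ?_
  obtain ⟨u, hu⟩ := hab.exists_right_inv
  refine ne_top_of_isStarLocal 𝒜 hm ((Ideal.eq_top_iff_one _).2 ?_)
  rw [show (1 : R) = ((a : R) + (b : R)) * (u : R) from (congrArg Subtype.val hu).symm]
  exact Ideal.mul_mem_right _ _ (add_mem (key a ha) (key b hb))

variable (hpos : ∀ n : ℤ, n < 0 → 𝒜 n = ⊥)

include hpos in
/-- The residue field of `R₀` maps onto `R/m`. -/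
theorem infinite_residueField_deg0 (hm : IsStarLocal 𝒜 m) [IsLocalRing (GrLC.deg0 𝒜)]
    (hinf : Infinite (R ⧸ m.toIdeal)) : Infinite (IsLocalRing.ResidueField (GrLC.deg0 𝒜)) := by
  let φ : GrLC.deg0 𝒜 →+* R ⧸ m.toIdeal := (Ideal.Quotient.mk m.toIdeal).comp (GrLC.deg0 𝒜).subtype
  have hφ : IsLocalHom φ := ⟨fun c hc => by
    by_contra hne
    haveI : Nontrivial (R ⧸ m.toIdeal) :=
      Ideal.Quotient.nontrivial_iff.2 (ne_top_of_isStarLocal 𝒜 hm)
    have hle : Ideal.span {(c : R)} ≤ m.toIdeal := by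
      refine le_of_isStarLocal 𝒜 hm
        (Ideal.homogeneous_span 𝒜 _ fun z hz => ⟨0, (Set.mem_singleton_iff.1 hz) ▸ c.2⟩) fun htop => ?_
      obtain ⟨r, hr⟩ := Ideal.mem_span_singleton'.1 ((Ideal.eq_top_iff_one _).1 htop)
      refine hne (IsUnit.of_mul_eq_one (⟨pr 𝒜 0 r, pr_mem 𝒜 0 r⟩ : GrLC.deg0 𝒜) (Subtype.ext ?_))
      have h := congrArg (pr 𝒜 0) hr
      rw [mul_comm, ← smul_eq_mul, pr_smul 𝒜 𝒜 (show (c : R) ∈ 𝒜 0 from c.2), sub_zero,
        pr_of_mem 𝒜 (SetLike.one_mem_graded 𝒜)] at h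
      exact h
    rw [show φ c = 0 from Ideal.Quotient.eq_zero_iff_mem.2 (hle (Ideal.mem_span_singleton_self _))] at hc
    exact not_isUnit_zero hc⟩
  let ψ : IsLocalRing.ResidueField (GrLC.deg0 𝒜) →+* R ⧸ m.toIdeal :=
    Ideal.Quotient.lift (IsLocalRing.maximalIdeal _) φ fun c hc => by
      by_contra hne
      refine hc ?_
      by_contra hcu
      have hle : Ideal.span {(c : R)} ≤ m.toIdeal := by
        refine le_of_isStarLocal 𝒜 hm
          (Ideal.homogeneous_span 𝒜 _ fun z hz => ⟨0, (Set.mem_singleton_iff.1 hz) ▸ c.2⟩) fun htop => ?_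
        obtain ⟨r, hr⟩ := Ideal.mem_span_singleton'.1 ((Ideal.eq_top_iff_one _).1 htop)
        refine hcu (IsUnit.of_mul_eq_one (⟨pr 𝒜 0 r, pr_mem 𝒜 0 r⟩ : GrLC.deg0 𝒜) (Subtype.ext ?_))
        have h := congrArg (pr 𝒜 0) hr
        rw [mul_comm, ← smul_eq_mul, pr_smul 𝒜 𝒜 (show (c : R) ∈ 𝒜 0 from c.2), sub_zero,
          pr_of_mem 𝒜 (SetLike.one_mem_graded 𝒜)] at h
        exact h
      exact hne (Ideal.Quotient.eq_zero_iff_mem.2 (hle (Ideal.mem_span_singleton_self _)))
  refine Infinite.of_surjective ψ fun z => ?_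
  obtain ⟨r, rfl⟩ := Ideal.Quotient.mk_surjective z
  refine ⟨IsLocalRing.residue _ ⟨pr 𝒜 0 r, pr_mem 𝒜 0 r⟩, ?_⟩
  show Ideal.Quotient.mk m.toIdeal (pr 𝒜 0 r) = Ideal.Quotient.mk m.toIdeal r
  refine (Ideal.Quotient.eq.2 ?_).symm
  exact irrelevant_le_of_isStarLocal hpos hm (mem_irrelevant_of_decompose_zero 𝒜 hpos (by
    show pr 𝒜 0 (r - pr 𝒜 0 r) = 0
    rw [map_sub, pr_of_mem 𝒜 (pr_mem 𝒜 0 r), sub_self]))

variable [IsArtinianRing (GrLC.deg0 𝒜)] [IsLocalRing (GrLC.deg0 𝒜)]

include hpos in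
/-- A module without `m`-torsion has a regular linear form. -/
theorem exists_regular_one (hm : IsStarLocal 𝒜 m)
    (hstd : Ideal.span (⋃ n ∈ Set.Ioi (0 : ℤ), (𝒜 n : Set R)) = Ideal.span ((𝒜 1 : AddSubgroup R) : Set R))
    (hinf : Infinite (IsLocalRing.ResidueField (GrLC.deg0 𝒜)))
    {M : Type u} [AddCommGroup M] [Module R M] [Module.Finite R M] (ℳ : ℤ → AddSubgroup M)
    [Decomposition ℳ] [SetLike.GradedSMul 𝒜 ℳ] (hgam : gam m.toIdeal M = ⊥) :
    ∃ f ∈ 𝒜 1, IsSMulRegular M f := by
  classical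
  have hfin := associatedPrimes.finite R M
  obtain ⟨f, hf, hfP⟩ := exists_avoid_submodules hinf (GrLC.comp 𝒜 𝒜 1)
    (hfin.toFinset.image fun P => (P.restrictScalars (GrLC.deg0 𝒜))) (fun p hp hle => by
      obtain ⟨P, hP, rfl⟩ := Finset.mem_image.1 hp
      have hP' := hfin.mem_toFinset.1 hP
      haveI := hP'.isPrime
      haveI := isPrime_core_int 𝒜 P
      obtain ⟨-, w, hw⟩ := isAssociatedPrime_iff.1 hP'
      have hcore : ((𝒜 1 : AddSubgroup R) : Set R) ⊆ (core 𝒜 P : Ideal R) := fun z hz =>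
        mem_core_of_mem 𝒜 hz (hle hz)
      have hmP : m.toIdeal ≤ P := (le_of_irrelevant_le hpos hm (P.homogeneousCore 𝒜).isHomogeneous
        (hstd.le.trans (Ideal.span_le.2 hcore))).trans (core_le 𝒜 P)
      have hwg : w ∈ gam m.toIdeal M := ⟨1, fun r hr => by
        rw [pow_one] at hr
        have := hmP hr
        rw [hw, Submodule.mem_colon_singleton, Submodule.mem_bot] at this
        exact this⟩
      rw [hgam, Submodule.mem_bot] at hwg
      refine hP'.isPrime.ne_top ?_
      rw [hw, hwg]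
      exact (Ideal.eq_top_iff_one _).2 (Submodule.mem_colon_singleton.2 (by simp)))
  refine ⟨f, hf, ?_⟩
  by_contra hreg
  obtain ⟨v, hv, hv0⟩ : ∃ v : M, f • v = 0 ∧ v ≠ 0 := by
    by_contra hcon
    push Not at hcon
    exact hreg fun a b hab => sub_eq_zero.1 (hcon _ (by rw [smul_sub, sub_eq_zero]; exact hab))
  obtain ⟨P, hP, hle⟩ := exists_le_isAssociatedPrime_of_isNoetherianRing R v hv0
  exact hfP _ (Finset.mem_image.2 ⟨P, hfin.mem_toFinset.2 hP, rfl⟩)
    (hle (Submodule.mem_colon_singleton.2 (by rw [hv]; exact zero_mem _)))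

omit [IsArtinianRing (GrLC.deg0 𝒜)] [IsLocalRing (GrLC.deg0 𝒜)] in
/-- Dimension drops along a regular element. -/
theorem supportDim_quot_le {M : Type u} [AddCommGroup M] [Module R M] [Module.Finite R M] {f : R}
    (hf : f ∈ m.toIdeal) [m.toIdeal.IsMaximal] (hreg : IsSMulRegular M f) {k : ℕ}
    (hsupp : Module.supportDim R M ≤ ((k + 1 : ℕ) : WithBot ℕ∞)) :
    Module.supportDim R (M ⧸ f • (⊤ : Submodule R M)) ≤ (k : WithBot ℕ∞) := by
  have h := Module.supportDim_quotSMulTop_succ_le_of_notMem_minimalPrimes (M := M) (x := f)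
    fun p hp hfp => by
      have hass := Module.associatedPrimes.minimalPrimes_annihilator_subset_associatedPrimes R M hp
      obtain ⟨-, w, hw⟩ := isAssociatedPrime_iff.1 hass
      rw [hw, Submodule.mem_colon_singleton, Submodule.mem_bot] at hfp
      have hw0 : w = 0 := hreg (show f • w = f • (0 : M) by rw [hfp, smul_zero])
      refine hass.isPrime.ne_top ?_
      rw [hw, hw0]
      exact (Ideal.eq_top_iff_one _).2 (Submodule.mem_colon_singleton.2 (by simp))
  have h' := h.trans hsupp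
  revert h'
  cases Module.supportDim R (QuotSMulTop f M) with
  | bot => exact fun _ => bot_le
  | coe c =>
    intro h'
    have h2 : c + 1 ≤ (k : ℕ∞) + 1 := WithBot.coe_le_coe.1 (by exact_mod_cast h')
    exact WithBot.coe_le_coe.2 ((ENat.add_le_add_iff_right (by simp)).1 h2)

include hpos in
/-- Linear regular sequences: the quotients, their cohomology and their ends. -/
theorem exists_linear_chain (hm : IsStarLocal 𝒜 m)
    (hstd : Ideal.span (⋃ n ∈ Set.Ioi (0 : ℤ), (𝒜 n : Set R)) = Ideal.span ((𝒜 1 : AddSubgroup R) : Set R))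
    (hinf : Infinite (IsLocalRing.ResidueField (GrLC.deg0 𝒜))) :
    ∀ (d : ℕ) (J : Ideal R) [Decomposition (quotPc 𝒜 J)] [SetLike.GradedSMul 𝒜 (quotPc 𝒜 J)],
      J.IsHomogeneous 𝒜 → ∀ (E : StarInjRes 𝒜 (quotPc 𝒜 J)),
      (∀ i, i < d → Subsingleton (E.H m i)) → Module.supportDim R (R ⧸ J) ≤ (d : WithBot ℕ∞) →
      endDeg (E.Hgr m d) = (((-(d : ℤ) : ℤ) : WithTop ℤ) : WithBot (WithTop ℤ)) →
      ∃ f : Fin d → R, (∀ i, f i ∈ 𝒜 1) ∧
        (∀ k : Fin d, ∀ r : R, f k * r ∈ J ⊔ Ideal.span (f '' {l | l < k}) →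
          r ∈ J ⊔ Ideal.span (f '' {l | l < k})) ∧
        ∀ n : ℤ, 0 < n → ∀ z ∈ 𝒜 n, z ∈ J ⊔ Ideal.span (Set.range f) := by
  intro d
  induction d with
  | zero =>
    intro J _ _ hJ E _ hsupp hend
    refine ⟨fun i => i.elim0, fun i => i.elim0, fun k => k.elim0, fun n hn z hz => ?_⟩
    have htop := gam_eq_top_of_supportDim_le_zero hpos hm (quotPc 𝒜 J) hsupp
    obtain ⟨e, he⟩ := exists_H_zero_equiv E m
    have hz' : (⟨Submodule.Quotient.mk z, htop.ge Submodule.mem_top⟩ : gam m.toIdeal (R ⧸ J)) ∈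
        subPc (quotPc 𝒜 J) (gam m.toIdeal (R ⧸ J)) n := ⟨z, hz, rfl⟩
    have h1 := he n _ hz'
    rw [eq_bot_of_endDeg_lt hend.le (by simpa using hn), AddSubgroup.mem_bot] at h1
    have h2 := congrArg Subtype.val ((map_eq_zero_iff _ e.injective).1 h1)
    exact Submodule.mem_sup_left ((Submodule.Quotient.mk_eq_zero J).1 h2)
  | succ d ih =>
    intro J _ _ hJ E hvan hsupp hend
    haveI := isMaximal_of_isStarLocal hpos hm
    have hgam : gam m.toIdeal (R ⧸ J) = ⊥ := by
      obtain ⟨e, -⟩ := exists_H_zero_equiv E m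
      haveI := hvan 0 d.succ_pos
      haveI : Subsingleton (gam m.toIdeal (R ⧸ J)) := e.toEquiv.subsingleton
      exact Submodule.eq_bot_of_subsingleton
    obtain ⟨g, hg, hreg⟩ := exists_regular_one hpos hm hstd hinf (quotPc 𝒜 J) hgam
    have hgm : g ∈ m.toIdeal := irrelevant_le_of_isStarLocal hpos hm
      (Ideal.subset_span (Set.mem_biUnion (Set.mem_Ioi.2 one_pos) hg))
    let J' : Ideal R := J ⊔ Ideal.span {g}
    have hJ' : J'.IsHomogeneous 𝒜 := hJ.sup (Ideal.homogeneous_span 𝒜 _ fun z hz =>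
      ⟨1, (Set.mem_singleton_iff.1 hz) ▸ hg⟩)
    letI := (quotPc_isInternal 𝒜 (P := J') hJ').chooseDecomposition
    haveI := quotPc_gradedSMul 𝒜 𝒜 J'
    let π : (R ⧸ J) →ₗ[R] (R ⧸ J') := J.mapQ J' LinearMap.id (fun z hz => Submodule.mem_sup_left hz)
    have hπ : IsGrHom (quotPc 𝒜 J) (quotPc 𝒜 J') π := by
      rintro j _ ⟨z, hz, rfl⟩
      exact ⟨z, hz, rfl⟩
    have hπs : Function.Surjective π := fun y => by
      obtain ⟨z, rfl⟩ := Submodule.mkQ_surjective J' y
      exact ⟨J.mkQ z, rfl⟩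
    have hπk : LinearMap.ker π = LinearMap.range (LinearMap.lsmul R (R ⧸ J) g) := by
      ext y
      obtain ⟨z, rfl⟩ := Submodule.mkQ_surjective J y
      constructor
      · intro hz
        obtain ⟨u, hu, v, hv, huv⟩ := Submodule.mem_sup.1 ((Submodule.Quotient.mk_eq_zero J').1 hz)
        obtain ⟨c, rfl⟩ := Ideal.mem_span_singleton'.1 hv
        refine ⟨Submodule.Quotient.mk c, ?_⟩
        show Submodule.Quotient.mk (g • c) = Submodule.Quotient.mk z
        have huv' : u + c * g = z := huv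
        rw [Submodule.Quotient.eq, smul_eq_mul, ← huv', show g * c - (u + c * g) = -u by ring]
        exact neg_mem hu
      · rintro ⟨w, hw⟩
        obtain ⟨c, rfl⟩ := Submodule.mkQ_surjective J w
        rw [← hw]
        exact (Submodule.Quotient.mk_eq_zero J').2
          (Submodule.mem_sup_right (Ideal.mem_span_singleton'.2 ⟨c, mul_comm _ _⟩))
    let E' := starRes 𝒜 (quotPc 𝒜 J')
    have hend' : endDeg (E'.Hgr m d) = (((-(d : ℤ) : ℤ) : WithTop ℤ) : WithBot (WithTop ℤ)) := by
      rw [endDeg_step E E' m hg zero_le_one hgm hreg π hπ hπs hπk d (hvan d (Nat.lt_succ_self d)), hend,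
        ← WithBot.coe_add, ← WithTop.coe_add]
      congr 2
      push_cast
      ring
    have hvan' : ∀ i, i < d → Subsingleton (E'.H m i) := fun i hi => by
      obtain ⟨p, δ, -, -, -, hpδ, hδx, -⟩ := exists_regular_seq E E' m hg hreg π hπ hπs hπk i
      haveI := hvan i (by omega)
      haveI := hvan (i + 1) (by omega)
      refine subsingleton_of_forall_eq 0 fun z => ?_
      obtain ⟨w, rfl⟩ := (hpδ z).1 (Subsingleton.elim _ _)
      rw [Subsingleton.elim w 0, map_zero]
    have hsupp' : Module.supportDim R (R ⧸ J') ≤ (d : WithBot ℕ∞) := by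
      refine le_trans (le_of_eq ?_) (supportDim_quot_le (M := R ⧸ J) hgm hreg hsupp)
      refine (Module.supportDim_eq_of_equiv ((Submodule.quotEquivOfEq _ _ ?_).trans
        (π.quotKerEquivOfSurjective hπs))).symm
      rw [hπk]
      ext y
      rw [Submodule.mem_smul_pointwise_iff_exists, LinearMap.mem_range]
      simp
    obtain ⟨f, hf, hchain, htop⟩ := ih J' hJ' E' hvan' hsupp' hend'
    have himg : ∀ k : Fin d, J' ⊔ Ideal.span (f '' {l | l < k}) =
        J ⊔ Ideal.span ((Fin.cons g f : Fin (d + 1) → R) '' {l | l < k.succ}) := by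
      intro k
      have hset : (Fin.cons g f : Fin (d + 1) → R) '' {l | l < k.succ} = {g} ∪ f '' {l | l < k} := by
        ext z
        constructor
        · rintro ⟨l, hl, rfl⟩
          revert hl
          refine Fin.cases ?_ (fun l hl => ?_) l
          · exact fun _ => Or.inl (by simp)
          · exact Or.inr ⟨l, Fin.succ_lt_succ_iff.1 hl, by simp⟩
        · rintro (rfl | ⟨l, hl, rfl⟩)
          · exact ⟨0, Fin.succ_pos k, by simp⟩
          · exact ⟨l.succ, Fin.succ_lt_succ_iff.2 hl, by simp⟩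
      rw [hset, Ideal.span_union, sup_assoc]
    refine ⟨Fin.cons g f, fun i => ?_, fun k => ?_, fun n hn z hz => ?_⟩
    · refine Fin.cases ?_ (fun i => ?_) i
      · exact hg
      · exact hf i
    · refine Fin.cases ?_ (fun k => ?_) k
      · intro r hr
        have hempty : (Fin.cons g f : Fin (d + 1) → R) '' {l | l < 0} = ∅ := by
          ext z
          simp
        rw [hempty, Ideal.span_empty, sup_bot_eq] at hr ⊢
        rw [Fin.cons_zero] at hr
        have h0 : g • (Submodule.Quotient.mk r : R ⧸ J) = g • 0 := by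
          rw [smul_zero, ← Submodule.Quotient.mk_smul, Submodule.Quotient.mk_eq_zero, smul_eq_mul]
          exact hr
        exact (Submodule.Quotient.mk_eq_zero J).1 (hreg h0)
      · intro r hr
        rw [Fin.cons_succ, ← himg] at hr
        rw [← himg]
        exact hchain k r hr
    · have hrange : J ⊔ Ideal.span (Set.range (Fin.cons g f : Fin (d + 1) → R)) =
          J' ⊔ Ideal.span (Set.range f) := by
        rw [Fin.range_cons, Set.insert_eq, Ideal.span_union, sup_assoc]
      rw [hrange]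
      exact htop n hn z hz

omit [IsNoetherianRing R] [IsArtinianRing (GrLC.deg0 𝒜)] [IsLocalRing (GrLC.deg0 𝒜)] in
include hpos in
/-- A regular chain of linear forms with `R/(f) = R₀` is algebraically independent over `R₀`. -/
theorem aeval_injective_of_chain {d : ℕ} (f : Fin d → R) (hf : ∀ i, f i ∈ 𝒜 1)
    (hchain : ∀ k : Fin d, ∀ r : R, f k * r ∈ Ideal.span (f '' {l | l < k}) →
      r ∈ Ideal.span (f '' {l | l < k})) :
    Function.Injective (MvPolynomial.aeval f : MvPolynomial (Fin d) (GrLC.deg0 𝒜) →ₐ[GrLC.deg0 𝒜] R) := by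
  classical
  have hzero : ∀ c : GrLC.deg0 𝒜, (c : R) ∈ Ideal.span (Set.range f) → c = 0 := by
    intro c hc
    refine Subtype.ext ?_
    rw [← pr_of_mem 𝒜 (show (c : R) ∈ 𝒜 0 from c.2)]
    refine pr_zero_of_mem_irrelevant 𝒜 hpos (Ideal.span_le.2 ?_ hc)
    rintro _ ⟨i, rfl⟩
    exact Ideal.subset_span (Set.mem_biUnion (Set.mem_Ioi.2 one_pos) (hf i))
  suffices key : ∀ (j : ℕ) (k : ℕ), d ≤ k + j → ∀ (n : ℕ) (p : MvPolynomial (Fin d) (GrLC.deg0 𝒜)),
      (∀ e ∈ p.support, e.degree ≤ n ∧ ∀ i : Fin d, (i : ℕ) < k → e i = 0) →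
      MvPolynomial.aeval f p ∈ Ideal.span (f '' {l | (l : ℕ) < k}) → p = 0 by
    refine (injective_iff_map_eq_zero _).2 fun p hp => ?_
    refine key d 0 (by omega) (p.support.sup fun e => e.degree) p
      (fun e he => ⟨Finset.le_sup (f := fun e => e.degree) he, fun i hi => absurd hi (Nat.not_lt_zero _)⟩) ?_
    rw [hp]
    exact zero_mem _
  intro j
  induction j with
  | zero =>
    intro k hk n p hp hmem
    have hp' : p = MvPolynomial.C (p.coeff 0) := by
      refine MvPolynomial.ext _ _ fun e => ?_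
      rw [MvPolynomial.coeff_C]
      split_ifs with he
      · rw [he]
      · by_contra hne
        exact he (Finsupp.ext fun i => ((hp e (MvPolynomial.mem_support_iff.2 hne)).2 i
          (lt_of_lt_of_le i.2 (by omega))).symm)
    rw [hp', MvPolynomial.aeval_C] at hmem
    rw [hp', hzero _ (Ideal.span_mono (Set.image_subset_range _ _) hmem), map_zero]
  | succ j ih =>
    intro k hk n
    by_cases hkd : d ≤ k
    · exact ih k (by omega) n
    push Not at hkd
    have hsub : f '' {l : Fin d | (l : ℕ) < k} ⊆ f '' {l : Fin d | (l : ℕ) < k + 1} :=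
      Set.image_mono fun l (hl : (l : ℕ) < k) => Nat.lt_succ_of_lt hl
    induction n with
    | zero =>
      intro p hp hmem
      have hp1 : ∀ e ∈ p.support, e.degree ≤ 0 ∧ ∀ i : Fin d, (i : ℕ) < k + 1 → e i = 0 := by
        intro e he
        refine ⟨(hp e he).1, fun i _ => ?_⟩
        have := (hp e he).1
        rw [Nat.le_zero, Finsupp.degree_eq_zero_iff] at this
        rw [this, Finsupp.zero_apply]
      refine ih (k + 1) (by omega) 0 p hp1 ?_
      exact Ideal.span_mono hsub hmem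
    | succ n ihn =>
      intro p hp hmem
      let i₀ : Fin d := ⟨k, hkd⟩
      let q := p.divMonomial (Finsupp.single i₀ 1)
      let p' := p.modMonomial (Finsupp.single i₀ 1)
      have hsplit : MvPolynomial.X i₀ * q + p' = p := MvPolynomial.divMonomial_add_modMonomial_single p i₀
      have hp' : ∀ e ∈ p'.support, e.degree ≤ n + 1 ∧ ∀ i : Fin d, (i : ℕ) < k + 1 → e i = 0 := by
        intro e he
        have he' := MvPolynomial.mem_support_iff.1 he
        have hnle : ¬ Finsupp.single i₀ 1 ≤ e := fun h => he' (MvPolynomial.coeff_modMonomial_of_le p h)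
        rw [MvPolynomial.coeff_modMonomial_of_not_le p hnle] at he'
        obtain ⟨h1, h2⟩ := hp e (MvPolynomial.mem_support_iff.2 he')
        refine ⟨h1, fun i hi => ?_⟩
        rcases Nat.lt_or_eq_of_le (Nat.lt_succ_iff.1 hi) with hlt | heq
        · exact h2 i hlt
        · obtain rfl : i = i₀ := Fin.ext heq
          by_contra hne
          exact hnle (Finsupp.single_le_iff.2 (Nat.one_le_iff_ne_zero.2 hne))
      have hle : Ideal.span (f '' {l : Fin d | (l : ℕ) < k}) ≤ Ideal.span (f '' {l : Fin d | (l : ℕ) < k + 1}) :=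
        Ideal.span_mono hsub
      have hev : MvPolynomial.aeval f p = f i₀ * MvPolynomial.aeval f q + MvPolynomial.aeval f p' := by
        rw [← hsplit, map_add, map_mul, MvPolynomial.aeval_X]
      have hp'0 : p' = 0 := by
        refine ih (k + 1) (by omega) (n + 1) p' hp' ?_
        rw [show MvPolynomial.aeval f p' = MvPolynomial.aeval f p - f i₀ * MvPolynomial.aeval f q by
          rw [hev]; ring]
        exact sub_mem (hle hmem) (Ideal.mul_mem_right _ _ (Ideal.subset_span ⟨i₀, Nat.lt_succ_self k, rfl⟩))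
      have hq0 : q = 0 := by
        refine ihn q (fun e he => ?_) ?_
        · have he' := MvPolynomial.mem_support_iff.1 he
          rw [MvPolynomial.coeff_divMonomial] at he'
          obtain ⟨h1, h2⟩ := hp _ (MvPolynomial.mem_support_iff.2 he')
          rw [map_add, Finsupp.degree_single] at h1
          refine ⟨by omega, fun i hi => ?_⟩
          have := h2 i hi
          rw [Finsupp.add_apply] at this
          omega
        · have hmem' := hmem
          rw [hev, hp'0, map_zero, add_zero] at hmem'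
          exact hchain i₀ _ hmem'
      rw [← hsplit, hp'0, hq0, mul_zero, add_zero]

end GrothGr
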