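import Groth.Agent.GrMod.Bounded
import Groth.Agent.GrMod.TorsionStep
import Groth.Agent.GrMod.Finiteness

/-!
# Hyperplane sections of graded local cohomology by a quasi-regular element

Helper library (no milestone statements here).
-/

universe u

open DirectSum GrLC

namespace GrothGr

variable {R : Type u} [CommRing R] {𝒜 : ℤ → AddSubgroup R} [GradedRing 𝒜] [IsNoetherianRing R]
variable {M : Type u} [AddCommGroup M] [Module R M] {ℳ : ℤ → AddSubgroup M} [Decomposition ℳ]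
  [SetLike.GradedSMul 𝒜 ℳ]

/-- Positive cohomology does not see homogeneous torsion submodules. -/
theorem exists_H_equiv_quot_torsion (a : HomogeneousIdeal 𝒜) (W : Submodule R M)
    (hhom : W.IsHomogeneous ℳ) (htop : gam a.toIdeal W = ⊤) [Decomposition (quotPc ℳ W)]
    [SetLike.GradedSMul 𝒜 (quotPc ℳ W)] (E : StarInjRes 𝒜 ℳ) (EQ : StarInjRes 𝒜 (quotPc ℳ W)) (i : ℕ) :
    ∃ ψ : E.H a (i + 1) ≃ₗ[R] EQ.H a (i + 1),
      IsGrHom (E.Hgr a (i + 1)) (EQ.Hgr a (i + 1)) ψ.toLinearMap := by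
  letI := (subPc_isInternal ℳ hhom).chooseDecomposition
  haveI := subPc_gradedSMul 𝒜 ℳ W
  let EW := starRes 𝒜 (subPc ℳ W)
  have hex : LinearMap.ker W.mkQ = LinearMap.range W.subtype := by
    rw [Submodule.ker_mkQ, Submodule.range_subtype]
  obtain ⟨H⟩ := nonempty_horse W.subtype W.mkQ EW EQ (subtype_isGrHom ℳ W) Subtype.val_injective
    (mkQ_isGrHom ℳ W) (Submodule.mkQ_surjective W) hex
  let EB := H.res (mkQ_isGrHom ℳ W) hex (Submodule.mkQ_surjective W)
  obtain ⟨ψ, hψ⟩ := exists_H_equiv E EB a (i + 1)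
  have hsub : ∀ k, Subsingleton (EW.H a (k + 1)) := subsingleton_Hrep_of_torsion EW a htop
  have hbij : Function.Bijective
      (H.sndH a (mkQ_isGrHom ℳ W) hex (Submodule.mkQ_surjective W) (i + 1)) := by
    refine ⟨(injective_iff_map_eq_zero _).2 fun z hz => ?_, fun z => ?_⟩
    · obtain ⟨w, rfl⟩ := (H.exact_inl_snd a _ hex _ (i + 1) z).1 hz
      haveI := hsub i
      rw [Subsingleton.elim w 0, map_zero]
    · haveI := hsub (i + 1)
      exact (H.exact_snd_δ a (mkQ_isGrHom ℳ W) hex (Submodule.mkQ_surjective W) (i + 1) z).1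
        (Subsingleton.elim _ _)
  refine ⟨ψ.trans (LinearEquiv.ofBijective _ hbij), fun j x hx => ?_⟩
  exact H.sndH_grHom a (mkQ_isGrHom ℳ W) hex (Submodule.mkQ_surjective W) (i + 1) j _ (hψ j x hx)

/-- A graded Artinian module is torsion for the irrelevant ideal. -/
theorem gam_eq_top_of_isArtinian (hpos : ∀ n : ℤ, n < 0 → 𝒜 n = ⊥) {T : Type u} [AddCommGroup T]
    [Module R T] (𝒯 : ℤ → AddSubgroup T) [Decomposition 𝒯] [SetLike.GradedSMul 𝒜 𝒯] [IsArtinian R T] :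
    gam (Ideal.span (⋃ n ∈ Set.Ioi (0 : ℤ), (𝒜 n : Set R))) T = ⊤ := by
  obtain ⟨B, hB⟩ := exists_bound_of_isArtinian (𝒜 := 𝒜) hpos 𝒯
  have key : ∀ (t : ℕ) (g : ℤ), B ≤ g + t → ∀ z ∈ 𝒯 g,
      ∀ r ∈ Ideal.span (⋃ n ∈ Set.Ioi (0 : ℤ), (𝒜 n : Set R)) ^ t, r • z = 0 := by
    intro t
    induction t with
    | zero =>
      intro g hg z hz r _
      rw [hB g (by simpa using hg), AddSubgroup.mem_bot] at hz
      rw [hz, smul_zero]
    | succ t ih =>
      intro g hg z hz r hr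
      rw [pow_succ'] at hr
      refine Submodule.mul_induction_on hr (fun p hp q hq => ?_) fun u v hu hv => by
        rw [add_smul, hu, hv, add_zero]
      induction hp using Submodule.span_induction with
      | mem p hp =>
        obtain ⟨n, hn, hpn⟩ := Set.mem_iUnion₂.1 hp
        rw [mul_comm, mul_smul]
        have hn' : (0 : ℤ) < n := hn
        exact ih (n + g) (by push_cast at hg; omega) _ (smul_mem 𝒯 𝒜 hpn hz) q hq
      | zero => rw [zero_mul, zero_smul]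
      | add u v _ _ hu hv => rw [add_mul, add_smul, hu, hv, add_zero]
      | smul c u _ hu => rw [smul_eq_mul, mul_assoc, mul_smul, hu, smul_zero]
  refine eq_top_iff.2 fun z _ => ?_
  obtain ⟨s, -, hs⟩ := exists_sum_pr 𝒯 z
  rw [← hs]
  refine sum_mem fun g _ => ⟨(B - g).toNat, fun r hr => ?_⟩
  exact key (B - g).toNat g (by omega) _ (pr_mem 𝒯 g z) r hr

variable {N : Type u} [AddCommGroup N] [Module R N] {𝒩 : ℤ → AddSubgroup N} [Decomposition 𝒩]
  [SetLike.GradedSMul 𝒜 𝒩]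

/-- Vanishing passes to a hyperplane section by a quasi-regular element. -/
theorem Hgr_quotient_eq_bot (a : HomogeneousIdeal 𝒜) {x : R} {d : ℤ} (hx : x ∈ 𝒜 d)
    (htor : gam a.toIdeal (LinearMap.ker (LinearMap.lsmul R M x)) = ⊤) (π : M →ₗ[R] N)
    (hπ : IsGrHom ℳ 𝒩 π) (hπs : Function.Surjective π)
    (hπk : LinearMap.ker π = LinearMap.range (LinearMap.lsmul R M x))
    (E : StarInjRes 𝒜 ℳ) (E' : StarInjRes 𝒜 𝒩) (i : ℕ) (j : ℤ)
    (h1 : E.Hgr a i j = ⊥) (h2 : E.Hgr a (i + 1) (j - d) = ⊥) : E'.Hgr a i j = ⊥ := by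
  let W : Submodule R M := LinearMap.ker (LinearMap.lsmul R M x)
  have hhom : W.IsHomogeneous ℳ := fun g z hz => by
    show x • pr ℳ g z = 0
    have h := pr_smul ℳ 𝒜 hx (g + d) z
    rw [show x • z = 0 from hz, map_zero, add_sub_cancel_right] at h
    exact h.symm
  letI := (quotPc_isInternal ℳ hhom).chooseDecomposition
  haveI := quotPc_gradedSMul 𝒜 ℳ W
  let EQ := starRes 𝒜 (quotPc ℳ W)
  let f : (M ⧸ W) →ₗ[R] M := W.liftQ (LinearMap.lsmul R M x) le_rfl
  have hfi : Function.Injective f :=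
    LinearMap.ker_eq_bot.1 (Submodule.ker_liftQ_eq_bot _ _ le_rfl le_rfl)
  have hfd : IsGrHom (shiftPc (quotPc ℳ W) d) ℳ f := by
    rintro g _ ⟨z, hz, rfl⟩
    show x • z ∈ ℳ g
    have := smul_mem ℳ 𝒜 hx hz
    rwa [add_sub_cancel] at this
  have hex : LinearMap.ker π = LinearMap.range f := by rw [hπk, Submodule.range_liftQ]
  obtain ⟨H⟩ := nonempty_horse f π (shiftRes EQ d) E' hfd hfi hπ hπs hex
  let EB := H.res hπ hex hπs
  obtain ⟨e, he⟩ := exists_H_equiv E EB a i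
  letI := (Hgr_isInternal 𝒜 ℳ E a i).chooseDecomposition
  letI := (Hgr_isInternal 𝒜 ℳ EB a i).chooseDecomposition
  letI := (Hgr_isInternal 𝒜 ℳ E a (i + 1)).chooseDecomposition
  letI := (Hgr_isInternal 𝒜 (quotPc ℳ W) EQ a (i + 1)).chooseDecomposition
  obtain ⟨ψ, hψ⟩ := exists_H_equiv_quot_torsion a W hhom htor E EQ i
  have hQ : EQ.Hgr a (i + 1) (j - d) = ⊥ := (eq_bot_of_grEquiv ψ hψ).1 h2
  have hB : EB.Hgr a i j = ⊥ := (eq_bot_of_grEquiv e he).1 h1
  refine (AddSubgroup.eq_bot_iff_forall _).2 fun z hz => ?_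
  have hδ : H.δ a i z = 0 := by
    obtain ⟨w, hw, hwz⟩ := H.δ_grHom a i j z hz
    have hmem : H.δ a i z ∈ EQ.Hgr a (i + 1) (j - d) := ⟨w, hw, hwz⟩
    exact AddSubgroup.mem_bot.1 (hQ.le hmem)
  obtain ⟨w, rfl⟩ := (H.exact_snd_δ a hπ hex hπs i z).1 hδ
  letI := (Hgr_isInternal 𝒜 𝒩 E' a i).chooseDecomposition
  have h := map_pr (EB.Hgr a i) (E'.Hgr a i) (H.sndH_grHom a hπ hex hπs i) j w
  rw [pr_of_mem _ hz, show pr (EB.Hgr a i) j w = 0 from AddSubgroup.mem_bot.1 (hB ▸ pr_mem _ _ _),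
    map_zero] at h
  exact h.symm

end GrothGr
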