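import Groth.Agent.GrMod.Transfer
import Groth.Agent.GrMod.Irrelevant
import Groth.Agent.GrMod.Euler
import Groth.Prelude.Def_ReesMod
import Groth.Prelude.Def_GrSyz

/-!
# The Rees module, its positive part and the shifted submodule `⊕ I^{n+1}M`

Helper library (no milestone statements here).
-/

universe u

open DirectSum GrLC Polynomial

set_option maxSynthPendingDepth 4

namespace GrothGr.ReesParts

variable {A : Type u} [CommRing A] (I : Ideal A) (M : Type u) [AddCommGroup M] [Module A M]

/-- The grading of the Rees algebra by additive subgroups. -/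
noncomputable abbrev GR : ℤ → AddSubgroup (reesAlgebra I) := GrothGr.agr (Rees.degZ (reesAlgebra I))

/-- The Rees module. -/
noncomputable abbrev MS : Submodule (reesAlgebra I) (PolynomialModule A M) := (Rees.powFilt I M).submodule

/-- Its grading. -/
noncomputable abbrev MG : ℤ → AddSubgroup (MS I M) := Rees.mdegZ (Rees.powFilt I M)

theorem hpos : ∀ n : ℤ, n < 0 → GR I n = ⊥ := by
  refine fun n hn => eq_bot_iff.2 fun f hf => AddSubgroup.mem_bot.2 (Subtype.ext (Polynomial.ext fun m => ?_))
  rw [(Rees.mem_degZ_iff (reesAlgebra I) n f).1 hf m (by omega)]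
  simp

/-- Elements of positive degree come from degree one. -/
theorem mem_span_deg_one : ∀ (n : ℕ) (a : A) (ha : a ∈ I ^ (n + 1)),
    (⟨monomial (n + 1) a, reesAlgebra.monomial_mem.2 ha⟩ : reesAlgebra I) ∈
      Ideal.span ((GR I 1 : AddSubgroup (reesAlgebra I)) : Set (reesAlgebra I)) := by
  intro n
  induction n with
  | zero =>
    intro a ha
    refine Ideal.subset_span ((Rees.mem_degZ_iff (reesAlgebra I) 1 _).2 fun m hm => ?_)
    show (monomial (0 + 1) a).coeff m = 0
    rw [coeff_monomial, if_neg (by omega)]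
  | succ n ih =>
    intro a ha
    have ha' : a ∈ I * I ^ (n + 1) := by rwa [← pow_succ']
    suffices key : ∀ b ∈ I * I ^ (n + 1), ∀ hb : b ∈ I ^ (n + 1 + 1),
        (⟨monomial (n + 1 + 1) b, reesAlgebra.monomial_mem.2 hb⟩ : reesAlgebra I) ∈
          Ideal.span ((GR I 1 : AddSubgroup (reesAlgebra I)) : Set (reesAlgebra I)) from key a ha' ha
    intro b hb
    induction hb using Submodule.mul_induction_on' with
    | mem_mul_mem p hp q hq =>
      intro _
      have h := Ideal.mul_mem_left (Ideal.span ((GR I 1 : AddSubgroup (reesAlgebra I)) : Set (reesAlgebra I)))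
        (⟨monomial 1 p, reesAlgebra.monomial_mem.2 (by rwa [pow_one])⟩ : reesAlgebra I) (ih q hq)
      convert h using 1
      refine Subtype.ext ?_
      show monomial (n + 1 + 1) (p * q) = monomial 1 p * monomial (n + 1) q
      rw [monomial_mul_monomial, Nat.add_comm 1 (n + 1)]
    | add x hx y hy ihx ihy =>
      intro _
      have h := add_mem (ihx (by rw [pow_succ']; exact hx)) (ihy (by rw [pow_succ']; exact hy))
      convert h using 1
      exact Subtype.ext (map_add (monomial (n + 1 + 1)) x y)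

theorem hstd : Ideal.span (⋃ n ∈ Set.Ioi (0 : ℤ), ((GR I n : AddSubgroup (reesAlgebra I)) : Set (reesAlgebra I))) =
    Ideal.span ((GR I 1 : AddSubgroup (reesAlgebra I)) : Set (reesAlgebra I)) := by
  refine le_antisymm (Ideal.span_le.2 ?_)
    (Ideal.span_mono fun x hx => Set.mem_iUnion₂.2 ⟨1, Set.mem_Ioi.2 zero_lt_one, hx⟩)
  intro f hf
  obtain ⟨n, hn, hfn⟩ := Set.mem_iUnion₂.1 hf
  have hn' : (0 : ℤ) < n := hn
  obtain ⟨k, rfl⟩ : ∃ k : ℕ, n = ((k + 1 : ℕ) : ℤ) := ⟨(n - 1).toNat, by omega⟩
  have heq : (f : A[X]) = monomial (k + 1) ((f : A[X]).coeff (k + 1)) := Polynomial.ext fun m => by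
    rw [coeff_monomial]
    split_ifs with h
    · rw [h]
    · exact (Rees.mem_degZ_iff (reesAlgebra I) _ f).1 hfn m (by omega)
  have h := mem_span_deg_one I k ((f : A[X]).coeff (k + 1)) (f.2 (k + 1))
  exact (Subtype.ext heq.symm : (⟨monomial (k + 1) _, _⟩ : reesAlgebra I) = f) ▸ h

/-- The irrelevant ideal. -/
noncomputable abbrev irr : HomogeneousIdeal (GR I) :=
  GrothGr.hagr (Rees.degZ (reesAlgebra I)) (GrSyz.irrel (Rees.degZ (reesAlgebra I)))

theorem irr_toIdeal : (irr I).toIdeal =
    Ideal.span (⋃ n ∈ Set.Ioi (0 : ℤ), ((GR I n : AddSubgroup (reesAlgebra I)) : Set (reesAlgebra I))) := by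
  refine congrArg Ideal.span ?_
  ext r
  rw [Set.mem_iUnion₂]
  exact ⟨fun ⟨n, hn, hr⟩ => ⟨n, hn, hr⟩, fun ⟨n, hn, hr⟩ => ⟨n, hn, hr⟩⟩

theorem coeff_zero_of_mem_irr {r : reesAlgebra I} (hr : r ∈ (irr I).toIdeal) : (r : A[X]).coeff 0 = 0 := by
  have hle : (irr I).toIdeal ≤ RingHom.ker ((Polynomial.constantCoeff : A[X] →+* A).comp
      (reesAlgebra I).val.toRingHom) := by
    rw [irr_toIdeal, Ideal.span_le]
    intro f hf
    obtain ⟨n, hn, hfn⟩ := Set.mem_iUnion₂.1 hf
    have hn' : (0 : ℤ) < n := hn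
    exact (Rees.mem_degZ_iff (reesAlgebra I) n f).1 hfn 0 (by omega)
  exact hle hr

variable {I M}

theorem coeff_pr (g : ℤ) (x : MS I M) (m : ℕ) :
    ((pr (MG I M) g x : MS I M) : PolynomialModule A M).coeff m =
      if (m : ℤ) = g then (x : PolynomialModule A M).coeff m else 0 := by
  induction x using DirectSum.Decomposition.inductionOn (MG I M) with
  | zero => simp
  | @homogeneous i y =>
    by_cases h : i = g
    · subst h
      rw [pr_of_mem _ y.2]
      split_ifs with hm
      · rfl
      · exact y.2 m hm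
    · rw [show pr (MG I M) g (y : MS I M) = 0 by
        rw [pr_apply]; exact decompose_of_mem_ne (MG I M) y.2 h]
      split_ifs with hm
      · exact (y.2 m (show (m : ℤ) ≠ i from hm ▸ Ne.symm h)).symm
      · rfl
  | add x y hx hy =>
    rw [map_add, Submodule.coe_add, PolynomialModule.coeff_add, Finsupp.add_apply, hx, hy,
      Submodule.coe_add, PolynomialModule.coeff_add, Finsupp.add_apply]
    split_ifs <;> simp

theorem coeff_deg0_smul (c : GrLC.deg0 (GR I)) (x : MS I M) (m : ℕ) :
    (((c : reesAlgebra I) • x : MS I M) : PolynomialModule A M).coeff m =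
      ((c : reesAlgebra I) : A[X]).coeff 0 • (x : PolynomialModule A M).coeff m := by
  rw [Submodule.coe_smul, Subalgebra.smul_def, PolynomialModule.smul_apply,
    Finset.sum_eq_single (0, m)]
  · rintro ⟨p, q⟩ hpq hne
    have hp : p ≠ 0 := by
      rintro rfl
      rw [Finset.mem_antidiagonal, zero_add] at hpq
      exact hne (Prod.ext rfl hpq)
    rw [(Rees.mem_degZ_iff (reesAlgebra I) 0 (c : reesAlgebra I)).1 c.2 p (by simpa using hp), zero_smul]
  · intro h
    exact absurd (Finset.mem_antidiagonal.2 (zero_add m)) h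

variable (I M)

/-- `⊕ I^{n+1}M` inside the Rees module. -/
noncomputable def NS : Submodule (reesAlgebra I) (MS I M) where
  carrier := {x | ∀ m : ℕ, (x : PolynomialModule A M).coeff m ∈ I ^ (m + 1) • (⊤ : Submodule A M)}
  zero_mem' m := by simp
  add_mem' {x y} hx hy m := by
    rw [Submodule.coe_add, PolynomialModule.coeff_add, Finsupp.add_apply]
    exact add_mem (hx m) (hy m)
  smul_mem' r x hx m := by
    rw [Submodule.coe_smul, Subalgebra.smul_def, PolynomialModule.smul_apply]
    refine Submodule.sum_mem _ fun p hp => ?_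
    rw [Finset.mem_antidiagonal] at hp
    rw [show m + 1 = p.1 + (p.2 + 1) by omega, pow_add, mul_smul]
    exact Submodule.smul_mem_smul (r.2 p.1) (hx p.2)

variable {I M}

theorem mem_NS {x : MS I M} : x ∈ NS I M ↔
    ∀ m : ℕ, (x : PolynomialModule A M).coeff m ∈ I ^ (m + 1) • (⊤ : Submodule A M) := Iff.rfl

theorem isHomogeneous_NS : (NS I M).IsHomogeneous (MG I M) := by
  intro g x hx m
  rw [← pr_apply, coeff_pr]
  split_ifs
  · exact hx m
  · exact zero_mem _

theorem mem_powFilt {n : ℕ} {y : M} : y ∈ (Rees.powFilt I M).N n ↔ y ∈ I ^ n • (⊤ : Submodule A M) :=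
  Iff.rfl

theorem mem_MS {y : PolynomialModule A M} :
    y ∈ MS I M ↔ ∀ n, y.coeff n ∈ I ^ n • (⊤ : Submodule A M) := Iff.rfl

theorem coeff_X_smul (y : PolynomialModule A M) (m : ℕ) :
    ((monomial 1 (1 : A)) • y).coeff m = if 1 ≤ m then y.coeff (m - 1) else 0 := by
  rw [PolynomialModule.monomial_smul_apply]
  simp

variable (I M)

/-- Multiplication by `X`, from `⊕ I^{n+1}M` to the Rees module; it raises degrees by one. -/
noncomputable def mulX : NS I M →ₗ[reesAlgebra I] MS I M where
  toFun x := ⟨monomial 1 (1 : A) • ((x : MS I M) : PolynomialModule A M), fun m => by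
    rw [coeff_X_smul]
    split_ifs with h
    · have := x.2 (m - 1)
      rw [Nat.sub_add_cancel h] at this
      exact this
    · exact zero_mem _⟩
  map_add' x y := Subtype.ext (smul_add _ _ _)
  map_smul' r x := Subtype.ext (by
    show monomial 1 (1 : A) • ((r : A[X]) • ((x : MS I M) : PolynomialModule A M)) =
      (r : A[X]) • (monomial 1 (1 : A) • ((x : MS I M) : PolynomialModule A M))
    rw [smul_comm])

variable {I M}

theorem coeff_mulX (x : NS I M) (m : ℕ) : ((mulX I M x : MS I M) : PolynomialModule A M).coeff m =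
    if 1 ≤ m then ((x : MS I M) : PolynomialModule A M).coeff (m - 1) else 0 :=
  coeff_X_smul _ m

theorem mulX_injective : Function.Injective (mulX I M) := by
  intro x y h
  refine Subtype.ext (Subtype.ext (PolynomialModule.ext (Finsupp.ext fun m => ?_)))
  have h1 := congrArg (fun z : MS I M => (z : PolynomialModule A M).coeff (m + 1)) h
  simpa [coeff_mulX] using h1

theorem mulX_grHom : IsGrHom (shiftPc (subPc (MG I M) (NS I M)) 1) (MG I M) (mulX I M) := by
  intro j x hx m hm
  rw [coeff_mulX]
  split_ifs with h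
  · exact hx (m - 1) (show (((m - 1 : ℕ) : ℤ)) ≠ j - 1 from fun he => hm (show (m : ℤ) = j by omega))
  · rfl

theorem mem_range_mulX {x : MS I M} (h : (x : PolynomialModule A M).coeff 0 = 0) :
    x ∈ LinearMap.range (mulX I M) := by
  have hinj : Set.InjOn Nat.succ (Nat.succ ⁻¹' ↑(x : PolynomialModule A M).coeff.support) :=
    Nat.succ_injective.injOn
  let y : PolynomialModule A M :=
    PolynomialModule.ofCoeff A ((x : PolynomialModule A M).coeff.comapDomain Nat.succ hinj)
  have hy : ∀ m, y.coeff m = (x : PolynomialModule A M).coeff (m + 1) := fun m => Finsupp.comapDomain_apply ..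
  have hyM : y ∈ MS I M := fun m => by
    rw [hy]
    exact Submodule.smul_mono_left (Ideal.pow_le_pow_right (Nat.le_succ m)) (x.2 (m + 1))
  refine ⟨⟨⟨y, hyM⟩, fun m => by rw [hy]; exact x.2 (m + 1)⟩, Subtype.ext (PolynomialModule.ext (Finsupp.ext fun m => ?_))⟩
  rw [coeff_mulX]
  split_ifs with hm
  · show y.coeff (m - 1) = _
    rw [hy, Nat.sub_add_cancel hm]
  · obtain rfl : m = 0 := by omega
    exact h.symm

theorem isHomogeneous_range_mulX : (LinearMap.range (mulX I M)).IsHomogeneous (MG I M) := by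
  rintro g _ ⟨x, rfl⟩
  refine mem_range_mulX ?_
  rw [← pr_apply, coeff_pr, coeff_mulX]
  simp

theorem smul_mem_range_mulX {r : reesAlgebra I} (hr : r ∈ (irr I).toIdeal) (x : MS I M) :
    r • x ∈ LinearMap.range (mulX I M) := by
  refine mem_range_mulX ?_
  rw [Submodule.coe_smul, Subalgebra.smul_def, PolynomialModule.smul_apply]
  simp [coeff_zero_of_mem_irr I hr]

end GrothGr.ReesParts
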