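import Groth.Agent.GrMod.ReesParts
import Groth.Agent.GrMod.EulerIrrelevant
import Groth.Agent.GrMod.EulerLES
import Mathlib.RingTheory.KrullDimension.Polynomial
import Mathlib.RingTheory.Ideal.KrullsHeightTheorem
import Mathlib.RingTheory.HopkinsLevitzki

/-!
# The Hilbert–Samuel function against the local cohomology of the Rees module

Helper library (no milestone statements here).
-/

universe u

open DirectSum GrLC Polynomial

set_option maxSynthPendingDepth 4

namespace GrothGr.ReesParts

variable {A : Type u} [CommRing A] {I : Ideal A} {M : Type u} [AddCommGroup M] [Module A M]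

theorem isArtinianRing_quot [IsNoetherianRing A] [IsLocalRing A]
    (hI : I.radical = IsLocalRing.maximalIdeal A) : IsArtinianRing (A ⧸ I) := by
  rw [isArtinianRing_iff_isNoetherianRing_krullDimLE_zero]
  refine ⟨inferInstance, Ring.krullDimLE_zero_iff.2 fun P hP => ?_⟩
  have hle : IsLocalRing.maximalIdeal A ≤ P.comap (Ideal.Quotient.mk I) := by
    rw [← hI, Ideal.IsRadical.radical_le_iff (hP.comap _).isRadical]
    intro x hx
    rw [Ideal.mem_comap, Ideal.Quotient.eq_zero_iff_mem.2 hx]
    exact zero_mem _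
  have heq : P.comap (Ideal.Quotient.mk I) = IsLocalRing.maximalIdeal A :=
    ((IsLocalRing.maximalIdeal.isMaximal A).eq_of_le (hP.comap _).ne_top hle).symm
  haveI : (P.comap (Ideal.Quotient.mk I)).IsMaximal := by
    rw [heq]; infer_instance
  rw [← Ideal.map_comap_of_surjective (Ideal.Quotient.mk I) Ideal.Quotient.mk_surjective P]
  refine (Ideal.map_eq_top_or_isMaximal_of_surjective (Ideal.Quotient.mk I) Ideal.Quotient.mk_surjective
    (I := P.comap (Ideal.Quotient.mk I)) inferInstance).resolve_left ?_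
  rw [Ideal.map_comap_of_surjective (Ideal.Quotient.mk I) Ideal.Quotient.mk_surjective P]
  exact hP.ne_top

variable (I) in
/-- The constant coefficient on `R(I)_0`. -/
noncomputable def φ0 : GrLC.deg0 (GR I) →+* A :=
  ((Polynomial.constantCoeff : A[X] →+* A).comp (reesAlgebra I).val.toRingHom).comp
    (GrLC.deg0 (GR I)).subtype

theorem φ0_apply (c : GrLC.deg0 (GR I)) : φ0 I c = ((c : reesAlgebra I) : A[X]).coeff 0 := rfl

theorem φ0_surjective : Function.Surjective (φ0 I) := by
  intro a
  refine ⟨⟨algebraMap A (reesAlgebra I) a, (Rees.mem_degZ_iff (reesAlgebra I) 0 _).2 fun m hm => ?_⟩, ?_⟩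
  · show (Polynomial.C a).coeff m = 0
    rw [coeff_C, if_neg (by simpa using hm)]
  · show (Polynomial.C a).coeff 0 = a
    rw [coeff_C, if_pos rfl]

variable (I) in
/-- The ideal of `R(I)_0` corresponding to `I`. -/
noncomputable def J0 : Ideal (GrLC.deg0 (GR I)) := RingHom.ker ((Ideal.Quotient.mk I).comp (φ0 I))

theorem isArtinianRing_quot_J0 [IsNoetherianRing A] [IsLocalRing A]
    (hI : I.radical = IsLocalRing.maximalIdeal A) : IsArtinianRing (GrLC.deg0 (GR I) ⧸ J0 I) := by
  haveI := isArtinianRing_quot hI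
  have hs : Function.Surjective ((Ideal.Quotient.mk I).comp (φ0 I)) :=
    Ideal.Quotient.mk_surjective.comp φ0_surjective
  exact (RingHom.quotientKerEquivOfSurjective hs).symm.surjective.isArtinianRing
    (f := (RingHom.quotientKerEquivOfSurjective hs).symm.toRingHom)

theorem killed_J0 : IrrEuler.Killed (𝒜 := GR I) (J0 I) (MS I M ⧸ NS I M) := by
  intro c hc x
  obtain ⟨x, rfl⟩ := Submodule.Quotient.mk_surjective _ x
  rw [← Submodule.Quotient.mk_smul, Submodule.Quotient.mk_eq_zero]
  intro m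
  rw [coeff_deg0_smul, pow_succ', mul_smul]
  exact Submodule.smul_mem_smul (Ideal.Quotient.eq_zero_iff_mem.1 (show Ideal.Quotient.mk I (φ0 I c) = 0 from hc))
    (x.2 m)

instance finite_MS [IsNoetherianRing A] [Module.Finite A M] : Module.Finite (reesAlgebra I) (MS I M) :=
  Module.Finite.iff_fg.2 ((Ideal.Filtration.submodule_fg_iff_stable _ fun _ => IsNoetherian.noetherian _).2
    (Ideal.stableFiltration_stable I ⊤))

variable (I M) in
/-- `I^n M / I^{n+1} M` inside `M / I^{n+1} M`. -/
noncomputable def WS (n : ℕ) : Submodule A (M ⧸ (I ^ (n + 1) • (⊤ : Submodule A M))) :=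
  (I ^ n • (⊤ : Submodule A M)).map (I ^ (n + 1) • (⊤ : Submodule A M)).mkQ

theorem length_WS_ne_top [IsNoetherianRing A] [IsLocalRing A]
    (hI : I.radical = IsLocalRing.maximalIdeal A) [Module.Finite A M] (n : ℕ) :
    Module.length A (WS I M n) ≠ ⊤ := by
  haveI := isArtinianRing_quot hI
  refine IrrEuler.length_ne_top_of_killed I fun c hc x => ?_
  obtain ⟨_, y, hy, rfl⟩ := x
  refine Subtype.ext ?_
  show c • Submodule.Quotient.mk y = 0
  rw [← Submodule.Quotient.mk_smul, Submodule.Quotient.mk_eq_zero, pow_succ', mul_smul]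
  exact Submodule.smul_mem_smul hc hy

theorem length_succ (n : ℕ) :
    Module.length A (M ⧸ (I ^ (n + 1) • (⊤ : Submodule A M))) =
      Module.length A (WS I M n) + Module.length A (M ⧸ (I ^ n • (⊤ : Submodule A M))) := by
  have hle : I ^ (n + 1) • (⊤ : Submodule A M) ≤ I ^ n • (⊤ : Submodule A M) :=
    Submodule.smul_mono_left (Ideal.pow_le_pow_right (Nat.le_succ n))
  have hs : Function.Surjective (Submodule.factor hle) := Submodule.factor_surjective hle
  have hk : LinearMap.ker (Submodule.factor hle) = WS I M n := by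
    ext x
    obtain ⟨x, rfl⟩ := Submodule.Quotient.mk_surjective _ x
    rw [LinearMap.mem_ker]
    refine ⟨fun h => ⟨x, (Submodule.Quotient.mk_eq_zero _).1 h, rfl⟩, ?_⟩
    rintro ⟨y, hy, hxy⟩
    rw [← hxy]
    exact (Submodule.Quotient.mk_eq_zero _).2 hy
  rw [GrothGr.length_ker_add_range (Submodule.factor hle), hk, LinearMap.range_eq_top.2 hs, Module.length_top]

theorem length_quot_ne_top [IsNoetherianRing A] [IsLocalRing A]
    (hI : I.radical = IsLocalRing.maximalIdeal A) [Module.Finite A M] :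
    ∀ n : ℕ, Module.length A (M ⧸ (I ^ n • (⊤ : Submodule A M))) ≠ ⊤
  | 0 => by
    haveI : Subsingleton (M ⧸ (I ^ 0 • (⊤ : Submodule A M))) :=
      Submodule.Quotient.subsingleton_iff.2 (by rw [pow_zero, one_smul])
    rw [Module.length_eq_zero_iff.2 inferInstance]
    exact ENat.zero_ne_top
  | n + 1 => by
    rw [length_succ]
    exact WithTop.add_ne_top.2 ⟨length_WS_ne_top hI n, length_quot_ne_top hI n⟩

theorem plen_gr [Decomposition (quotPc (MG I M) (NS I M))]
    [SetLike.GradedSMul (GR I) (quotPc (MG I M) (NS I M))] (n : ℕ) :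
    plen (GR I) (quotPc (MG I M) (NS I M)) (n : ℤ) = Module.length A (WS I M n) := by
  letI : Algebra (GrLC.deg0 (GR I)) A := (φ0 I).toAlgebra
  letI : Module (GrLC.deg0 (GR I)) (WS I M n) := Module.compHom _ (φ0 I)
  haveI : IsScalarTower (GrLC.deg0 (GR I)) A (WS I M n) := ⟨fun c a w => mul_smul (φ0 I c) a w⟩
  rw [← Module.length_eq_of_surjective (S := GrLC.deg0 (GR I)) (R := A) (M := WS I M n) φ0_surjective]
  let q : GrLC.comp (GR I) (MG I M) (n : ℤ) →ₗ[GrLC.deg0 (GR I)]
      GrLC.comp (GR I) (quotPc (MG I M) (NS I M)) (n : ℤ) :=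
    ((NS I M).mkQ.restrictScalars (GrLC.deg0 (GR I))).restrict fun x hx =>
      mkQ_isGrHom (MG I M) (NS I M) _ x hx
  let g : GrLC.comp (GR I) (MG I M) (n : ℤ) →ₗ[GrLC.deg0 (GR I)] WS I M n :=
    { toFun := fun x => ⟨Submodule.Quotient.mk (((x : MS I M) : PolynomialModule A M).coeff n),
        _, (x : MS I M).2 n, rfl⟩
      map_add' := fun x y => Subtype.ext rfl
      map_smul' := fun c x => by
        refine Subtype.ext ?_
        show Submodule.Quotient.mk ((((c : reesAlgebra I) • (x : MS I M) : MS I M) :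
          PolynomialModule A M).coeff n) = φ0 I c • Submodule.Quotient.mk _
        rw [coeff_deg0_smul, φ0_apply, Submodule.Quotient.mk_smul] }
  have hq : Function.Surjective q := by
    rintro ⟨_, y, hy, rfl⟩
    exact ⟨⟨y, hy⟩, rfl⟩
  have hg : Function.Surjective g := by
    rintro ⟨_, y, hy, rfl⟩
    have hmem : PolynomialModule.single A n y ∈ MS I M := fun m => by
      rw [PolynomialModule.coeff_single, Finsupp.single_apply]
      split_ifs with h
      · subst h; exact hy
      · exact zero_mem _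
    refine ⟨⟨⟨PolynomialModule.single A n y, hmem⟩, fun m hm => ?_⟩, Subtype.ext ?_⟩
    · show (PolynomialModule.single A n y).coeff m = 0
      rw [PolynomialModule.coeff_single, Finsupp.single_apply, if_neg]
      rintro rfl
      exact hm rfl
    · show Submodule.Quotient.mk ((PolynomialModule.single A n y).coeff n) = _
      rw [PolynomialModule.coeff_single, Finsupp.single_eq_same]
      rfl
  have hker : LinearMap.ker q = LinearMap.ker g := by
    ext x
    constructor
    · intro hx
      have h := (Submodule.Quotient.mk_eq_zero (NS I M)).1 (congrArg Subtype.val hx)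
      exact Subtype.ext ((Submodule.Quotient.mk_eq_zero _).2 (h n))
    · intro hx
      have h := (Submodule.Quotient.mk_eq_zero _).1 (congrArg Subtype.val hx)
      refine Subtype.ext ((Submodule.Quotient.mk_eq_zero (NS I M)).2 fun m => ?_)
      by_cases hm : m = n
      · subst hm; exact h
      · show ((x : MS I M) : PolynomialModule A M).coeff m ∈ _
        rw [x.2 m (show (m : ℤ) ≠ n by exact_mod_cast hm)]
        exact zero_mem _
  exact ((q.quotKerEquivOfSurjective hq).symm.trans
    ((Submodule.quotEquivOfEq _ _ hker).trans (g.quotKerEquivOfSurjective hg))).length_eq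

theorem exists_supportDim_le [IsNoetherianRing A] [IsLocalRing A] (N : Type u) [AddCommGroup N]
    [Module (reesAlgebra I) N] :
    ∃ d : ℕ, Module.supportDim (reesAlgebra I) N ≤ (d : WithBot ℕ∞) := by
  obtain ⟨s, f, hf⟩ := Algebra.FiniteType.iff_quotient_mvPolynomial''.1
    (inferInstance : Algebra.FiniteType A (reesAlgebra I))
  obtain ⟨e, he⟩ : ∃ e : ℕ, ringKrullDim A ≤ (e : WithBot ℕ∞) := by
    have h1 : ringKrullDim A ≠ ⊤ := ringKrullDim_ne_top
    have h2 : ringKrullDim A ≠ ⊥ := ringKrullDim_ne_bot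
    obtain ⟨c, hc⟩ := WithBot.ne_bot_iff_exists.1 h2
    cases c with
    | top => exact absurd hc.symm h1
    | coe k => exact ⟨k, hc.symm.le⟩
  refine ⟨e + s, (Module.supportDim_le_ringKrullDim (reesAlgebra I) N).trans
    ((ringKrullDim_le_of_surjective f.toRingHom hf).trans ?_)⟩
  rw [MvPolynomial.ringKrullDim_of_isNoetherianRing, Nat.card_eq_fintype_card, Fintype.card_fin, Nat.cast_add]
  exact add_le_add he le_rfl

variable [IsNoetherianRing A]

theorem Hgr_torsion_quot_eq_bot [Decomposition (quotPc (MG I M) (LinearMap.range (mulX I M)))]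
    [SetLike.GradedSMul (GR I) (quotPc (MG I M) (LinearMap.range (mulX I M)))]
    (EC : StarInjRes (GR I) (quotPc (MG I M) (LinearMap.range (mulX I M)))) {j : ℤ} (hj : 0 < j) (i : ℕ) :
    EC.Hgr (irr I) i j = ⊥ := by
  have htor : gam (irr I).toIdeal (MS I M ⧸ LinearMap.range (mulX I M)) = ⊤ := by
    refine eq_top_iff.2 fun x _ => ⟨1, fun r hr => ?_⟩
    obtain ⟨x, rfl⟩ := Submodule.Quotient.mk_surjective _ x
    rw [pow_one] at hr
    rw [← Submodule.Quotient.mk_smul, Submodule.Quotient.mk_eq_zero]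
    exact smul_mem_range_mulX hr x
  cases i with
  | zero =>
    obtain ⟨e, he⟩ := exists_H_zero_equiv EC (irr I)
    letI := (subPc_isInternal (quotPc (MG I M) (LinearMap.range (mulX I M)))
      (isHomogeneous_gam (GR I) (quotPc (MG I M) (LinearMap.range (mulX I M))) (irr I).isHomogeneous)).chooseDecomposition
    haveI := subPc_gradedSMul (GR I) (quotPc (MG I M) (LinearMap.range (mulX I M)))
      (gam (irr I).toIdeal (MS I M ⧸ LinearMap.range (mulX I M)))
    letI := (Hgr_isInternal (GR I) _ EC (irr I) 0).chooseDecomposition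
    haveI := Hgr_gradedSMul (GR I) EC (irr I) 0
    refine (eq_bot_of_grEquiv e he).1 (eq_bot_iff.2 ?_)
    rintro ⟨_, _⟩ ⟨y, hy, hyx⟩
    refine AddSubgroup.mem_bot.2 (Subtype.ext ?_)
    show _ = (0 : MS I M ⧸ LinearMap.range (mulX I M))
    refine hyx.symm.trans ((Submodule.Quotient.mk_eq_zero _).2 (mem_range_mulX ?_))
    exact hy 0 (show ((0 : ℕ) : ℤ) ≠ j by omega)
  | succ k =>
    haveI := subsingleton_Hrep_of_torsion EC (irr I) htor k
    exact (AddSubgroup.eq_bot_iff_forall _).2 fun x _ => Subsingleton.elim _ _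

variable [IsLocalRing A] [Module.Finite A M]

/-- The Hilbert–Samuel function differs from the polynomial by the Euler characteristic of `H_{R₊}(M*)`. -/
theorem sub_length_eq (hI : I.radical = IsLocalRing.maximalIdeal A) (P : Polynomial ℚ)
    (hP : ∃ N : ℕ, ∀ n : ℕ, N ≤ n →
      P.eval (n : ℚ) = ((Module.length A (M ⧸ (I ^ n • (⊤ : Submodule A M)))).toNat : ℚ))
    (E : StarInjRes (GR I) (MG I M)) :
    ∃ K : ℕ, (∀ (i : ℕ) (j : ℤ), K < i → E.Hcomp (irr I) i j = ⊥) ∧ ∀ n : ℕ,
      (∀ i, Module.length (GrLC.deg0 (GR I)) (E.Hcomp (irr I) i n) ≠ ⊤) ∧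
        P.eval (n : ℚ) - ((Module.length A (M ⧸ (I ^ n • (⊤ : Submodule A M)))).toNat : ℚ) =
          (chiH E (irr I) K n : ℚ) := by
  classical
  haveI := isArtinianRing_quot_J0 hI
  obtain ⟨N₀, hN₀⟩ := hP
  letI := (subPc_isInternal (MG I M) (isHomogeneous_NS (I := I) (M := M))).chooseDecomposition
  haveI := subPc_gradedSMul (GR I) (MG I M) (NS I M)
  letI := (quotPc_isInternal (MG I M) (isHomogeneous_NS (I := I) (M := M))).chooseDecomposition
  haveI := quotPc_gradedSMul (GR I) (MG I M) (NS I M)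
  letI := (quotPc_isInternal (MG I M) (isHomogeneous_range_mulX (I := I) (M := M))).chooseDecomposition
  haveI := quotPc_gradedSMul (GR I) (MG I M) (LinearMap.range (mulX I M))
  let EG := starRes (GR I) (quotPc (MG I M) (NS I M))
  let ET := starRes (GR I) (quotPc (MG I M) (LinearMap.range (mulX I M)))
  obtain ⟨c, hc⟩ := Groth.LocCohBase.exists_cdLE (irr I).toIdeal
  obtain ⟨d, hd⟩ := exists_supportDim_le (I := I) (MS I M ⧸ NS I M)
  let K := max c d
  have hvan : ∀ (N : Type u) [AddCommGroup N] [Module (reesAlgebra I) N] (i : ℕ), K < i →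
      Subsingleton (LocCoh.H (irr I).toIdeal i N) := fun N _ _ i hi =>
    hc N i (lt_of_le_of_lt (le_max_left c d) hi)
  refine ⟨K, fun i j hi => ?_, ?_⟩
  · obtain ⟨e⟩ := nonempty_H_equiv (GR I) (MG I M) (irr I) E i
    haveI := hvan (MS I M) i hi
    haveI : Subsingleton (E.H (irr I) i) := e.toEquiv.subsingleton
    exact Subsingleton.elim _ _
  have hG : ∀ (n : ℕ) (i : ℕ), Module.length (GrLC.deg0 (GR I)) (EG.Hcomp (irr I) i n) ≠ ⊤ :=
    fun n i => IrrEuler.length_Hcomp_ne_top (hpos I) (irr_toIdeal I) EG killed_J0 i n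
  obtain ⟨⟨r, hr⟩, htel⟩ := chiH_telescope (hpos I) (irr I) (irr_toIdeal I) (NS I M) (mulX I M)
    mulX_grHom mulX_injective E EG ET K hvan hG (fun j hj i => Hgr_torsion_quot_eq_bot ET hj i)
  -- Serre's formula for `gr_I M`
  let PG : ℚ[X] := P.comp (Polynomial.X + Polynomial.C 1) - P
  have hL : ∀ n : ℕ, ((Module.length A (M ⧸ (I ^ (n + 1) • (⊤ : Submodule A M)))).toNat : ℚ) =
      ((plen (GR I) (quotPc (MG I M) (NS I M)) (n : ℤ)).toNat : ℚ) +
        ((Module.length A (M ⧸ (I ^ n • (⊤ : Submodule A M)))).toNat : ℚ) := by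
    intro n
    rw [length_succ, ENat.toNat_add (length_WS_ne_top hI n) (length_quot_ne_top hI n), plen_gr]
    push_cast
    rfl
  have hPG : ∀ n : ℕ, PG.eval (n : ℚ) = P.eval (((n + 1 : ℕ) : ℚ)) - P.eval (n : ℚ) := fun n => by
    simp [PG, Polynomial.eval_comp]
  have hserre : ∀ n : ℕ, PG.eval (n : ℚ) =
      ((plen (GR I) (quotPc (MG I M) (NS I M)) (n : ℤ)).toNat : ℚ) - (chiH EG (irr I) K n : ℚ) := by
    intro n
    have h := IrrEuler.hilbert_sub_eq (hpos I) (irr_toIdeal I) (hstd I) K EG
      (hd.trans (by exact_mod_cast le_max_right c d)) killed_J0 PG ⟨(N₀ : ℤ), fun j hj => by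
        obtain ⟨k, rfl⟩ : ∃ k : ℕ, j = (k : ℤ) := ⟨j.toNat, by omega⟩
        rw [Int.cast_natCast, hPG, hN₀ (k + 1) (by omega), hN₀ k (by omega), hL]
        ring⟩ (n : ℤ)
    rw [Int.cast_natCast] at h
    rw [h]
    simp only [eul, chiH]
    push_cast
    ring
  let F : ℕ → ℚ := fun n => P.eval (n : ℚ) - ((Module.length A (M ⧸ (I ^ n • (⊤ : Submodule A M)))).toNat : ℚ) -
    (chiH E (irr I) K n : ℚ)
  have hFsucc : ∀ n : ℕ, F (n + 1) = F n := by
    intro n
    have h2 := (htel n).2
    have h3 := hserre n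
    rw [hPG] at h3
    simp only [F, h2, hL n]
    push_cast at h3 ⊢
    linarith
  have hF0 : ∀ n : ℕ, N₀ ≤ n → r ≤ n → F n = 0 := by
    intro n h1 h2
    simp only [F]
    rw [hN₀ n h1, sub_self, zero_sub, neg_eq_zero, Int.cast_eq_zero]
    exact hr n h2
  have hFconst : ∀ t n : ℕ, F (n + t) = F n := by
    intro t
    induction t with
    | zero => exact fun n => rfl
    | succ t ih => exact fun n => (hFsucc (n + t)).trans (ih n)
  intro n
  refine ⟨(htel n).1, ?_⟩
  have := hFconst (N₀ + r) n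
  rw [hF0 _ (by omega) (by omega)] at this
  simp only [F] at this
  linarith

end GrothGr.ReesParts
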