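import Groth.Agent.GrMod.Bass
import Groth.Agent.GrMod.StarInj

/-!
# Bass numbers and summands of *injective modules

Helper library (no milestone statements here).
-/

universe u

open DirectSum GrLC IsLocalRing TensorProduct

namespace GrothGr

variable {ι : Type} [AddCommGroup ι] [DecidableEq ι]
variable {R : Type u} [CommRing R] (𝒜 : ι → AddSubgroup R) [GradedRing 𝒜]
variable (P : Ideal R) [P.IsPrime]

local notation "A_P" => Localization.AtPrime P
local notation "J_P" => Ideal.map (algebraMap R (Localization.AtPrime P)) P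

/-- Essential submodules absorb the `P`-torsion up to elements outside `P`. -/
theorem exists_smul_mem_of_ess (hP : P.IsHomogeneous 𝒜) {N : Type u} [AddCommGroup N] [Module R N]
    (𝒩 : ι → AddSubgroup N) [Decomposition 𝒩] [SetLike.GradedSMul 𝒜 𝒩] (W : Submodule R N)
    (hW : ∀ Q : Submodule R N, Q.IsHomogeneous 𝒩 → Q ≠ ⊥ → Q ⊓ W ≠ ⊥) {x : N}
    (hx : x ∈ LocCoh.torsionBy P N) : ∃ s ∉ P, s • x ∈ W := by
  classical
  let T : Submodule R N :=
    { carrier := {y | ∃ s ∉ P, s • y ∈ W}
      zero_mem' := ⟨1, fun h => ‹P.IsPrime›.ne_top ((Ideal.eq_top_iff_one _).2 h), by simp⟩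
      add_mem' := by
        rintro y z ⟨r, hr, hy⟩ ⟨q, hq, hz⟩
        refine ⟨r * q, fun h => (‹P.IsPrime›.mem_or_mem h).elim hr hq, ?_⟩
        rw [smul_add]
        refine add_mem ?_ ?_
        · rw [mul_comm, mul_smul]; exact Submodule.smul_mem _ _ hy
        · rw [mul_smul]; exact Submodule.smul_mem _ _ hz
      smul_mem' := by
        rintro c y ⟨r, hr, hy⟩
        exact ⟨r, hr, by rw [smul_comm]; exact Submodule.smul_mem _ _ hy⟩ }
  show x ∈ T
  obtain ⟨S, -, hS⟩ := exists_sum_pr 𝒩 x
  rw [← hS]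
  refine sum_mem fun g _ => ?_
  have hy := pr_mem_of_isHomogeneous (isHomogeneous_torsionBy 𝒜 𝒩 hP) hx g
  rcases eq_or_ne (pr 𝒩 g x) 0 with h0 | h0
  · rw [h0]; exact zero_mem _
  obtain ⟨y, ⟨hyQ, hyW⟩, hy0⟩ := Submodule.exists_mem_ne_zero_of_ne_bot
    (hW _ (isHomogeneous_span_singleton 𝒜 (pr_mem 𝒩 g x)) (by simpa using h0))
  obtain ⟨r, rfl⟩ := Submodule.mem_span_singleton.1 hyQ
  exact ⟨r, fun hr => hy0 ((Submodule.mem_torsionBySet_iff _ _).1 hy ⟨r, hr⟩), hyW⟩

section Localized

variable {M N : Type u} [AddCommGroup M] [Module R M] [AddCommGroup N] [Module R N]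

theorem mk_mem_torsion {z : N} (hz : z ∈ LocCoh.torsionBy P N) (s : P.primeCompl) :
    LocalizedModule.mk z s ∈ LocCoh.torsionBy J_P (LocalizedModule P.primeCompl N) := by
  refine (Submodule.mem_torsionBySet_iff _ _).2 fun ⟨a, ha⟩ => ?_
  show a • LocalizedModule.mk z s = 0
  refine Submodule.span_induction (fun y hy => ?_) (zero_smul A_P _)
    (fun y y' _ _ h h' => by rw [add_smul, h, h', add_zero])
    (fun c y _ h => by rw [smul_eq_mul, mul_smul, h, smul_zero]) ha
  obtain ⟨r, hr, rfl⟩ := hy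
  rw [algebraMap_smul, LocalizedModule.smul'_mk,
    show r • z = 0 from (Submodule.mem_torsionBySet_iff _ _).1 hz ⟨r, hr⟩, LocalizedModule.zero_mk]

variable [IsNoetherianRing R]

theorem nonempty_torsion_equiv (g : M →ₗ[R] N) (hg : Function.Injective g)
    (h : ∀ x ∈ LocCoh.torsionBy P N, ∃ s ∉ P, s • x ∈ LinearMap.range g) :
    Nonempty (LocCoh.torsionBy J_P (LocalizedModule P.primeCompl M) ≃ₗ[A_P]
      LocCoh.torsionBy J_P (LocalizedModule P.primeCompl N)) := by
  let G := LocalizedModule.map P.primeCompl g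
  have hG : Function.Injective G := LocalizedModule.map_injective P.primeCompl g hg
  let G' : LocCoh.torsionBy J_P (LocalizedModule P.primeCompl M) →ₗ[A_P]
      LocCoh.torsionBy J_P (LocalizedModule P.primeCompl N) :=
    G.restrict fun x hx => (Submodule.mem_torsionBySet_iff _ _).2 fun r => by
      show (r : A_P) • G x = 0
      rw [← map_smul, (Submodule.mem_torsionBySet_iff _ _).1 hx r, map_zero]
  refine ⟨LinearEquiv.ofBijective G' ⟨fun a b hab => Subtype.ext (hG (congrArg Subtype.val hab)),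
    fun ⟨y, hy⟩ => ?_⟩⟩
  obtain ⟨z, t, rfl, hz⟩ := exists_clear P.primeCompl P (IsNoetherian.noetherian P) y hy
  obtain ⟨s, hs, w, hw⟩ := h z hz
  have hwt : w ∈ LocCoh.torsionBy P M := (Submodule.mem_torsionBySet_iff _ _).2 fun r =>
    hg (by rw [map_smul, hw, smul_comm, map_zero,
      show (r : R) • z = 0 from (Submodule.mem_torsionBySet_iff _ _).1 hz r, smul_zero])
  refine ⟨⟨LocalizedModule.mk w (⟨s, hs⟩ * t), mk_mem_torsion P hwt _⟩, Subtype.ext ?_⟩
  show G (LocalizedModule.mk w (⟨s, hs⟩ * t)) = LocalizedModule.mk z t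
  rw [LocalizedModule.map_mk, hw]
  exact LocalizedModule.mk_cancel_common_left (⟨s, hs⟩ : P.primeCompl) t z

theorem length_torsion_eq_card {κ : Type u} {b : κ → LocCoh.torsionBy P N}
    (hb : IsCoreBasis P P b) :
    Module.length A_P (LocCoh.torsionBy J_P (LocalizedModule P.primeCompl N)) = ENat.card κ := by
  obtain ⟨e⟩ := nonempty_localized_equiv hb (fun r hr n => Subtype.ext
    ((Submodule.mem_torsionBySet_iff _ _).1 n.2 ⟨r, hr⟩)) P le_rfl le_rfl
  let G := LocalizedModule.map P.primeCompl (LocCoh.torsionBy P N).subtype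
  have hG : Function.Injective G :=
    LocalizedModule.map_injective P.primeCompl _ (LocCoh.torsionBy P N).injective_subtype
  have hrange : LinearMap.range G = LocCoh.torsionBy J_P (LocalizedModule P.primeCompl N) := by
    refine le_antisymm ?_ fun y hy => ?_
    · rintro _ ⟨x, rfl⟩
      induction x using LocalizedModule.induction_on with
      | h m s =>
        rw [LocalizedModule.map_mk]
        exact mk_mem_torsion P m.2 s
    · obtain ⟨z, t, rfl, hz⟩ := exists_clear P.primeCompl P (IsNoetherian.noetherian P) y hy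
      exact ⟨LocalizedModule.mk ⟨z, hz⟩ t, LocalizedModule.map_mk (S := P.primeCompl) (LocCoh.torsionBy P N).subtype ⟨z, hz⟩ t⟩
  have hmax : J_P = maximalIdeal A_P := IsLocalization.AtPrime.map_eq_maximalIdeal _ _
  haveI : IsSimpleModule A_P (A_P ⧸ J_P) :=
    isSimpleModule_iff_isCoatom.2 (hmax ▸ (maximalIdeal.isMaximal A_P).out)
  refine ((e.trans ((LinearEquiv.ofInjective G hG).trans
    (LinearEquiv.ofEq _ _ hrange))).symm.length_eq).trans ?_
  rw [Module.length_finsupp, Module.length_eq_one, mul_one]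

theorem bassNum_eq_length_extQ (i : ℕ) :
    bassNum P M i = Module.length A_P (ExtQ J_P (LocalizedModule P.primeCompl M) i) := by
  have key : ∀ J : Ideal A_P, J = maximalIdeal A_P →
      bassNum P M i = Module.length A_P (ExtQ J (LocalizedModule P.primeCompl M) i) := by
    rintro J rfl
    rfl
  exact key _ (IsLocalization.AtPrime.map_eq_maximalIdeal _ _)

theorem bassNum_zero_eq_length :
    bassNum P M 0 = Module.length A_P (LocCoh.torsionBy J_P (LocalizedModule P.primeCompl M)) :=
  (bassNum_eq_length_extQ P 0).trans (extQZeroEquiv J_P _).length_eq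

end Localized

variable [IsNoetherianRing R]

/-- Summands of a *injective module count a core basis of its torsion. -/
theorem exists_summand_basis {E' : Type u} [AddCommGroup E'] [Module R E'] (𝓔 : ι → AddSubgroup E')
    [Decomposition 𝓔] [SetLike.GradedSMul 𝒜 𝓔] {Λ : Type u} (Q : Λ → HomogeneousIdeal 𝒜)
    (hQ : ∀ α, (Q α).toIdeal.IsPrime) (g : Λ → ι) (J : Λ → Submodule R E')
    (hJ : ∀ α, (J α).IsHomogeneous 𝓔) (hind : iSupIndep J) (htop : iSup J = ⊤)
    (f : ∀ α, (R ⧸ (Q α).toIdeal) →ₗ[R] E')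
    (hf : ∀ α, Function.Injective (f α) ∧ GrLC.IsGrHomDeg (GrLC.quotGr 𝒜 (Q α)) 𝓔 (f α) (g α) ∧
      LinearMap.range (f α) ≤ J α ∧ ∀ W : Submodule R E', W.IsHomogeneous 𝓔 → W ≤ J α → W ≠ ⊥ →
        W ⊓ LinearMap.range (f α) ≠ ⊥)
    (p : HomogeneousIdeal 𝒜) [p.toIdeal.IsPrime] :
    ∃ b : {α : Λ // Q α = p} → LocCoh.torsionBy p.toIdeal E', IsCoreBasis p.toIdeal p.toIdeal b := by
  classical
  let one : ∀ α, R ⧸ (Q α).toIdeal := fun α => Ideal.Quotient.mk _ 1
  have hfs : ∀ α (r : R), r • f α (one α) = f α (Ideal.Quotient.mk _ r) := fun α r => by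
    rw [← map_smul, Algebra.smul_def, Ideal.Quotient.algebraMap_eq, ← map_mul, mul_one]
  have hmem : ∀ α : {α : Λ // Q α = p}, f α.1 (one α.1) ∈ LocCoh.torsionBy p.toIdeal E' := by
    intro α
    refine (Submodule.mem_torsionBySet_iff _ _).2 fun r => ?_
    show (r : R) • f α.1 (one α.1) = 0
    rw [hfs, Ideal.Quotient.eq_zero_iff_mem.2 (by rw [α.2]; exact r.2), map_zero]
  refine ⟨fun α => ⟨_, hmem α⟩, ⟨fun c hc α => ?_, fun z => ?_⟩⟩
  · -- independence
    by_cases hα : α ∈ c.support
    · have hsum : ∑ β ∈ c.support, c β • f β.1 (one β.1) = 0 := by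
        have := congrArg Subtype.val hc
        rw [Finsupp.linearCombination_apply, Finsupp.sum, Submodule.coe_sum] at this
        exact this
      have hI := (iSupIndep_iff_finsetSum_eq_zero_imp_eq_zero J).1 hind (c.support.image Subtype.val)
        (fun β => if h : Q β = p then c ⟨β, h⟩ • f β (one β) else 0) ?_ ?_ α.1
        (Finset.mem_image_of_mem _ hα)
      · simp only [dif_pos α.2, Subtype.coe_eta] at hI
        rw [hfs, ← map_zero (f α.1)] at hI
        have := Ideal.Quotient.eq_zero_iff_mem.1 ((hf α.1).1 hI)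
        rwa [α.2] at this
      · intro β _
        split
        · exact Submodule.smul_mem _ _ ((hf β).2.2.1 (LinearMap.mem_range_self _ _))
        · exact zero_mem _
      · rw [Finset.sum_image fun a _ b _ h => Subtype.ext h, ← hsum]
        exact Finset.sum_congr rfl fun β _ => by rw [dif_pos β.2]
    · rw [Finsupp.notMem_support_iff.1 hα]
      exact zero_mem _
  · -- generation
    obtain ⟨z, hz⟩ := z
    let B : Submodule R E' :=
      Submodule.span R (Set.range fun α : {α : Λ // Q α = p} => f α.1 (one α.1))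
    suffices h : ∃ s ∉ p.toIdeal, s • z ∈ B by
      obtain ⟨s, hs, hsz⟩ := h
      refine ⟨s, hs, ?_⟩
      have himg : B = (Submodule.span R (Set.range fun α : {α : Λ // Q α = p} =>
          (⟨_, hmem α⟩ : LocCoh.torsionBy p.toIdeal E'))).map (LocCoh.torsionBy p.toIdeal E').subtype := by
        rw [Submodule.map_span, ← Set.range_comp]
        rfl
      rw [himg] at hsz
      obtain ⟨w, hw, hwz⟩ := hsz
      have : w = s • (⟨z, hz⟩ : LocCoh.torsionBy p.toIdeal E') := Subtype.ext hwz
      rwa [this] at hw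
    -- the summands outside `p` die
    let T : Submodule R E' :=
      { carrier := {y | ∃ s ∉ p.toIdeal, s • y ∈ B}
        zero_mem' := ⟨1, fun h => ‹p.toIdeal.IsPrime›.ne_top ((Ideal.eq_top_iff_one _).2 h), by simp⟩
        add_mem' := by
          rintro x y ⟨r, hr, hx⟩ ⟨q, hq, hy⟩
          refine ⟨r * q, fun h => (‹p.toIdeal.IsPrime›.mem_or_mem h).elim hr hq, ?_⟩
          rw [smul_add]
          refine add_mem ?_ ?_
          · rw [mul_comm, mul_smul]; exact Submodule.smul_mem _ _ hx
          · rw [mul_smul]; exact Submodule.smul_mem _ _ hy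
        smul_mem' := by
          rintro c x ⟨r, hr, hx⟩
          exact ⟨r, hr, by rw [smul_comm]; exact Submodule.smul_mem _ _ hx⟩ }
    show z ∈ T
    have hzt : z ∈ iSup J := htop ▸ Submodule.mem_top
    obtain ⟨c, hc, rfl⟩ := (Submodule.mem_iSup_iff_exists_finsupp J z).1 hzt
    refine sum_mem fun α hα => ?_
    have hcα : c α ∈ LocCoh.torsionBy p.toIdeal E' := by
      refine (Submodule.mem_torsionBySet_iff _ _).2 fun r => ?_
      refine (iSupIndep_iff_finsetSum_eq_zero_imp_eq_zero J).1 hind c.support (fun β => (r : R) • c β)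
        (fun β _ => Submodule.smul_mem _ _ (hc β)) ?_ α hα
      rw [← Finset.smul_sum]
      exact (Submodule.mem_torsionBySet_iff _ _).1 hz r
    -- homogeneous components
    obtain ⟨S, -, hS⟩ := exists_sum_pr 𝓔 (c α)
    show c α ∈ T
    rw [← hS]
    refine sum_mem fun j _ => ?_
    have hy := pr_mem_of_isHomogeneous (isHomogeneous_torsionBy 𝒜 𝓔 p.isHomogeneous) hcα j
    have hyJ := pr_mem_of_isHomogeneous (hJ α) (hc α) j
    have hann : ∀ r ∈ p.toIdeal, r • pr 𝓔 j (c α) = 0 := fun r hr =>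
      (Submodule.mem_torsionBySet_iff _ _).1 hy ⟨r, hr⟩
    set y := pr 𝓔 j (c α) with hydef
    by_cases hαp : Q α = p
    · rcases eq_or_ne y 0 with h0 | h0
      · rw [h0]; exact zero_mem _
      obtain ⟨_, ⟨hwy, w, rfl⟩, hw0⟩ := Submodule.exists_mem_ne_zero_of_ne_bot
        ((hf α).2.2.2 (R ∙ y) (isHomogeneous_span_singleton 𝒜 (pr_mem 𝓔 j _))
          ((Submodule.span_singleton_le_iff_mem _ _).2 hyJ) (by simpa using h0))
      obtain ⟨r, hr⟩ := Submodule.mem_span_singleton.1 hwy
      obtain ⟨a, rfl⟩ := Ideal.Quotient.mk_surjective w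
      refine ⟨r, fun h => hw0 (by rw [← hr, hann r h]), ?_⟩
      rw [hr, ← hfs]
      exact Submodule.smul_mem _ _ (Submodule.subset_span ⟨⟨α, hαp⟩, rfl⟩)
    · have h' : ∃ s ∉ p.toIdeal, s • y = 0 := by
        rcases eq_or_ne y 0 with h0 | h0
        · exact ⟨1, fun h => ‹p.toIdeal.IsPrime›.ne_top ((Ideal.eq_top_iff_one _).2 h), by simp [h0]⟩
        obtain ⟨_, ⟨hwy, w, rfl⟩, hw0⟩ := Submodule.exists_mem_ne_zero_of_ne_bot
          ((hf α).2.2.2 (R ∙ y) (isHomogeneous_span_singleton 𝒜 (pr_mem 𝓔 j _))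
            ((Submodule.span_singleton_le_iff_mem _ _).2 hyJ) (by simpa using h0))
        obtain ⟨r, hr⟩ := Submodule.mem_span_singleton.1 hwy
        obtain ⟨a, rfl⟩ := Ideal.Quotient.mk_surjective w
        have haQ : a ∉ (Q α).toIdeal := fun h =>
          hw0 (by rw [Ideal.Quotient.eq_zero_iff_mem.2 h, map_zero])
        have hle : p.toIdeal ≤ (Q α).toIdeal := fun x hx => by
          have h1 : f α (Ideal.Quotient.mk _ (x * a)) = 0 := by
            rw [map_mul, ← Ideal.Quotient.algebraMap_eq, ← Algebra.smul_def, map_smul,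
              Ideal.Quotient.algebraMap_eq, ← hr, smul_comm, hann x hx, smul_zero]
          exact ((hQ α).mem_or_mem (Ideal.Quotient.eq_zero_iff_mem.1
            ((hf α).1 (h1.trans (map_zero (f α)).symm)))).resolve_right haQ
        have hne : ¬ (Q α).toIdeal ≤ p.toIdeal := fun h =>
          hαp (HomogeneousIdeal.toIdeal_injective (le_antisymm h hle))
        obtain ⟨x, hx, hxp⟩ := SetLike.not_le_iff_exists.1 hne
        obtain ⟨i, hi⟩ : ∃ i, (decompose 𝒜 x i : R) ∉ p.toIdeal := by
          by_contra hcon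
          push Not at hcon
          exact hxp ((Ideal.IsHomogeneous.mem_iff 𝒜 p.isHomogeneous).2 hcon)
        set s := (decompose 𝒜 x i : R) with hsdef
        have hs : s ∈ (Q α).toIdeal := (Q α).isHomogeneous i hx
        have hdeg : s ∈ 𝒜 i := (decompose 𝒜 x i).2
        -- the kernels of the powers of `s` stabilize on `R y`
        let K : ℕ →o Ideal R := ⟨fun n => Submodule.colon (⊥ : Submodule R E') {s ^ n • y}, by
          refine monotone_nat_of_le_succ fun n r hr => ?_
          rw [Submodule.mem_colon_singleton, Submodule.mem_bot] at hr ⊢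
          rw [pow_succ', mul_smul, smul_comm, hr, smul_zero]⟩
        obtain ⟨n, hn⟩ := monotone_stabilizes_iff_noetherian.2 ‹IsNoetherianRing R› K
        refine ⟨s ^ n, fun h => hi (‹p.toIdeal.IsPrime›.mem_of_pow_mem n h), ?_⟩
        by_contra h0'
        have hhom : s ^ n • y ∈ 𝓔 (n • i + j) :=
          smul_mem 𝓔 𝒜 (SetLike.pow_mem_graded n hdeg) (pr_mem 𝓔 j _)
        obtain ⟨_, ⟨hwy', w', rfl⟩, hw0'⟩ := Submodule.exists_mem_ne_zero_of_ne_bot
          ((hf α).2.2.2 (R ∙ s ^ n • y) (isHomogeneous_span_singleton 𝒜 hhom)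
            ((Submodule.span_singleton_le_iff_mem _ _).2 (Submodule.smul_mem _ _ hyJ))
            (by simpa using h0'))
        obtain ⟨r', hr'⟩ := Submodule.mem_span_singleton.1 hwy'
        obtain ⟨a', rfl⟩ := Ideal.Quotient.mk_surjective w'
        have hsucc : r' ∈ K (n + 1) := by
          show r' ∈ Submodule.colon (⊥ : Submodule R E') {s ^ (n + 1) • y}
          rw [Submodule.mem_colon_singleton, Submodule.mem_bot, pow_succ', mul_smul, smul_comm, hr',
            ← map_smul, Algebra.smul_def, Ideal.Quotient.algebraMap_eq,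
            Ideal.Quotient.eq_zero_iff_mem.2 hs, zero_mul, map_zero]
        rw [← hn (n + 1) (Nat.le_succ n)] at hsucc
        have := (Submodule.mem_colon_singleton.1 hsucc :)
        rw [Submodule.mem_bot, hr'] at this
        exact hw0' this
      obtain ⟨s, hs, hsy⟩ := h'
      exact ⟨s, hs, by rw [hsy]; exact zero_mem _⟩

variable {M : Type u} [AddCommGroup M] [Module R M] {ℳ : ι → AddSubgroup M} [Decomposition ℳ]
  [SetLike.GradedSMul 𝒜 ℳ]

/-- Bass numbers are read off a minimal *injective resolution. -/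
theorem bassNum_eq_of_minimal (E : StarInjRes 𝒜 ℳ)
    (hmin0 : ∀ W : Submodule R (E.X 0).carrier, W.IsHomogeneous (E.X 0).gr → W ≠ ⊥ →
      W ⊓ LinearMap.range E.ε ≠ ⊥)
    (hmin : ∀ (n : ℕ) (W : Submodule R (E.X (n + 1)).carrier), W.IsHomogeneous (E.X (n + 1)).gr →
      W ≠ ⊥ → W ⊓ LinearMap.range (E.d n) ≠ ⊥)
    (p : HomogeneousIdeal 𝒜) [p.toIdeal.IsPrime] (i : ℕ) :
    bassNum p.toIdeal M i = bassNum p.toIdeal (E.X i).carrier 0 := by
  set P := p.toIdeal with hPdef
  let X : ℕ → Type u := fun n => (E.X n).carrier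
  let d : ∀ n, X n →ₗ[R] X (n + 1) := E.d
  set A := Localization.AtPrime P
  set JA := P.map (algebraMap R A)
  let Y := locObj P.primeCompl X
  let dY := locD P.primeCompl X d
  have hdY : ∀ n, LinearMap.ker (dY (n + 1)) = LinearMap.range (dY n) := fun n =>
    LinearMap.exact_iff.1 (LocalizedModule.map_exact P.primeCompl (d n) (d (n + 1))
      (LinearMap.exact_iff.2 (E.exact_succ n)))
  have hY : ∀ n j : ℕ, GrothGoren.ExtZ A (A ⧸ JA) (Y n) (j + 1) := by
    intro n j
    have hE : GrothGoren.ExtZ R (R ⧸ P) (X n) (j + 1) :=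
      extZ_of_isStarInj 𝒜 (E.X n).gr (E.starInj n) j
        (GMod.of 𝒜 (R ⧸ p.toIdeal) (quotGr 𝒜 p)) (Module.Finite.quotient R p.toIdeal)
    have h := GrothGoren.extZ_baseChange (B := A) (X n) (R ⧸ P) hE
    exact GrothGoren.extZ_of_equiv
      (IsLocalizedModule.isBaseChange P.primeCompl A
        (LocalizedModule.mkLinearMap P.primeCompl (X n))).equiv
      (GrothGoren.extZ_of_equiv_left
        (Algebra.TensorProduct.quotIdealMapEquivTensorQuot A P).toLinearEquiv.symm h)
  obtain ⟨e₁⟩ := nonempty_extQ_equiv JA hdY hY (LocalizedModule.map P.primeCompl E.ε)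
    (LocalizedModule.map_injective P.primeCompl E.ε E.ε_injective)
    (LinearMap.exact_iff.1 (LocalizedModule.map_exact P.primeCompl E.ε (d 0)
      (LinearMap.exact_iff.2 E.exact_zero))) i
  -- the differential vanishes on the torsion
  have hzero : ∀ n, ∀ y ∈ LocCoh.torsionBy JA (Y n), dY n y = 0 := by
    intro n y hy
    obtain ⟨z, t, rfl, hz⟩ := exists_clear P.primeCompl P (IsNoetherian.noetherian P) y hy
    obtain ⟨s, hs, hsz⟩ : ∃ s ∉ P, s • z ∈ LinearMap.ker (d n) := by
      refine exists_smul_mem_of_ess 𝒜 P p.isHomogeneous (E.X n).gr _ ?_ hz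
      cases n with
      | zero => intro W hW hW0; rw [E.exact_zero]; exact hmin0 W hW hW0
      | succ n => intro W hW hW0; rw [E.exact_succ n]; exact hmin n W hW hW0
    show locD P.primeCompl X d n (LocalizedModule.mk z t) = 0
    rw [LocalizedModule.map_mk, ← LocalizedModule.mk_cancel_common_left (⟨s, hs⟩ : P.primeCompl) t,
      show (⟨s, hs⟩ : P.primeCompl) • d n z = s • d n z from rfl, ← map_smul,
      LinearMap.mem_ker.1 hsz, LocalizedModule.zero_mk]
  have hcyc : cycT JA Y dY i = LocCoh.torsionBy JA (Y i) :=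
    inf_eq_left.2 fun y hy => hzero i y hy
  have hcob : cobT JA Y dY i = ⊥ := by
    cases i with
    | zero => rfl
    | succ n =>
      refine (Submodule.eq_bot_iff _).2 ?_
      rintro _ ⟨y, hy, rfl⟩
      exact hzero n y hy
  have e₂ : HT JA Y dY i ≃ₗ[A] LocCoh.torsionBy JA (Y i) :=
    (Submodule.quotEquivOfEqBot _ (by
      rw [hcob]; exact (Submodule.comap_bot _).trans (Submodule.ker_subtype _))).trans
      (LinearEquiv.ofEq _ _ hcyc)
  rw [bassNum_eq_length_extQ P i, bassNum_zero_eq_length P]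
  exact (e₁.trans e₂).length_eq

end GrothGr
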