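import Groth.Agent.GrMod.CMStarLocal
import Groth.Agent.GrMod.InjDimLocal
import Groth.Agent.GrMod.StarInj
import Groth.Agent.LocDual.GorensteinCriterion

/-!
# Gorenstein *local rings through the *injectivity of the top local cohomology

Helper library (no milestone statements here).
-/

universe u

open DirectSum GrLC CategoryTheory GrothGoren

namespace GrothGr

/-- `Ext^i(R/p, M) = 0` kills the `i`-th Bass number at `p`. -/
theorem bassNum_eq_zero_of_extZ {R : Type u} [CommRing R] [IsNoetherianRing R] (p : Ideal R)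
    [p.IsPrime] (M : Type u) [AddCommGroup M] [Module R M] (i : ℕ)
    (hE : GrothGoren.ExtZ R (R ⧸ p) M (i + 1)) : bassNum p M (i + 1) = 0 := by
  set A := Localization.AtPrime p
  have h := GrothGoren.extZ_baseChange (B := A) M (R ⧸ p) hE
  have h' : GrothGoren.ExtZ A (A ⧸ p.map (algebraMap R A)) (LocalizedModule p.primeCompl M) (i + 1) :=
    GrothGoren.extZ_of_equiv (IsLocalizedModule.isBaseChange p.primeCompl A
      (LocalizedModule.mkLinearMap p.primeCompl M)).equiv
      (GrothGoren.extZ_of_equiv_left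
        (Algebra.TensorProduct.quotIdealMapEquivTensorQuot A p).toLinearEquiv.symm h)
  rw [bassNum_eq_length_extQ p]
  exact Module.length_eq_zero_iff.2 h'

/-- A torsion module over a local ring with `Ext¹(k, -) = 0` is injective. -/
theorem injective_of_torsion {A : Type u} [CommRing A] [IsLocalRing A] [IsNoetherianRing A]
    (N : Type u) [AddCommGroup N] [Module A N]
    (htor : ∀ x : N, ∃ k : ℕ, ∀ r ∈ IsLocalRing.maximalIdeal A ^ k, r • x = 0)
    (hext : GrothGoren.ExtZ A (IsLocalRing.ResidueField A) N 1) : Module.Injective A N := by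
  refine injective_of_bassNum_one N fun p _ => ?_
  by_cases hp : p = IsLocalRing.maximalIdeal A
  · subst hp
    exact bassNum_eq_zero_of_extZ _ N 0 hext
  haveI : Subsingleton (LocalizedModule p.primeCompl N) := by
    refine subsingleton_of_forall_eq 0 fun z => ?_
    induction z using LocalizedModule.induction_on with
    | h x t =>
      obtain ⟨k, hk⟩ := htor x
      obtain ⟨s, hs, hsp⟩ := SetLike.not_le_iff_exists.1 fun hle : IsLocalRing.maximalIdeal A ≤ p =>
        hp ((IsLocalRing.maximalIdeal.isMaximal A).eq_of_le (Ideal.IsPrime.ne_top inferInstance) hle).symm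
      rw [← LocalizedModule.zero_mk (1 : p.primeCompl), LocalizedModule.mk_eq]
      refine ⟨⟨s ^ k, fun h => hsp (Ideal.IsPrime.mem_of_pow_mem inferInstance k h)⟩, ?_⟩
      simp only [one_smul, smul_zero, Submonoid.smul_def]
      exact hk _ (Ideal.pow_mem_pow hs k)
  refine (bassNum_eq_zero_iff p N 1).2 ?_
  haveI : Module.Injective (Localization.AtPrime p) (LocalizedModule p.primeCompl N) :=
    ⟨fun _ _ _ _ _ _ f _ g => ⟨0, fun x => Subsingleton.elim _ _⟩⟩
  exact extZ_of_injective

variable {R : Type u} [CommRing R] [IsNoetherianRing R] (𝒜 : ℤ → AddSubgroup R) [GradedRing 𝒜]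
  {m : HomogeneousIdeal 𝒜}

/-- A CM *local ring with *injective top local cohomology is Gorenstein. -/
theorem isGorensteinRing_of_top_injective [LocCoh.IsCohenMacaulayRing R] (hm : IsStarLocal 𝒜 m)
    [m.toIdeal.IsPrime] (n : ℕ) (hn : m.toIdeal.height = n) (I : StarInjRes 𝒜 𝒜)
    {X : Type u} [AddCommGroup X] [Module R X] (𝒳 : ℤ → AddSubgroup X) [Decomposition 𝒳]
    [SetLike.GradedSMul 𝒜 𝒳] (hX : IsStarInj 𝒜 𝒳) (φ : I.H m n ≃ₗ[R] X) :
    LocCoh.IsGorensteinRing R := by
  set A := Localization.AtPrime m.toIdeal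
  haveI hCM : LocCoh.IsCohenMacaulayLocalRing A :=
    LocCoh.IsCohenMacaulayRing.isCohenMacaulayLocalRing_localization m.toIdeal
  have hdim : ringKrullDim A = n := by
    rw [IsLocalization.AtPrime.ringKrullDim_eq_height m.toIdeal A, hn]
    rfl
  -- the cohomology of `A` lives in degree `n`
  have hvan : ∀ i, i ≠ n → Subsingleton (LocCoh.H (IsLocalRing.maximalIdeal A) i A) := by
    intro i hi
    rcases lt_or_gt_of_ne hi with hlt | hgt
    · refine (Groth.LocCohBase.le_idealDepth_iff_localCohomology _ n A).1 ?_ i hlt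
      exact le_of_eq (Groth.CanMod.depth_self hCM hdim).symm
    · exact Groth.LocCohBase.subsingleton_H_of_supportDim_lt _ A
        (by rw [Module.supportDim_self_eq_ringKrullDim, hdim]; exact_mod_cast hgt)
  -- its value is injective
  obtain ⟨eH⟩ := nonempty_H_equiv 𝒜 𝒜 m I n
  obtain ⟨eA⟩ := nonempty_localized_H_equiv m.toIdeal R n
  let eX : X ≃ₗ[R] LocCoh.H m.toIdeal n R := φ.symm.trans eH
  let eX' : LocalizedModule m.toIdeal.primeCompl X ≃ₗ[A]
      LocalizedModule m.toIdeal.primeCompl (LocCoh.H m.toIdeal n R) :=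
    LinearEquiv.ofBijective (LocalizedModule.map m.toIdeal.primeCompl eX.toLinearMap)
      ⟨LocalizedModule.map_injective _ _ eX.injective, LocalizedModule.map_surjective _ _ eX.surjective⟩
  let eT : LocalizedModule m.toIdeal.primeCompl X ≃ₗ[A] LocCoh.H (IsLocalRing.maximalIdeal A) n A :=
    eX' ≪≫ₗ eA ≪≫ₗ ((localCohomology _ n).mapIso (localizedSelfEquiv m.toIdeal).toModuleIso).toLinearEquiv
  have hext : GrothGoren.ExtZ A (IsLocalRing.ResidueField A) (LocCoh.H (IsLocalRing.maximalIdeal A) n A) 1 :=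
    GrothGoren.extZ_of_equiv eT ((bassNum_eq_zero_iff m.toIdeal X 1).1
      (bassNum_eq_zero_of_isStarInj 𝒜 𝒳 hX m 0))
  haveI hinj : Module.Injective A (LocCoh.H (IsLocalRing.maximalIdeal A) n A) :=
    injective_of_torsion _ (fun x => Groth.LocCohBase.exists_pow_smul_eq_zero n _ x) hext
  have hA : InjLT A A (n + 1) := injLT_of_residueField fun i hi =>
    Groth.LocDual.extZ_residueField_of_H n A hvan hinj i (by omega)
  -- globalize
  have hR : InjLT R R (n + 2) := injLT_of_localized_starLocal 𝒜 hm 𝒜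
    (injLT_of_equiv (localizedSelfEquiv m.toIdeal).symm hA)
  exact ⟨fun p hp => (isGorenstein_iff _).2 ⟨n + 2,
    injLT_of_equiv (localizedSelfEquiv p) (injLT_localized p.primeCompl (n + 1) R hR)⟩⟩

/-- The top local cohomology of a Gorenstein *local ring is *injective. -/
theorem exists_starInj_top_H [LocCoh.IsGorensteinRing R] (hm : IsStarLocal 𝒜 m) [m.toIdeal.IsPrime]
    (n : ℕ) (hn : m.toIdeal.height = n) (I : StarInjRes 𝒜 𝒜) :
    ∃ (X : GMod.{u} 𝒜) (φ : I.H m n ≃ₗ[R] X.carrier), IsStarInj 𝒜 X.gr ∧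
      IsGrHom (I.Hgr m n) X.gr φ.toLinearMap := by
  letI := (quotGr_isInternal 𝒜 m).chooseDecomposition
  obtain ⟨E, e, he⟩ := exists_starInjHull 𝒜 (quotGr 𝒜 m)
  letI := E.dec
  haveI := E.gsmul
  obtain ⟨g, φ, hφ⟩ := exists_top_H_equiv 𝒜 hm
    (LocCoh.IsGorensteinRing.isGorensteinLocalRing_localization m.toIdeal) n hn I he
  refine ⟨shiftGMod E (-g), φ, isStarInj_shiftGMod E (-g) he.starInj, fun j x hx => ?_⟩
  show φ x ∈ E.gr (j - -g)
  rw [sub_neg_eq_add]
  exact hφ j x hx

end GrothGr
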